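import Mathlib.Algebra.BigOperators.Fin
import Mathlib.Algebra.Order.BigOperators.Ring.Finset
import Mathlib.Data.Fintype.BigOperators
import Mathlib.Logic.Equiv.Fin.Basic
import Mathlib.RingTheory.Int.Basic
import Mathlib.Tactic.Linarith
import Mathlib.Tactic.Ring
import Mathlib.Tactic.LinearCombination
import Mathlib.Tactic.IntervalCases
import Mathlib.Tactic.FinCases

/-!
# Integer columns of norm 9 in the block of the central quotient
-/

set_option autoImplicit false
set_option linter.unusedSectionVars false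

namespace Cfsg.Agent.ThreeExtra

open scoped Classical

variable {ι : Type*} [Fintype ι]

theorem sq_mem {a : ℤ} (ha : a ≠ 0) (h : a * a < 9) :
    a = 1 ∨ a = -1 ∨ a = 2 ∨ a = -2 := by
  have h1 : -3 < a := by nlinarith
  have h2 : a < 3 := by nlinarith
  interval_cases a <;> simp_all

/-- The shape of the columns: nine units, or six rows with one entry `∓2` in each column. -/
theorem columns_shape {r : ℕ} (hr : 0 < r) (d : Fin r → ι → ℤ) (deg : ι → ℤ) (o : ι)
    (ho : ∀ j, d j o = 1) (hdego : deg o = 1) (hcong : ∀ j i, (3 : ℤ) ∣ deg i - d j i)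
    (hne : ∀ i, ∃ j, d j i ≠ 0)
    (hgram : ∀ j k, ∑ i, d j i * d k i = if j = k then 9 else 0)
    (hdeg : ∀ j, ∑ i, deg i * d j i = 0) :
    (Fintype.card ι = 9 ∧ r = 1) ∨
      (∃ (l : ℕ) (e : Fin l ⊕ Fin r ≃ ι) (i₀ : Fin l) (sg : ι → ℤ), l + r = 6 ∧
        e (Sum.inl i₀) = o ∧ sg o = 1 ∧ (∀ i, sg i * sg i = 1) ∧
        (∀ j i, sg (e (Sum.inl i)) * d j (e (Sum.inl i)) = 1) ∧
        ∀ j k, sg (e (Sum.inr k)) * d j (e (Sum.inr k)) = if j = k then -2 else 1) := by
  have hnz : ∀ j i, d j i ≠ 0 := by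
    intro j i hji
    obtain ⟨k, hk⟩ := hne i
    have h1 : (3 : ℤ) ∣ d k i := by
      have h := dvd_sub (hcong j i) (hcong k i)
      rw [hji] at h
      simpa using h
    obtain ⟨m, hm⟩ := h1
    have hio : i ≠ o := fun e => by rw [e, ho j] at hji; exact one_ne_zero hji
    have hg := hgram k k
    rw [if_pos rfl] at hg
    have h2 := Finset.sum_le_sum_of_subset_of_nonneg (f := fun i => d k i * d k i)
      (s := {i, o}) (t := Finset.univ) (Finset.subset_univ _) fun _ _ _ => mul_self_nonneg _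
    rw [Finset.sum_pair hio, hg, ho k, hm] at h2
    have hm0 : m ≠ 0 := fun e => hk (by rw [hm, e, mul_zero])
    have : 1 ≤ m * m := by nlinarith [mul_self_pos.2 hm0]
    nlinarith
  have hsmall : ∀ j i, d j i = 1 ∨ d j i = -1 ∨ d j i = 2 ∨ d j i = -2 := by
    intro j i
    refine sq_mem (hnz j i) ?_
    by_cases hio : i = o
    · rw [hio, ho j]; norm_num
    have hg := hgram j j
    rw [if_pos rfl] at hg
    have h2 := Finset.sum_le_sum_of_subset_of_nonneg (f := fun i => d j i * d j i)
      (s := {i, o}) (t := Finset.univ) (Finset.subset_univ _) fun _ _ _ => mul_self_nonneg _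
    rw [Finset.sum_pair hio, hg, ho j] at h2
    linarith
  set sg : ι → ℤ := fun i => if (3 : ℤ) ∣ deg i - 1 then 1 else -1 with hsg
  have hsq : ∀ i, sg i * sg i = 1 := fun i => by simp only [hsg]; split_ifs <;> norm_num
  have hval : ∀ j i, sg i * d j i = 1 ∨ sg i * d j i = -2 := by
    intro j i
    obtain ⟨m, hm⟩ := hcong j i
    simp only [hsg]
    split_ifs with h
    · obtain ⟨n, hn⟩ := h
      rcases hsmall j i with e | e | e | e <;> rw [e] at hm ⊢ <;> omega
    · rcases hsmall j i with e | e | e | e <;> rw [e] at hm ⊢ <;>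
        first
          | (exfalso; exact h ⟨m, by omega⟩)
          | (exfalso; exact h ⟨m - 1, by omega⟩)
          | omega
  set t : Fin r → Finset ι := fun j => Finset.univ.filter fun i => sg i * d j i = -2 with ht
  have hsum : ∀ j, (Fintype.card ι : ℤ) + 3 * ((t j).card : ℤ) = 9 := by
    intro j
    have hg := hgram j j
    rw [if_pos rfl, Finset.sum_congr rfl (g := fun i => 1 + 3 * if i ∈ t j then (1 : ℤ) else 0)
      fun i _ => by
        rw [show d j i * d j i = (sg i * d j i) * (sg i * d j i) by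
          linear_combination -(d j i * d j i) * hsq i]
        rcases hval j i with e | e <;> simp [ht, e],
      Finset.sum_add_distrib, ← Finset.mul_sum, Finset.sum_boole, Finset.sum_const] at hg
    simpa using hg
  have hsgo : sg o = 1 := by simp [hsg, hdego]
  have hot : ∀ j, o ∉ t j := fun j hh => by
    simp [ht, hsgo, ho j] at hh
  obtain ⟨j₀⟩ : Nonempty (Fin r) := ⟨⟨0, hr⟩⟩
  rcases (show (t j₀).card = 0 ∨ (t j₀).card = 1 ∨ (t j₀).card = 2 by
    have := hsum j₀
    have h0 : 0 < Fintype.card ι := Fintype.card_pos_iff.2 ⟨o⟩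
    omega) with h0 | h1 | h2
  · left
    have hc : Fintype.card ι = 9 := by have := hsum j₀; omega
    refine ⟨hc, ?_⟩
    by_contra hr1
    have hj1 : 1 < r := by omega
    have hall : ∀ j i, sg i * d j i = 1 := fun j i => (hval j i).resolve_right fun e => by
      have hmem : i ∈ t j := Finset.mem_filter.2 ⟨Finset.mem_univ _, e⟩
      have h0' : (t j).card = 0 := by have := hsum j; omega
      rw [Finset.card_eq_zero.1 h0'] at hmem
      exact absurd hmem (Finset.notMem_empty i)
    have h := hgram ⟨0, hr⟩ ⟨1, hj1⟩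
    rw [if_neg (by simp [Fin.ext_iff]), Finset.sum_congr rfl (g := fun _ => (1 : ℤ)) fun i _ => by
      rw [show d ⟨0, hr⟩ i * d ⟨1, hj1⟩ i = (sg i * d ⟨0, hr⟩ i) * (sg i * d ⟨1, hj1⟩ i) by
        linear_combination -(d ⟨0, hr⟩ i * d ⟨1, hj1⟩ i) * hsq i, hall, hall, mul_one],
      Finset.sum_const, Finset.card_univ, hc] at h
    norm_num at h
  · right
    have hc : Fintype.card ι = 6 := by have := hsum j₀; omega
    have hcard : ∀ j, (t j).card = 1 := fun j => by have := hsum j; omega
    choose m hm using fun j => Finset.card_eq_one.1 (hcard j)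
    have hd : ∀ j i, sg i * d j i = if i = m j then -2 else 1 := fun j i => by
      rcases hval j i with e | e
      · rw [e, if_neg]
        intro he
        have : i ∈ t j := by rw [hm j]; exact Finset.mem_singleton.2 he
        simp [ht, e] at this
      · have : i ∈ t j := Finset.mem_filter.2 ⟨Finset.mem_univ _, e⟩
        rw [hm j, Finset.mem_singleton] at this
        rw [e, if_pos this]
    have hinj : Function.Injective m := by
      intro j k hjk
      by_contra hne'
      have h := hgram j k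
      rw [if_neg hne', Finset.sum_congr rfl (g := fun i => 1 + 3 * if i = m j then (1 : ℤ) else 0)
        fun i _ => by
          rw [show d j i * d k i = (sg i * d j i) * (sg i * d k i) by
            linear_combination -(d j i * d k i) * hsq i, hd, hd, ← hjk]
          split_ifs <;> norm_num,
        Finset.sum_add_distrib, ← Finset.mul_sum, Finset.sum_ite_eq', Finset.sum_const,
        Finset.card_univ, hc] at h
      norm_num at h
    have hmo : ∀ j, m j ≠ o := fun j e => hot j (by rw [hm j, e]; exact Finset.mem_singleton_self _)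
    let e₂ : Fin r ≃ Set.range m := Equiv.ofInjective m hinj
    let l := Fintype.card ↥((Set.range m)ᶜ : Set ι)
    let e₁ : Fin l ≃ ↥((Set.range m)ᶜ : Set ι) := (Fintype.equivFin _).symm
    let e : Fin l ⊕ Fin r ≃ ι :=
      (Equiv.sumComm _ _).trans ((Equiv.sumCongr e₂ e₁).trans (Equiv.Set.sumCompl (Set.range m)))
    have hel : ∀ i, e (Sum.inl i) = (e₁ i : ι) := fun i => rfl
    have her : ∀ k, e (Sum.inr k) = m k := fun k => rfl
    refine ⟨l, e, e₁.symm ⟨o, fun ⟨j, hj⟩ => hmo j hj⟩, sg, ?_, ?_, hsgo, hsq, fun j i => ?_,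
      fun j k => ?_⟩
    · have := Fintype.card_congr e
      rw [Fintype.card_sum, Fintype.card_fin, Fintype.card_fin, hc] at this
      exact this
    · rw [hel, Equiv.apply_symm_apply]
    · rw [hel, hd, if_neg]
      exact fun he => (e₁ i).2 ⟨j, he.symm⟩
    · rw [her, hd]
      simp only [hinj.eq_iff, eq_comm]
  · exfalso
    have hc : Fintype.card ι = 3 := by have := hsum j₀; omega
    have hunion : (Finset.univ : Finset ι) = insert o (t j₀) := by
      symm
      apply Finset.eq_univ_of_card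
      rw [Finset.card_insert_of_notMem (hot j₀), h2, hc]
    have h := hdeg j₀
    rw [hunion, Finset.sum_insert (hot j₀), hdego, ho j₀, one_mul] at h
    have heven : ∀ i ∈ t j₀, (2 : ℤ) ∣ deg i * d j₀ i := by
      intro i hi
      have e := (Finset.mem_filter.1 hi).2
      refine Dvd.dvd.mul_left ?_ _
      refine ⟨-sg i, ?_⟩
      linear_combination sg i * e - d j₀ i * hsq i
    have h2' := Finset.dvd_sum heven
    omega

/-- An integral vector of norm one. -/
theorem unit_vector {r l : ℕ} (hl : l + r = 6) (hr : r = 1 ∨ r = 2 ∨ r = 4) (c : Fin l ⊕ Fin r → ℤ)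
    (hQ : 9 * (∑ i, c i * c i) - ∑ j : Fin r, (∑ i, c i - 3 * c (Sum.inr j)) ^ 2 = 9) :
    ∃ S : ℤ, ∑ i, c i = 3 * S ∧ ∃ i : Fin l, (c (Sum.inl i) - S = 1 ∨ c (Sum.inl i) - S = -1) ∧
      ∀ k, k ≠ i → c (Sum.inl k) = S := by
  set T := ∑ i, c i with hT
  have h3 : (3 : ℤ) ∣ T := by
    have hmod : (3 : ℤ) ∣ (r : ℤ) * (T * T) := by
      refine ⟨3 * (∑ i, c i * c i) - 3 - ∑ j : Fin r, (3 * (c (Sum.inr j) * c (Sum.inr j)) -
        2 * (T * c (Sum.inr j))), ?_⟩
      have hexp : ∀ j : Fin r, (T - 3 * c (Sum.inr j)) ^ 2 = T * T + 3 * (3 * (c (Sum.inr j) *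
          c (Sum.inr j)) - 2 * (T * c (Sum.inr j))) := fun j => by ring
      simp only [hexp, Finset.sum_add_distrib, ← Finset.mul_sum, Finset.sum_const, Finset.card_univ,
        Fintype.card_fin, nsmul_eq_mul] at hQ
      linear_combination -hQ
    have hp : Prime (3 : ℤ) := Int.prime_three
    have h3r : ¬ (3 : ℤ) ∣ (r : ℤ) := by rcases hr with e | e | e <;> subst e <;> norm_num
    exact ((hp.dvd_or_dvd hmod).resolve_left h3r |> hp.dvd_or_dvd).elim id id
  obtain ⟨S, hS⟩ := h3
  refine ⟨S, hS, ?_⟩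
  have hsumT : ∑ i : Fin l, c (Sum.inl i) + ∑ j : Fin r, c (Sum.inr j) = 3 * S := by
    rw [← hS, hT, Fintype.sum_sum_type]
  have hsq : ∑ i : Fin l, (c (Sum.inl i) - S) ^ 2 = 1 := by
    rw [Fintype.sum_sum_type, hS] at hQ
    have e1 : ∀ j : Fin r, (3 * S - 3 * c (Sum.inr j)) ^ 2 =
        9 * (S * S) + 9 * (c (Sum.inr j) * c (Sum.inr j)) - 18 * S * c (Sum.inr j) := fun j => by
      ring
    have e2 : ∀ i : Fin l, (c (Sum.inl i) - S) ^ 2 =
        c (Sum.inl i) * c (Sum.inl i) - 2 * S * c (Sum.inl i) + S * S := fun i => by ring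
    simp only [e1, e2, Finset.sum_add_distrib, Finset.sum_sub_distrib, ← Finset.mul_sum,
      Finset.sum_const, Finset.card_univ, Fintype.card_fin, nsmul_eq_mul] at hQ ⊢
    have hl' : (l : ℤ) + r = 6 := by exact_mod_cast hl
    push_cast at hQ ⊢
    refine mul_left_cancel₀ (show (9 : ℤ) ≠ 0 by norm_num) ?_
    linear_combination hQ - (18 * S) * hsumT + (9 * S * S) * hl'
  have hle : ∀ i, (c (Sum.inl i) - S) ^ 2 ≤ 1 := fun i =>
    hsq ▸ Finset.single_le_sum (f := fun i => (c (Sum.inl i) - S) ^ 2)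
      (fun _ _ => sq_nonneg _) (Finset.mem_univ i)
  obtain ⟨i, hi⟩ : ∃ i, c (Sum.inl i) - S ≠ 0 := by
    by_contra hh
    push Not at hh
    rw [Finset.sum_eq_zero fun i _ => by rw [hh i]; norm_num] at hsq
    norm_num at hsq
  refine ⟨i, ?_, fun k hk => ?_⟩
  · have := hle i
    have h1 : -1 ≤ c (Sum.inl i) - S := by nlinarith
    have h2 : c (Sum.inl i) - S ≤ 1 := by nlinarith
    omega
  · have h := Finset.sum_le_sum_of_subset_of_nonneg (f := fun i => (c (Sum.inl i) - S) ^ 2)
      (s := {k, i}) (t := Finset.univ) (Finset.subset_univ _) fun _ _ _ => sq_nonneg _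
    rw [Finset.sum_pair hk, hsq] at h
    have h1 : 1 ≤ (c (Sum.inl i) - S) ^ 2 := by
      have := mul_self_pos.2 hi
      rw [pow_two]; omega
    nlinarith [sq_nonneg (c (Sum.inl k) - S)]

end Cfsg.Agent.ThreeExtra
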