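import Cfsg.Agent.Lib.ThreeExtra.Section
import Cfsg.Agent.Lib.ThreeExtra.Lattice
import Cfsg.Agent.Lib.BlockCount.GaloisStable
import Cfsg.Agent.Lib.BlockCount.Criterion
import Cfsg.Agent.Lib.Blocks.NilpotentRank.RegCombination
import Cfsg.Agent.Lib.BlocksX.Central
import Cfsg.Agent.Lib.CharInt.Galois

/-!
# The principal block when `z` is central

The members trivial on `z` are six, with signed values `1` at each `x k` for `l` of them and
`1 - 3δ` for the others; the `2l` faithful ones restrict to the regular elements as signed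
differences of these.
-/

set_option autoImplicit false
set_option linter.unusedSectionVars false
set_option linter.style.haveILetI false

namespace Cfsg.Agent.ThreeExtra

open Cfsg Cfsg.Agent
open scoped ComplexConjugate Classical

universe u

/-- The power `k` fixes the 3-regular elements and inverts the 3-elements. -/
structure Twist (G : Type u) [Group G] (k : ℕ) : Prop where
  cop : k.Coprime (Nat.card G)
  reg : ∀ s : G, IsPRegular 3 s → s ^ k = s
  sing : ∀ u : G, (∃ m, orderOf u = 3 ^ m) → u ^ k = u⁻¹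

variable {G : Type u} [Group G] [Fintype G] [Fact (Nat.Prime 3)] {z : G} {r : ℕ} {x : Fin r → G}
  {M : Ideal AlgInt} [M.IsMaximal] {k : ℕ}

/-- The twist of a character by `k`. -/
noncomputable def tw (T : Twist G k) (χ : IrrCharacter G) : IrrCharacter G :=
  ⟨fun g => χ.1 (g ^ k), CharInt.isIrrCharacter_pow χ.2 T.cop⟩

theorem tw_apply (T : Twist G k) (χ : IrrCharacter G) (g : G) : (tw T χ).1 g = χ.1 (g ^ k) := rfl

theorem tw_mem (T : Twist G k) (hM : IsPModular 3 M) {χ : IrrCharacter G}
    (hχ : χ ∈ principalBlock M G) : tw T χ ∈ principalBlock M G := by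
  rw [BlockCount.mem_principalBlock_iff hM] at hχ ⊢
  show BlockCount.pregSum 3 (fun g => χ.1 (g ^ k)) ≠ 0
  rwa [BlockCount.pregSum_powTwist 3 T.cop]

theorem tw_tw (T : Twist G k) (χ : IrrCharacter G) : tw T (tw T χ) = χ := by
  refine Subtype.ext (funext fun g => ?_)
  show χ.1 ((g ^ k) ^ k) = χ.1 g
  obtain ⟨u, hu⟩ := Blocks.exists_isPPart (p := 3) g
  obtain ⟨s, hus, hc, hk, hs⟩ := hu
  have h1 : g ^ k = u⁻¹ * s := by rw [← hus, hc.mul_pow, T.reg s hs, T.sing u hk]
  rw [h1, hc.inv_left.mul_pow, T.reg s hs, inv_pow, T.sing u hk, inv_inv, hus]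

/-- A cube root of unity in the upper or lower half plane. -/
theorem cube_root_cases {a b : ℂ} (ha : a ^ 3 = 1) (hb : b ^ 3 = 1) (ha1 : a ≠ 1) (hb1 : b ≠ 1) :
    a.im ≠ 0 ∧ conj a ≠ a ∧ a + conj a + 1 = 0 ∧ (a = b ∨ conj a = b) := by
  have qa : a ^ 2 + a + 1 = 0 := (mul_eq_zero.1 (show (a - 1) * (a ^ 2 + a + 1) = 0 by
    linear_combination ha)).resolve_left (sub_ne_zero.2 ha1)
  have qb : b ^ 2 + b + 1 = 0 := (mul_eq_zero.1 (show (b - 1) * (b ^ 2 + b + 1) = 0 by
    linear_combination hb)).resolve_left (sub_ne_zero.2 hb1)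
  have him : a.im ≠ 0 := fun h => by
    have h2 := congrArg Complex.re qa
    simp only [pow_two, Complex.add_re, Complex.mul_re, h, Complex.one_re, Complex.zero_re] at h2
    nlinarith [sq_nonneg (2 * a.re + 1)]
  have hne : conj a ≠ a := fun h => him (Complex.conj_eq_iff_im.1 h)
  have qc : conj a ^ 2 + conj a + 1 = 0 := by simpa using congrArg conj qa
  have hsum : a + conj a + 1 = 0 := (mul_eq_zero.1 (show (conj a - a) * (a + conj a + 1) = 0 by
    linear_combination qc - qa)).resolve_left (sub_ne_zero.2 hne)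
  refine ⟨him, hne, hsum, ?_⟩
  rcases mul_eq_zero.1 (show (a - b) * (a + b + 1) = 0 by linear_combination qa - qb) with h | h
  · exact Or.inl (sub_eq_zero.1 h)
  · exact Or.inr (by linear_combination hsum - h)

theorem sum_pick {α : Type*} [Fintype α] {E : Type*} [AddCommMonoid E] (a : α) (f : α → E)
    {inst : ∀ x, Decidable (x = a)} : (∑ x, @ite E (x = a) (inst x) (f x) 0) = f a := by
  rw [Finset.sum_eq_single a (fun b _ hb => if_neg hb)
    (fun h => absurd (Finset.mem_univ a) h), if_pos rfl]

/-- Signed description of the principal block when `z` is central. -/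
structure Local (M : Ideal AlgInt) (T : Twist G k) (z : G) (x : Fin r → G) (l : ℕ) where
  hl : l + r = 6
  i₀ : Fin l
  th : Fin l → IrrCharacter G
  th' : Fin r → IrrCharacter G
  ps : Fin l → IrrCharacter G
  s : Fin l → ℤ
  s' : Fin r → ℤ
  e : Fin l → ℤ
  s_sq : ∀ i, s i * s i = 1
  s'_sq : ∀ j, s' j * s' j = 1
  e_sq : ∀ i, e i * e i = 1
  th_triv : th i₀ = Char.trivialChar G
  s_triv : s i₀ = 1
  inj : Function.Injective
    (Sum.elim (Sum.elim th th') (Sum.elim ps fun i => tw T (ps i)))
  mem : ∀ a, Sum.elim (Sum.elim th th') (Sum.elim ps fun i => tw T (ps i)) a ∈ principalBlock M G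
  surj : ∀ η ∈ principalBlock M G,
    ∃ a, Sum.elim (Sum.elim th th') (Sum.elim ps fun i => tw T (ps i)) a = η
  th_x : ∀ i m, (s i : ℂ) * (th i).1 (x m) = 1
  th'_x : ∀ j m, (s' j : ℂ) * (th' j).1 (x m) = if m = j then -2 else 1
  ps_x : ∀ i m, (ps i).1 (x m) = 0
  th_z : ∀ a, BlocksX.centScalar (Sum.elim th th' a).1 z = 1
  reg : ∀ g, IsPRegular 3 g → ∀ i j,
    (e i : ℂ) * (ps i).1 g = (s i : ℂ) * (th i).1 g - (s' j : ℂ) * (th' j).1 g
  rank : blockRank 3 (principalBlock M G) = l

namespace Data

variable (D : Data G z x) (hz : z ∈ Subgroup.center G)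
include D hz

theorem conj_z {u : G} (h : IsConj z u) : u = z := by
  obtain ⟨c, hc⟩ := isConj_iff.1 h
  rw [← hc]; exact BlocksX.conj_mem_center hz

theorem cube_centScalar (χ : IrrCharacter G) : BlocksX.centScalar χ.1 z ^ 3 = 1 := by
  have h3 : z * z * z = 1 := by
    have := pow_orderOf_eq_one z
    rwa [D.z_ord, pow_succ, pow_two] at this
  rw [pow_succ, pow_two, ← BlocksX.centScalar_mul χ hz hz,
    ← BlocksX.centScalar_mul χ (mul_mem hz hz) hz, h3, BlocksX.centScalar_one]

theorem apply_faithful {χ : IrrCharacter G} (hχ : BlocksX.centScalar χ.1 z ≠ 1) (j : Fin r) :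
    χ.1 (x j) = 0 := by
  obtain ⟨c, hc⟩ := isConj_iff.1 (D.x_mul j)
  have h : χ.1 (x j) = BlocksX.centScalar χ.1 z * χ.1 (x j) := by
    rw [← BlocksX.apply_mul_central χ hz, ← hc, Blocks.irr_classFun χ]
  by_contra h0
  exact hχ ((mul_left_eq_self₀.1 h.symm).resolve_right h0)

/-- The section of a central `3`-element is a translate of the regular elements. -/
theorem sum_section_central {a : G} (ha : a ∈ Subgroup.center G)
    (hap : ∃ m, orderOf a = 3 ^ m) (pp : G → G) (hpp : ∀ g, IsPPart 3 g (pp g))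
    {E : Type*} [AddCommMonoid E] (F : G → E) :
    ∑ g ∈ Finset.univ.filter (fun g => IsConj a (pp g)), F g =
      ∑ s ∈ Finset.univ.filter (fun s : G => IsPRegular 3 s), F (s * a) := by
  refine (Finset.sum_nbij' (fun s => s * a) (fun g => g * a⁻¹) (fun s hs => ?_) (fun g hg => ?_)
    (fun s _ => by simp) (fun g _ => by simp) (fun s _ => rfl)).symm
  · simp only [Finset.mem_filter, Finset.mem_univ, true_and, Finset.mem_coe] at hs ⊢
    have hc : Commute a s := (Subgroup.mem_center_iff.1 ha s).symm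
    rw [Blocks.IsPPart.unique (hpp (s * a)) ⟨s, hc.eq, hc, hap, hs⟩]
  · simp only [Finset.mem_filter, Finset.mem_univ, true_and, Finset.mem_coe] at hg ⊢
    obtain ⟨c, hc⟩ := isConj_iff.1 hg
    rw [BlocksX.conj_mem_center ha] at hc
    obtain ⟨y, hy, hcom, -, hyr⟩ := hpp g
    rw [← hc] at hy hcom
    rw [← hy, hcom.eq, mul_inv_cancel_right]
    exact hyr

/-- Inner products by sections. -/
theorem classInner_split (hM : IsPModular 3 M) {χ η : IrrCharacter G}
    (hχ : χ ∈ principalBlock M G) (hη : η ∈ principalBlock M G) :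
    (if χ = η then (1 : ℂ) else 0) =
      (1 + BlocksX.centScalar χ.1 z * conj (BlocksX.centScalar η.1 z) +
        conj (BlocksX.centScalar χ.1 z) * BlocksX.centScalar η.1 z) *
          BrauerPairs.regDot 3 χ.1 η.1 +
        9⁻¹ * ∑ j, χ.1 (x j) * conj (η.1 (x j)) := by
  choose pp hpp using fun g : G => Blocks.exists_isPPart (p := 3) g
  have hG0 : (Nat.card G : ℂ) ≠ 0 := Nat.cast_ne_zero.2 Nat.card_pos.ne'
  have hreg : (Nat.card G : ℂ) * BrauerPairs.regDot 3 χ.1 η.1 =
      ∑ g ∈ Finset.univ.filter (fun g : G => IsPRegular 3 g), χ.1 g * conj (η.1 g) := by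
    rw [BrauerPairs.regDot, classInner, ← mul_assoc, mul_inv_cancel₀ hG0, one_mul, Finset.sum_filter]
    refine Finset.sum_congr rfl fun g _ => ?_
    unfold Char.regFun IsPRegular
    by_cases h : 3 ∣ orderOf g <;> simp [h]
  have hinv : z⁻¹ ∈ Subgroup.center G := inv_mem hz
  have hsec : ∀ (a : G) (ha : a ∈ Subgroup.center G), (∃ m, orderOf a = 3 ^ m) →
      ∑ g ∈ Finset.univ.filter (fun g => IsConj a (pp g)), χ.1 g * conj (η.1 g) =
        BlocksX.centScalar χ.1 a * conj (BlocksX.centScalar η.1 a) *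
          ((Nat.card G : ℂ) * BrauerPairs.regDot 3 χ.1 η.1) := fun a ha hap => by
    rw [D.sum_section_central hz ha hap pp hpp, hreg, Finset.mul_sum]
    refine Finset.sum_congr rfl fun s _ => ?_
    rw [BlocksX.apply_mul_central χ ha, BlocksX.apply_mul_central η ha, map_mul]
    ring
  have hx : ∀ j, ∑ g ∈ Finset.univ.filter (fun g => IsConj (x j) (pp g)), χ.1 g * conj (η.1 g) =
      (Nat.card G : ℂ) * (9⁻¹ * (χ.1 (x j) * conj (η.1 (x j)))) := fun j => by
    rw [Finset.sum_congr rfl (g := fun _ => χ.1 (x j) * conj (η.1 (x j))) fun g hg => by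
      rw [D.apply_section_conj hM (hpp g) (Finset.mem_filter.1 hg).2 hχ,
        D.apply_section_conj hM (hpp g) (Finset.mem_filter.1 hg).2 hη],
      Finset.sum_const, nsmul_eq_mul, ← D.nine_mul_card hM pp hpp j]
    ring
  have hall : ∑ g : G, χ.1 g * conj (η.1 g) = (Nat.card G : ℂ) * if χ = η then 1 else 0 := by
    rw [← Char.classInner_irr χ η, classInner, ← mul_assoc, mul_inv_cancel₀ hG0, one_mul]
  rw [← Finset.sum_filter_add_sum_filter_not Finset.univ (fun g : G => IsPRegular 3 g),
    D.sum_singular pp hpp, hsec z hz D.z_pow, hsec z⁻¹ hinv D.zinv_pow,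
    Finset.sum_congr rfl fun j _ => hx j, ← BlocksX.conj_centScalar, ← BlocksX.conj_centScalar,
    Complex.conj_conj, ← Finset.mul_sum, ← Finset.mul_sum, ← hreg] at hall
  apply mul_left_cancel₀ hG0
  linear_combination -hall

theorem lrank_self (hM : IsPModular 3 M) :
    lrank M z = blockRank 3 (principalBlock M G) := by
  choose pp hpp using fun g : G => Blocks.exists_isPPart (p := 3) g
  have h := congrArg (fun t : ℝ => (t : ℂ))
    (sum_normAt_x.sum_class_principal hM pp hpp D.z_pow (a := z))
  simp only [Complex.ofReal_sum, Complex.ofReal_mul, Complex.ofReal_natCast, S4606.normAt_coe] at h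
  rw [D.sum_section_central hz hz D.z_pow pp hpp] at h
  rw [Finset.sum_congr rfl (g := fun s => ∑ η ∈ Finset.univ.filter (· ∈ principalBlock M G),
    η.1 s * conj (η.1 s)) (fun s _ => Finset.sum_congr rfl fun η _ => by
      rw [BlocksX.apply_mul_central η hz, map_mul, mul_mul_mul_comm,
        BlocksX.centScalar_mul_conj η hz, one_mul]),
    S4511.sum_regular_block hM.2.2 (Blocks.isPBlock_principalBlock hM.2.2 (M := M) (G := G))] at h
  exact (Nat.cast_injective (mul_left_cancel₀ (Nat.cast_ne_zero.2 Nat.card_pos.ne') h)).symm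

theorem card_eq_central (hM : IsPModular 3 M) :
    Nat.card (principalBlock M G) = 3 * blockRank 3 (principalBlock M G) + r := by
  rw [D.card_eq hM, lrank_inv, D.lrank_self hz hM]
  ring

/-- A member of the principal block trivial on `z` is nonzero at some `x j`. -/
theorem exists_apply_ne_zero (hM : IsPModular 3 M) (hr : 0 < r) {χ : IrrCharacter G}
    (hχ : χ ∈ principalBlock M G) (hε : BlocksX.centScalar χ.1 z = 1) :
    ∃ j, χ.1 (x j) ≠ 0 := by
  by_cases h1 : χ = Char.trivialChar G
  · exact ⟨⟨0, hr⟩, by rw [h1, Char.trivialChar_apply]; exact one_ne_zero⟩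
  by_contra hh
  push Not at hh
  have hε1 : BlocksX.centScalar (Char.trivialChar G).1 z = 1 := by simp [BlocksX.centScalar]
  have h := D.classInner_split hz hM hχ Blocks.trivial_mem_principalBlock
  rw [if_neg h1, hε, hε1, map_one, Finset.sum_eq_zero (fun j _ => by rw [hh j, zero_mul]),
    mul_zero, add_zero] at h
  have h0 : BrauerPairs.regDot 3 χ.1 (Char.trivialChar G).1 = 0 :=
    (mul_eq_zero.1 h.symm).resolve_left (by norm_num)
  refine BlockCount.pregSum_ne_zero hM hχ ?_
  rw [BrauerPairs.regDot, classInner, mul_eq_zero] at h0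
  rw [BlockCount.pregSum, Finset.sum_filter]
  refine Eq.trans (Finset.sum_congr rfl fun g _ => ?_)
    (h0.resolve_left (inv_ne_zero (Nat.cast_ne_zero.2 Nat.card_pos.ne')))
  simp [Char.regFun]

set_option maxHeartbeats 1000000 in
/-- The principal block. -/
theorem exists_local (hM : IsPModular 3 M) (T : Twist G k) (hr : r = 1 ∨ r = 2 ∨ r = 4) :
    ∃ l, Nonempty (Local M T z x l) := by
  have hr0 : 0 < r := by omega
  have hpM := hM.2.2
  have hB := Blocks.isPBlock_principalBlock hpM (M := M) (G := G)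
  let ι := {χ : IrrCharacter G // χ ∈ principalBlock M G ∧ BlocksX.centScalar χ.1 z = 1}
  let ι' := {χ : IrrCharacter G // χ ∈ principalBlock M G ∧ BlocksX.centScalar χ.1 z ≠ 1}
  have hcardB : Nat.card (principalBlock M G) = Fintype.card ι + Fintype.card ι' := by
    rw [Nat.card_eq_fintype_card, Fintype.card_subtype, Fintype.card_subtype, Fintype.card_subtype,
      ← Finset.card_filter_add_card_filter_not (p := fun χ : IrrCharacter G =>
        BlocksX.centScalar χ.1 z = 1), Finset.filter_filter, Finset.filter_filter]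
  let o : ι := ⟨Char.trivialChar G, Blocks.trivial_mem_principalBlock, by
    simp [BlocksX.centScalar]⟩
  set d : Fin r → ι → ℤ := fun j i => ival i.1 (x j) with hd
  have hdv : ∀ (i : ι) j, i.1.1 (x j) = (d j i : ℂ) := fun i j => D.apply_eq_ival i.1 j
  have hιsum : ∀ F : IrrCharacter G → ℂ, (∀ χ ∈ principalBlock M G,
      BlocksX.centScalar χ.1 z ≠ 1 → F χ = 0) →
      ∑ i : ι, F i.1 = ∑ χ ∈ Finset.univ.filter (· ∈ principalBlock M G), F χ := fun F hF => by
    rw [← Finset.sum_subtype (Finset.univ.filter fun χ : IrrCharacter G =>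
      χ ∈ principalBlock M G ∧ BlocksX.centScalar χ.1 z = 1) (fun χ => by simp)]
    refine Finset.sum_subset (fun χ hχ => by simp_all) fun χ hχ hn => hF χ (by simp_all) ?_
    simp_all
  have hgram : ∀ j m, ∑ i, d j i * d m i = if j = m then (9 : ℤ) else 0 := by
    intro j m
    have h := D.gram hM j m
    rw [← hιsum (fun χ => χ.1 (x j) * conj (χ.1 (x m))) fun χ _ hε => by
      rw [D.apply_faithful hz hε, zero_mul]] at h
    rw [Finset.sum_congr rfl (g := fun i : ι => ((d j i * d m i : ℤ) : ℂ)) fun i _ => by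
      rw [hdv, hdv, map_intCast, Int.cast_mul], ← Int.cast_sum] at h
    split_ifs with hjm
    · rw [if_pos hjm] at h; exact_mod_cast h
    · rw [if_neg hjm] at h; exact_mod_cast h
  have hdeg : ∀ j, ∑ i : ι, (Char.degree i.1 : ℤ) * d j i = 0 := by
    intro j
    have h := D.orth_regular hM (show IsPRegular 3 (1 : G) by simp [IsPRegular]) j
    rw [← hιsum (fun χ => χ.1 1 * χ.1 (x j)) fun χ _ hε => by
      rw [D.apply_faithful hz hε, mul_zero],
      Finset.sum_congr rfl (g := fun i : ι => (((Char.degree i.1 : ℤ) * d j i : ℤ) : ℂ))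
        fun i _ => by rw [hdv, Char.apply_one_eq_degree]; push_cast; rfl, ← Int.cast_sum] at h
    exact_mod_cast h
  have hne : ∀ i, ∃ j, d j i ≠ 0 := fun i => by
    obtain ⟨j, hj⟩ := D.exists_apply_ne_zero hz hM hr0 i.2.1 i.2.2
    exact ⟨j, fun e => hj (by rw [hdv, e, Int.cast_zero])⟩
  have hdo : ∀ j, d j o = 1 := fun j => Int.cast_injective (α := ℂ) (by
    rw [← hdv]; simp [o])
  have hdego : ((Char.degree o.1 : ℤ)) = 1 := Int.cast_injective (α := ℂ) (by
    rw [Int.cast_natCast, ← Char.apply_one_eq_degree]; simp [o])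
  -- the regular part of a member trivial on `z`
  set Rf : (G → ℂ) → (G → ℂ) := Char.regFun 3 with hRf
  set lc : (ι → ℤ) → (G → ℂ) := fun c => ∑ i, (c i : ℂ) • Rf i.1.1 with hlc
  have hdot : ∀ f f' : G → ℂ, classInner (Rf f) (Rf f') = BrauerPairs.regDot 3 f f' := by
    intro f f'
    rw [BrauerPairs.classInner_regFun_right]
    simp only [BrauerPairs.regDot, hRf, BrauerPairs.regFun_regFun]
  have hι : ∀ a b : ι, 3 * BrauerPairs.regDot 3 a.1.1 b.1.1 =
      (if a = b then 1 else 0) - 9⁻¹ * ∑ j, (d j a : ℂ) * d j b := by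
    intro a b
    have h := D.classInner_split hz hM a.2.1 b.2.1
    rw [a.2.2, b.2.2, map_one] at h
    simp only [hdv, map_intCast, ← Subtype.ext_iff] at h
    linear_combination -h
  have hlcdot : ∀ c c' : ι → ℤ, 3 * classInner (lc c) (lc c') =
      ((∑ i, c i * c' i : ℤ) : ℂ) - 9⁻¹ * ((∑ j, (∑ i, c i * d j i) * (∑ i, c' i * d j i) : ℤ) : ℂ) := by
    intro c c'
    simp only [hlc, Char.classInner_sum_left, Char.classInner_smul_left, Char.classInner_sum_right,
      Char.classInner_smul_right, hdot, map_intCast, Finset.mul_sum]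
    push_cast
    simp only [Finset.sum_mul, Finset.mul_sum]
    rw [Finset.sum_congr rfl fun b _ => Finset.sum_congr rfl (g := fun a => ((c a : ℂ) * c' b) *
      (if a = b then 1 else 0) - ∑ j, 9⁻¹ * ((c a : ℂ) * d j a * ((c' b : ℂ) * d j b))) fun a _ => by
        rw [show (3 : ℂ) * ((c' b : ℂ) * ((c a : ℂ) * BrauerPairs.regDot 3 a.1.1 b.1.1)) =
          (c a : ℂ) * c' b * (3 * BrauerPairs.regDot 3 a.1.1 b.1.1) by ring, hι, mul_sub,
          Finset.mul_sum, Finset.mul_sum]
        congr 1
        exact Finset.sum_congr rfl fun j _ => by ring]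
    simp only [Finset.sum_sub_distrib, mul_ite, mul_one, mul_zero]
    rw [Finset.sum_congr rfl fun b _ => sum_pick b _]
    congr 1
    rw [Finset.sum_congr rfl fun b _ => Finset.sum_comm, Finset.sum_comm]
  -- faithful members
  have hψ : ∀ ψ : ι', ∃ c : ι → ℤ, Rf ψ.1.1 = lc c := by
    rintro ⟨ψ, hψB, hψε⟩
    obtain ⟨n, hn, hns⟩ := Blocks.NilRank.exists_regular_combination hpM hB hψB
    refine ⟨fun i => n i.1, funext fun g => ?_⟩
    simp only [hlc, hRf, Finset.sum_apply, Pi.smul_apply, smul_eq_mul, Char.regFun]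
    by_cases hg : 3 ∣ orderOf g
    · simp [hg]
    simp only [if_neg hg]
    rw [hns g hg, ← Finset.sum_subtype (Finset.univ.filter fun χ : IrrCharacter G =>
      χ ∈ principalBlock M G ∧ BlocksX.centScalar χ.1 z = 1) (fun χ => by simp)
      (fun χ => (n χ : ℂ) * χ.1 g)]
    refine (Finset.sum_filter_of_ne fun χ _ hχ => ?_).symm
    have hn0 : n χ ≠ 0 := fun e => hχ (by simp [e])
    obtain ⟨h1, h2⟩ := hn χ hn0
    refine ⟨h1, ?_⟩
    rw [BlocksX.centScalar, h2 z (fun g => (Subgroup.mem_center_iff.1 hz g).symm) D.z_pow,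
      div_self (Char.IsIrrCharacter.apply_one_ne_zero χ.2)]
  have hψdot : ∀ a b : ι', BlocksX.centScalar a.1.1 z = BlocksX.centScalar b.1.1 z →
      3 * BrauerPairs.regDot 3 a.1.1 b.1.1 = if a = b then 1 else 0 := by
    intro a b he
    have h := D.classInner_split hz hM a.2.1 b.2.1
    rw [← he, mul_comm (conj _) (BlocksX.centScalar a.1.1 z),
      BlocksX.centScalar_mul_conj _ hz] at h
    simp only [D.apply_faithful hz a.2.2, zero_mul, Finset.sum_const_zero, mul_zero, add_zero,
      ← Subtype.ext_iff] at h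
    linear_combination -h
  rcases columns_shape hr0 d (fun i => (Char.degree i.1 : ℤ)) o hdo hdego
      (fun j i => D.dvd_degree_sub i.1 j) hne hgram hdeg with
    ⟨h9, hr1⟩ | ⟨l, eq', i₀, sg, hl, hi₀, hsgo, hsq, hth, hth'⟩
  · exfalso
    subst hr1
    have hk := D.card_eq_central hz hM
    rw [hcardB, h9] at hk
    obtain ⟨ψ⟩ : Nonempty ι' := Fintype.card_pos_iff.1 (by omega)
    obtain ⟨c, hc⟩ := hψ ψ
    have h := hlcdot c c
    rw [← hc, hdot, hψdot ψ ψ rfl, if_pos rfl, Fin.sum_univ_one] at h
    have hQ : 9 * (∑ i, c i * c i) - (∑ i, c i * d 0 i) * (∑ i, c i * d 0 i) = 9 := by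
      have h' : ((9 * (∑ i, c i * c i) - (∑ i, c i * d 0 i) * (∑ i, c i * d 0 i) : ℤ) : ℂ) =
          ((9 : ℤ) : ℂ) := by
        push_cast at h ⊢
        linear_combination -9 * h
      exact_mod_cast h'
    have hd1 : ∀ i, d 0 i = 1 ∨ d 0 i = -1 := fun i => by
      have hg := hgram 0 0
      rw [if_pos rfl, ← Finset.add_sum_erase _ _ (Finset.mem_univ i)] at hg
      have hge : ∀ b, 1 ≤ d 0 b * d 0 b := fun b => by
        obtain ⟨j, hj⟩ := hne b
        rw [Subsingleton.elim j 0] at hj
        nlinarith [mul_self_pos.2 hj]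
      have h8 := Finset.card_nsmul_le_sum (Finset.univ.erase i) (fun b => d 0 b * d 0 b) 1
        fun b _ => hge b
      rw [Finset.card_erase_of_mem (Finset.mem_univ i), Finset.card_univ, h9] at h8
      rw [show (9 - 1 : ℕ) = 8 from rfl, nsmul_eq_mul, mul_one] at h8
      push_cast at h8
      exact mul_self_eq_one_iff.1 (le_antisymm (by linarith) (hge i))
    have hpar : (2 : ℤ) ∣ ∑ i, (c i * c i - c i * d 0 i) := Finset.dvd_sum fun i _ => by
      rcases hd1 i with e | e <;> rw [e]
      · rw [mul_one, show c i * c i - c i = c i * (c i - 1) by ring]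
        exact even_iff_two_dvd.1 (Int.even_mul_pred_self (c i))
      · rw [show c i * c i - c i * -1 = c i * (c i + 1) by ring]
        exact even_iff_two_dvd.1 (Int.even_mul_succ_self (c i))
    rw [Finset.sum_sub_distrib] at hpar
    obtain ⟨m, hm⟩ := hpar
    generalize ∑ i, c i * c i = A at hm hQ
    generalize ∑ i, c i * d 0 i = S at hm hQ
    have h3 : (3 : ℤ) ∣ S := (Int.prime_three.dvd_or_dvd
      (show (3 : ℤ) ∣ S * S from ⟨3 * A - 3, by linarith⟩)).elim id id
    obtain ⟨t, rfl⟩ := h3
    have hA : A = t * t + 1 := by linarith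
    have he : Even (t * (t - 1)) := Int.even_mul_pred_self t
    obtain ⟨q, hq⟩ := he
    have : 2 * (m - q + t) = 1 := by rw [hA] at hm; linarith
    omega
  · -- six members trivial on `z`
    have hc6 : Fintype.card ι = 6 := by
      rw [← Fintype.card_congr eq', Fintype.card_sum, Fintype.card_fin, Fintype.card_fin]
      exact hl
    set nd : Fin r → Fin l ⊕ Fin r → ℤ := fun m a => sg (eq' a) * d m (eq' a) with hnd
    have hlcsum : ∀ (c : ι → ℤ) (m : Fin r), ∑ i, c i * d m i =
        ∑ a, (c (eq' a) * sg (eq' a)) - 3 * (c (eq' (Sum.inr m)) * sg (eq' (Sum.inr m))) := by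
      intro c m
      rw [← eq'.sum_comp, Finset.sum_congr rfl (g := fun a => c (eq' a) * sg (eq' a) * nd m a)
        fun a _ => by simp only [hnd]; linear_combination -(c (eq' a) * d m (eq' a)) * hsq (eq' a),
        Fintype.sum_sum_type, Fintype.sum_sum_type]
      simp only [hnd, hth, hth', mul_one, mul_ite]
      rw [Finset.sum_congr rfl (g := fun j => c (eq' (Sum.inr j)) * sg (eq' (Sum.inr j)) -
        3 * if m = j then c (eq' (Sum.inr j)) * sg (eq' (Sum.inr j)) else 0)
        (s₁ := (Finset.univ : Finset (Fin r))) fun j _ => by split_ifs <;> ring,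
        Finset.sum_sub_distrib, ← Finset.mul_sum, Finset.sum_ite_eq, if_pos (Finset.mem_univ _)]
      ring
    let j₀ : Fin r := ⟨0, hr0⟩
    set uc : Fin l → Fin r → ι → ℤ := fun i j a => sg a *
      ((if a = eq' (Sum.inl i) then 1 else 0) - (if a = eq' (Sum.inr j) then 1 else 0)) with huc
    have huT : ∀ i j m, ∑ a, uc i j a * d m a = 3 * if m = j then 1 else 0 := by
      intro i j m
      simp only [huc, mul_sub, sub_mul, mul_ite, mul_one, mul_zero, ite_mul, zero_mul,
        Finset.sum_sub_distrib]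
      rw [sum_pick, sum_pick, hth, hth']
      split_ifs <;> ring
    have hudot : ∀ (c : ι → ℤ) i j, 3 * classInner (lc c) (lc (uc i j)) =
        ((sg (eq' (Sum.inl i)) * c (eq' (Sum.inl i)) - sg (eq' (Sum.inr j)) * c (eq' (Sum.inr j))
          : ℤ) : ℂ) - 3⁻¹ * ((∑ a, c a * d j a : ℤ) : ℂ) := by
      intro c i j
      rw [hlcdot]
      have h1 : ∑ a, c a * uc i j a =
          sg (eq' (Sum.inl i)) * c (eq' (Sum.inl i)) - sg (eq' (Sum.inr j)) * c (eq' (Sum.inr j)) := by
        simp only [huc, mul_sub, Finset.sum_sub_distrib, mul_ite, mul_one, mul_zero]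
        rw [sum_pick, sum_pick]
        ring
      simp only [h1, huT, mul_ite, mul_one, mul_zero, sum_pick, if_true]
      push_cast
      ring
    have huu : ∀ i i' j j', 3 * classInner (lc (uc i j)) (lc (uc i' j')) =
        if i = i' then 1 else 0 := by
      intro i i' j j'
      rw [hudot, huT]
      have hsl : sg (eq' (Sum.inl i')) * uc i j (eq' (Sum.inl i')) = if i = i' then 1 else 0 := by
        simp only [huc, eq'.injective.eq_iff, Sum.inl.injEq, reduceCtorEq, if_false, sub_zero,
          ← mul_assoc, hsq, one_mul]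
        exact if_congr eq_comm rfl rfl
      have hsr : sg (eq' (Sum.inr j')) * uc i j (eq' (Sum.inr j')) =
          -(if j' = j then 1 else 0) := by
        simp only [huc, eq'.injective.eq_iff, Sum.inr.injEq, reduceCtorEq, if_false, zero_sub,
          ← mul_assoc, hsq, one_mul]
      rw [hsl, hsr]
      split_ifs <;> norm_num
    have key : ∀ ψ : ι', ∃ i : Fin l, ∃ ε : ℤ, ε * ε = 1 ∧
        ∀ j, Rf ψ.1.1 = (ε : ℂ) • lc (uc i j) := by
      intro ψ
      obtain ⟨c, hc⟩ := hψ ψ
      have hcc : 3 * classInner (lc c) (lc c) = 1 := by rw [← hc, hdot, hψdot ψ ψ rfl, if_pos rfl]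
      set c' : Fin l ⊕ Fin r → ℤ := fun a => c (eq' a) * sg (eq' a) with hc'
      have hQ : 9 * (∑ a, c' a * c' a) - ∑ j : Fin r, (∑ a, c' a - 3 * c' (Sum.inr j)) ^ 2 = 9 := by
        have h := hlcdot c c
        rw [hcc] at h
        have h' : ((9 * (∑ a, c' a * c' a) -
            ∑ j : Fin r, (∑ a, c' a - 3 * c' (Sum.inr j)) ^ 2 : ℤ) : ℂ) = ((9 : ℤ) : ℂ) := by
          rw [show ∑ a, c' a * c' a = ∑ a, c a * c a by
              rw [← eq'.sum_comp fun a => c a * c a]
              exact Finset.sum_congr rfl fun a _ => by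
                simp only [hc']; linear_combination (c (eq' a) * c (eq' a)) * hsq (eq' a),
            Finset.sum_congr rfl (s₁ := (Finset.univ : Finset (Fin r)))
              (g := fun j => (∑ a, c a * d j a) * (∑ a, c a * d j a)) fun j _ => by
                rw [hlcsum, pow_two]]
          push_cast at h ⊢
          linear_combination -9 * h
        exact_mod_cast h'
      obtain ⟨S, hS, i, hi, hi'⟩ := unit_vector hl hr c' hQ
      refine ⟨i, c' (Sum.inl i) - S, by rcases hi with e | e <;> simp [e], fun j => ?_⟩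
      set ε := c' (Sum.inl i) - S with hε
      have hεε : (ε : ℂ) * ε = 1 := by rcases hi with e | e <;> simp [e]
      have hcu : 3 * classInner (lc c) (lc (uc i j)) = ε := by
        rw [hudot, hlcsum]
        simp only [hε, hc'] at hS ⊢
        rw [hS]
        push_cast
        ring
      have huc' : 3 * classInner (lc (uc i j)) (lc c) = ε := by
        have := congrArg conj hcu
        rwa [map_mul, map_ofNat, map_intCast, Char.conj_classInner] at this
      have huu1 : 3 * classInner (lc (uc i j)) (lc (uc i j)) = 1 := by rw [huu, if_pos rfl]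
      have h0 : classInner (lc c - (ε : ℂ) • lc (uc i j)) (lc c - (ε : ℂ) • lc (uc i j)) = 0 := by
        simp only [Char.classInner_sub_left, Char.classInner_sub_right, Char.classInner_smul_left,
          Char.classInner_smul_right, map_intCast]
        linear_combination (3⁻¹ : ℂ) * hcc - (3⁻¹ : ℂ) * (ε : ℂ) * hcu -
          (3⁻¹ : ℂ) * (ε : ℂ) * huc' + (3⁻¹ : ℂ) * (ε : ℂ) * ε *
          huu1 -
          (3⁻¹ : ℂ) * hεε
      rw [hc, sub_eq_zero.1 (Char.classInner_self_eq_zero h0)]
    choose idx sgn hsgn hidx using key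
    have hroot : ∀ ψ : ι', (BlocksX.centScalar ψ.1.1 z).im ≠ 0 := fun ψ =>
      (cube_root_cases (D.cube_centScalar hz ψ.1) (D.cube_centScalar hz ψ.1) ψ.2.2 ψ.2.2).1
    have htwε : ∀ χ : IrrCharacter G, BlocksX.centScalar (tw T χ).1 z =
        conj (BlocksX.centScalar χ.1 z) := fun χ => by
      rw [BlocksX.conj_centScalar, BlocksX.centScalar, BlocksX.centScalar, tw_apply, tw_apply,
        one_pow, T.sing z D.z_pow]
    let τ : ι' → ι' := fun ψ => ⟨tw T ψ.1, tw_mem T hM ψ.2.1, fun e => ψ.2.2 (by
      have := congrArg conj ((htwε ψ.1).symm.trans e)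
      rwa [Complex.conj_conj, map_one] at this)⟩
    have hττ : ∀ ψ, τ (τ ψ) = ψ := fun ψ => Subtype.ext (tw_tw T ψ.1)
    let Pos := {ψ : ι' // 0 < (BlocksX.centScalar ψ.1.1 z).im}
    have hinj : Function.Injective fun ψ : Pos => idx ψ.1 := by
      intro a b hab
      have he : BlocksX.centScalar a.1.1.1 z = BlocksX.centScalar b.1.1.1 z := by
        rcases (cube_root_cases (D.cube_centScalar hz a.1.1) (D.cube_centScalar hz b.1.1)
          a.1.2.2 b.1.2.2).2.2.2 with h | h
        · exact h
        · have ha := a.2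
          have hb := b.2
          rw [← h, Complex.conj_im] at hb
          linarith
      have h := hψdot a.1 b.1 he
      rw [← hdot, hidx a.1 j₀, hidx b.1 j₀, Char.classInner_smul_left, Char.classInner_smul_right,
        map_intCast, show idx b.1 = idx a.1 from hab.symm] at h
      by_contra hne'
      rw [if_neg fun e => hne' (Subtype.ext e)] at h
      have hnz : ∀ ψ, (sgn ψ : ℂ) ≠ 0 := fun ψ => Int.cast_ne_zero.2 fun e => by
        have := hsgn ψ; rw [e] at this; norm_num at this
      have hu1 := huu (idx a.1) (idx a.1) j₀ j₀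
      rw [if_pos rfl] at hu1
      have : (sgn a.1 : ℂ) * sgn b.1 = 0 := by
        linear_combination h - (sgn a.1 : ℂ) * sgn b.1 * hu1
      exact (mul_ne_zero (hnz _) (hnz _)) this
    have hposneg : Fintype.card ι' = 2 * Fintype.card Pos := by
      have hsplit : ι' ≃ Pos ⊕ {ψ : ι' // ¬ 0 < (BlocksX.centScalar ψ.1.1 z).im} :=
        (Equiv.sumCompl _).symm
      have hflip : {ψ : ι' // ¬ 0 < (BlocksX.centScalar ψ.1.1 z).im} ≃ Pos :=
        { toFun := fun ψ => ⟨τ ψ.1, by
            show 0 < (BlocksX.centScalar (tw T ψ.1.1).1 z).im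
            rw [htwε, Complex.conj_im, neg_pos]
            exact lt_of_le_of_ne (not_lt.1 ψ.2) (hroot ψ.1)⟩
          invFun := fun ψ => ⟨τ ψ.1, by
            show ¬ 0 < (BlocksX.centScalar (tw T ψ.1.1).1 z).im
            rw [htwε, Complex.conj_im, neg_pos]
            exact not_lt.2 ψ.2.le⟩
          left_inv := fun ψ => Subtype.ext (hττ ψ.1)
          right_inv := fun ψ => Subtype.ext (hττ ψ.1) }
      rw [Fintype.card_congr (hsplit.trans (Equiv.sumCongr (Equiv.refl _) hflip)), Fintype.card_sum]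
      ring
    have hk := D.card_eq_central hz hM
    rw [hcardB, hc6, hposneg] at hk
    have hle : Fintype.card Pos ≤ l := by
      have := Fintype.card_le_of_injective _ hinj
      rwa [Fintype.card_fin] at this
    -- `l` independent restrictions
    have hrank : l ≤ blockRank 3 (principalBlock M G) := by
      set V := Submodule.span ℂ
        ((fun χ : IrrCharacter G => pRegularPart 3 (χ : G → ℂ)) '' principalBlock M G)
      have hmem : ∀ i, lc (uc i j₀) ∈ V := fun i => Submodule.sum_mem _ fun a _ =>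
        Submodule.smul_mem _ _ (Submodule.subset_span
          ⟨a.1, a.2.1, BrauerPairs.pRegularPart_eq_regFun 3 _⟩)
      have hli : LinearIndependent ℂ fun i : Fin l => (⟨lc (uc i j₀), hmem i⟩ : V) := by
        refine Fintype.linearIndependent_iff.2 fun g hg i => ?_
        have h := congrArg (fun v : V => classInner (v : G → ℂ) (lc (uc i j₀))) hg
        simp only [Submodule.coe_sum, Submodule.coe_smul, Submodule.coe_zero,
          Char.classInner_sum_left, Char.classInner_smul_left] at h
        rw [show classInner (0 : G → ℂ) (lc (uc i j₀)) = 0 by simp [classInner]] at h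
        have h3 : ∀ a, classInner (lc (uc a j₀)) (lc (uc i j₀)) = if a = i then 3⁻¹ else 0 :=
          fun a => by
            have := huu a i j₀ j₀
            split_ifs at this ⊢ <;> linear_combination (3⁻¹ : ℂ) * this
        simp only [h3, mul_ite, mul_zero, sum_pick, if_true] at h
        exact (mul_eq_zero.1 h).resolve_right (by norm_num)
      have := hli.fintype_card_le_finrank
      rwa [Fintype.card_fin] at this
    have hf : Fintype.card Pos = l := by omega
    have hrl : blockRank 3 (principalBlock M G) = l := by omega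
    let ε₀ : Pos ≃ Fin l := Equiv.ofBijective _ ((Fintype.bijective_iff_injective_and_card _).2
      ⟨hinj, by rw [hf, Fintype.card_fin]⟩)
    have hps : ∀ i, idx (ε₀.symm i).1 = i := fun i => ε₀.apply_symm_apply i
    let fam : (Fin l ⊕ Fin r) ⊕ (Fin l ⊕ Fin l) → IrrCharacter G :=
      Sum.elim (Sum.elim (fun i => (eq' (Sum.inl i)).1) fun j => (eq' (Sum.inr j)).1)
        (Sum.elim (fun i => (ε₀.symm i).1.1) fun i => tw T (ε₀.symm i).1.1)
    have hfam1 : ∀ a, fam (Sum.inl a) = (eq' a).1 := by rintro (a | a) <;> rfl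
    have hfamε : ∀ i, BlocksX.centScalar (fam (Sum.inr (Sum.inr i))).1 z =
        conj (BlocksX.centScalar (ε₀.symm i).1.1.1 z) := fun i => htwε _
    refine ⟨l, ⟨{
      hl := hl
      i₀ := i₀
      th := fun i => (eq' (Sum.inl i)).1
      th' := fun j => (eq' (Sum.inr j)).1
      ps := fun i => (ε₀.symm i).1.1
      s := fun i => sg (eq' (Sum.inl i))
      s' := fun j => sg (eq' (Sum.inr j))
      e := fun i => sgn (ε₀.symm i).1
      s_sq := fun i => hsq _
      s'_sq := fun j => hsq _
      e_sq := fun i => hsgn _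
      th_triv := congrArg Subtype.val hi₀
      s_triv := by rw [hi₀, hsgo]
      inj := ?_
      mem := ?_
      surj := ?_
      th_x := fun i m => by
        rw [hdv]; exact_mod_cast hth m i
      th'_x := fun j m => by
        rw [hdv]
        have := hth' m j
        split_ifs at this ⊢ <;> exact_mod_cast this
      ps_x := fun i m => D.apply_faithful hz (ε₀.symm i).1.2.2 m
      th_z := fun a => by rcases a with a | a <;> exact (eq' _).2.2
      reg := fun g hg i j => ?_
      rank := hrl }⟩⟩
    · show Function.Injective fam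
      rintro (a | a) (b | b) h
      · rw [hfam1, hfam1] at h
        exact congrArg Sum.inl (eq'.injective (Subtype.ext h))
      · exfalso
        rw [hfam1] at h
        have h1 := (eq' a).2.2
        rw [h] at h1
        rcases b with b | b
        · exact (ε₀.symm b).1.2.2 h1
        · exact (τ (ε₀.symm b).1).2.2 h1
      · exfalso
        rw [hfam1] at h
        have h1 := (eq' b).2.2
        rw [← h] at h1
        rcases a with a | a
        · exact (ε₀.symm a).1.2.2 h1
        · exact (τ (ε₀.symm a).1).2.2 h1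
      · rcases a with a | a <;> rcases b with b | b
        · exact congrArg (fun t => Sum.inr (Sum.inl t))
            (ε₀.symm.injective (Subtype.ext (Subtype.ext h)))
        · exfalso
          have h1 := (ε₀.symm a).2
          have h2 := (ε₀.symm b).2
          rw [show (ε₀.symm a).1.1 = fam (Sum.inr (Sum.inr b)) from h, hfamε, Complex.conj_im] at h1
          linarith
        · exfalso
          have h1 := (ε₀.symm a).2
          have h2 := (ε₀.symm b).2
          rw [show (ε₀.symm b).1.1 = fam (Sum.inr (Sum.inr a)) from h.symm, hfamε,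
            Complex.conj_im] at h2
          linarith
        · refine congrArg (fun t => Sum.inr (Sum.inr t))
            (ε₀.symm.injective (Subtype.ext (Subtype.ext ?_)))
          have := congrArg (tw T) h
          simpa only [fam, Sum.elim_inr, tw_tw] using this
    · rintro ((a | a) | (a | a))
      exacts [(eq' (Sum.inl a)).2.1, (eq' (Sum.inr a)).2.1, (ε₀.symm a).1.2.1,
        tw_mem T hM (ε₀.symm a).1.2.1]
    · intro η hη
      by_cases hε : BlocksX.centScalar η.1 z = 1
      · refine ⟨Sum.inl (eq'.symm ⟨η, hη, hε⟩), ?_⟩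
        show fam _ = η
        rw [hfam1, Equiv.apply_symm_apply]
      · let ψ : ι' := ⟨η, hη, hε⟩
        rcases lt_or_gt_of_ne (hroot ψ) with h | h
        · refine ⟨Sum.inr (Sum.inr (ε₀ ⟨τ ψ, ?_⟩)), ?_⟩
          · show 0 < (BlocksX.centScalar (tw T η).1 z).im
            rw [htwε, Complex.conj_im, neg_pos]; exact h
          · show tw T (ε₀.symm _).1.1 = η
            rw [Equiv.symm_apply_apply]
            exact tw_tw T η
        · exact ⟨Sum.inr (Sum.inl (ε₀ ⟨ψ, h⟩)), by
            show (ε₀.symm _).1.1 = η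
            rw [Equiv.symm_apply_apply]⟩
    · have h := congrFun (hidx (ε₀.symm i).1 j) g
      rw [hps] at h
      simp only [hlc, huc, hRf, Pi.smul_apply, Finset.sum_apply, smul_eq_mul, Char.regFun,
        show ¬ (3 ∣ orderOf g) from hg, if_false] at h
      rw [h]
      push_cast
      simp only [mul_sub, sub_mul, mul_ite, mul_one, mul_zero, ite_mul, zero_mul,
        Finset.sum_sub_distrib]
      rw [sum_pick, sum_pick]
      have hs := hsgn (ε₀.symm i).1
      have hs' : (sgn (ε₀.symm i).1 : ℂ) * sgn (ε₀.symm i).1 = 1 := by exact_mod_cast hs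
      linear_combination ((sg (eq' (Sum.inl i)) : ℂ) * (eq' (Sum.inl i)).1.1 g -
        (sg (eq' (Sum.inr j)) : ℂ) * (eq' (Sum.inr j)).1.1 g) * hs'

/-- Members trivial on `z` are fixed by the twist. -/
theorem tw_of_trivial (hM : IsPModular 3 M) (T : Twist G k) {χ : IrrCharacter G}
    (hχ : χ ∈ principalBlock M G) (hε : BlocksX.centScalar χ.1 z = 1) : tw T χ = χ := by
  refine Subtype.ext (funext fun g => ?_)
  rw [tw_apply]
  obtain ⟨u, hu⟩ := Blocks.exists_isPPart (p := 3) g
  obtain ⟨s, hus, hc, hk, hs⟩ := hu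
  have hgk : g ^ k = u⁻¹ * s := by rw [← hus, hc.mul_pow, T.reg s hs, T.sing u hk]
  by_cases hu1 : u = 1
  · rw [hgk, ← hus, hu1, inv_one]
  have hcs : ∀ w, IsConj z w ∨ IsConj z⁻¹ w → w ∈ Subgroup.center G ∧
      BlocksX.centScalar χ.1 w = 1 := by
    rintro w (h | h) <;> obtain ⟨c, hc'⟩ := isConj_iff.1 h
    · rw [BlocksX.conj_mem_center hz] at hc'
      exact hc' ▸ ⟨hz, hε⟩
    · rw [BlocksX.conj_mem_center (inv_mem hz)] at hc'
      refine hc' ▸ ⟨inv_mem hz, ?_⟩
      rw [← BlocksX.conj_centScalar, hε, map_one]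
  have hgen : ∀ w, IsConj z w ∨ IsConj z⁻¹ w → ∀ t, Commute w t → χ.1 (w * t) = χ.1 t := by
    intro w hw t ht
    rw [ht.eq, BlocksX.apply_mul_central χ (hcs w hw).1, (hcs w hw).2, one_mul]
  have hinv : ∀ w, IsConj z w ∨ IsConj z⁻¹ w → IsConj z w⁻¹ ∨ IsConj z⁻¹ w⁻¹ := by
    rintro w (h | h) <;> obtain ⟨c, hc'⟩ := isConj_iff.1 h
    · exact Or.inr (isConj_iff.2 ⟨c, by rw [← hc', conj_inv]⟩)
    · exact Or.inl (isConj_iff.2 ⟨c, by rw [← hc']; group⟩)
  rcases D.cover u hk hu1 with h | h | ⟨j, h⟩
  · rw [hgk, ← hus, hgen u (Or.inl h) s hc, hgen u⁻¹ (hinv u (Or.inl h)) s hc.inv_left]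
  · rw [hgk, ← hus, hgen u (Or.inr h) s hc, hgen u⁻¹ (hinv u (Or.inr h)) s hc.inv_left]
  · obtain ⟨c, hc'⟩ := isConj_iff.1 h
    have h1 : IsPPart 3 g u := ⟨s, hus, hc, hk, hs⟩
    have h2 : IsPPart 3 (g ^ k) u⁻¹ :=
      ⟨s, hgk.symm, hc.inv_left, by obtain ⟨n, hn⟩ := hk; exact ⟨n, by rw [orderOf_inv, hn]⟩, hs⟩
    rw [D.apply_section_conj hM h1 h hχ, D.apply_section_conj hM h2 ((D.x_inv j).trans
      (isConj_iff.2 ⟨c, by rw [← hc', conj_inv]⟩)) hχ]

end Data

end Cfsg.Agent.ThreeExtra
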