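import Mathlib.Algebra.BigOperators.Fin
import Mathlib.Algebra.Order.BigOperators.Ring.Finset
import Mathlib.Data.Fintype.BigOperators
import Mathlib.SetTheory.Cardinal.Finite
import Mathlib.Tactic.Linarith
import Mathlib.Tactic.Ring
import Mathlib.Tactic.LinearCombination
import Mathlib.Tactic.IntervalCases
import Mathlib.Tactic.FinCases

/-!
# The columns of the lifted virtual characters
-/

set_option autoImplicit false
set_option linter.unusedSectionVars false

namespace Cfsg.Agent.ThreeExtra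

open scoped Classical

variable {ι : Type*} [Fintype ι]

/-- Values of the lifts of `v i`, `ζ i j` and `D m` at the members of the block. -/
structure Columns (σ : ι → ι) (o : ι) {l r : ℕ} (i₀ : Fin l) (V : Fin l → ι → ℤ)
    (Z : Fin l → Fin r → ι → ℤ) (D : Fin r → ι → ℤ) : Prop where
  invol : ∀ χ, σ (σ χ) = χ
  fix_o : σ o = o
  V_σ : ∀ i χ, V i (σ χ) = -V i χ
  Z_σ : ∀ i j χ, Z i j (σ χ) = Z i j χ - V i χ
  D_σ : ∀ m χ, D m (σ χ) = D m χ
  VV : ∀ i i', ∑ χ, V i χ * V i' χ = if i = i' then 2 else 0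
  ZZ : ∀ i i' j j', ∑ χ, Z i j χ * Z i' j' χ =
    (if i = i' then 2 else 0) + if j = j' then 1 else 0
  ZD : ∀ i j m, ∑ χ, Z i j χ * D m χ = if j = m then -3 else 0
  DD : ∀ m, ∑ χ, D m χ * D m χ = 9
  V_o : ∀ i, V i o = 0
  Z_o : ∀ i j, Z i j o = if i = i₀ then -1 else 0
  D_o : ∀ m, D m o = 1
  nondeg : ∀ χ, (∀ i, V i χ = 0) → (∀ i j, Z i j χ = 0) → (∀ m, D m χ = 0) → False

theorem sum_point_mul (a : ι) (w : ℤ) (g : ι → ℤ) :
    ∑ χ, (if χ = a then w else 0) * g χ = w * g a := by
  rw [Finset.sum_eq_single a (fun b _ hb => by rw [if_neg hb, zero_mul])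
    (fun h => absurd (Finset.mem_univ a) h), if_pos rfl]

theorem sum_sub_point_sq (a : ι) (w : ℤ) (f : ι → ℤ) :
    ∑ χ, (f χ - if χ = a then w else 0) * (f χ - if χ = a then w else 0) =
      ∑ χ, f χ * f χ - 2 * w * f a + w * w := by
  rw [Finset.sum_congr rfl (g := fun χ => f χ * f χ - 2 * ((if χ = a then w else 0) * f χ) +
    (if χ = a then w else 0) * (if χ = a then w else 0)) fun χ _ => by ring,
    Finset.sum_add_distrib, Finset.sum_sub_distrib, ← Finset.mul_sum, sum_point_mul, sum_point_mul,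
    if_pos rfl]
  ring

theorem eq_zero_of_sum_sq {f : ι → ℤ} (h : ∑ χ, f χ * f χ = 0) (χ : ι) : f χ = 0 :=
  mul_self_eq_zero.1 ((Finset.sum_eq_zero_iff_of_nonneg fun _ _ => mul_self_nonneg _).1 h χ
    (Finset.mem_univ χ))

theorem sq_pair_le {f : ι → ℤ} {a b : ι} (hab : a ≠ b) {N : ℤ} (h : ∑ χ, f χ * f χ = N) :
    f a * f a + f b * f b ≤ N := by
  have := Finset.sum_le_sum_of_subset_of_nonneg (f := fun χ => f χ * f χ) (s := {a, b})
    (t := Finset.univ) (Finset.subset_univ _) fun _ _ _ => mul_self_nonneg _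
  rwa [Finset.sum_pair hab, h] at this

theorem sq_triple_le {f : ι → ℤ} {a b c : ι} (hab : a ≠ b) (hac : a ≠ c) (hbc : b ≠ c) {N : ℤ}
    (h : ∑ χ, f χ * f χ = N) : f a * f a + f b * f b + f c * f c ≤ N := by
  have := Finset.sum_le_sum_of_subset_of_nonneg (f := fun χ => f χ * f χ) (s := {a, b, c})
    (t := Finset.univ) (Finset.subset_univ _) fun _ _ _ => mul_self_nonneg _
  rw [Finset.sum_insert (by simp [hab, hac]), Finset.sum_pair hbc, h] at this
  linarith

theorem one_le_sq {a : ℤ} (h : a ≠ 0) : 1 ≤ a * a := by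
  have := mul_self_pos.2 h
  omega

/-- An invariant vector of norm one is a signed fixed point. -/
theorem exists_point {σ : ι → ι} {f : ι → ℤ} (hf : ∀ χ, f (σ χ) = f χ) (h : ∑ χ, f χ * f χ = 1) :
    ∃ a w, w * w = 1 ∧ σ a = a ∧ ∀ χ, f χ = if χ = a then w else 0 := by
  obtain ⟨a, ha⟩ : ∃ a, f a ≠ 0 := by
    by_contra hh
    push Not at hh
    simp [hh] at h
  have huniq : ∀ χ, f χ ≠ 0 → χ = a := fun χ hχ => by
    by_contra hne
    have := sq_pair_le hne h
    linarith [one_le_sq ha, one_le_sq hχ]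
  refine ⟨a, f a, ?_, huniq _ (by rw [hf]; exact ha), fun χ => ?_⟩
  · have hle := Finset.single_le_sum (f := fun χ => f χ * f χ) (fun _ _ => mul_self_nonneg _)
      (Finset.mem_univ a)
    rw [h] at hle
    exact le_antisymm hle (one_le_sq ha)
  · by_cases hχ : χ = a
    · rw [if_pos hχ, hχ]
    · rw [if_neg hχ]
      by_contra h0
      exact hχ (huniq χ h0)

namespace Columns

variable {σ : ι → ι} {o : ι} {l r : ℕ} {i₀ : Fin l} {V : Fin l → ι → ℤ}
  {Z : Fin l → Fin r → ι → ℤ} {D : Fin r → ι → ℤ} (C : Columns σ o i₀ V Z D)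
include C

theorem exists_pairs : ∃ α : Fin l → ι, (∀ i, V i (α i) = 1) ∧ (∀ i, σ (α i) ≠ α i) ∧
    (∀ i χ, V i χ ≠ 0 → χ = α i ∨ χ = σ (α i)) ∧ ∀ i i', i ≠ i' → V i' (α i) = 0 := by
  have hex : ∀ i, ∃ a, V i a = 1 ∧ σ a ≠ a ∧ ∀ χ, V i χ ≠ 0 → χ = a ∨ χ = σ a := by
    intro i
    obtain ⟨a, ha⟩ : ∃ a, V i a ≠ 0 := by
      by_contra hh
      push Not at hh
      have h := C.VV i i
      rw [Finset.sum_eq_zero fun χ _ => by rw [hh χ, mul_zero], if_pos rfl] at h
      norm_num at h
    have hne : ∀ b, V i b ≠ 0 → σ b ≠ b := fun b hb e => hb (by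
      have := C.V_σ i b
      rw [e] at this
      omega)
    have hN : ∑ χ, V i χ * V i χ = 2 := by rw [C.VV, if_pos rfl]
    have h2 := sq_pair_le (hne a ha) hN
    rw [C.V_σ, neg_mul_neg] at h2
    have ha1 : V i a * V i a = 1 := le_antisymm (by linarith) (one_le_sq ha)
    have hsup : ∀ χ, V i χ ≠ 0 → χ = a ∨ χ = σ a := fun χ hχ => by
      by_contra hh
      push Not at hh
      have := sq_triple_le hh.2 hh.1 (hne a ha) hN
      rw [C.V_σ, neg_mul_neg] at this
      linarith [one_le_sq hχ]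
    rcases mul_self_eq_one_iff.1 ha1 with h | h
    · exact ⟨a, h, hne a ha, hsup⟩
    · refine ⟨σ a, by rw [C.V_σ, h]; norm_num, by rw [C.invol]; exact (hne a ha).symm, fun χ hχ => ?_⟩
      rw [C.invol]
      exact (hsup χ hχ).symm
  choose α h1 h2 h3 using hex
  refine ⟨α, h1, h2, h3, fun i i' hii => ?_⟩
  by_contra h0
  have hprod := C.VV i i'
  rw [if_neg hii, ← Finset.sum_subset (Finset.subset_univ {α i, σ (α i)}) (fun χ _ hχ => by
    have : V i χ = 0 := by
      by_contra h
      rcases h3 i χ h with e | e <;> simp [e] at hχ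
    rw [this, zero_mul]), Finset.sum_pair (h2 i).symm, C.V_σ, C.V_σ, h1 i] at hprod
  omega

theorem exists_A : ∃ (A : Fin l → Fin r → ι) (s : Fin l → Fin r → ℤ) (α : Fin l → ι),
    (∀ i j, s i j = 1 ∨ s i j = -1) ∧
    (∀ i j, (s i j = 1 ∧ A i j = α i) ∨ (s i j = -1 ∧ A i j = σ (α i))) ∧
    (∀ i j, Z i j (A i j) = s i j ∧ Z i j (σ (A i j)) = 0) ∧
    (∀ i, σ (α i) ≠ α i) ∧
    (∀ i i', i ≠ i' → α i ≠ α i' ∧ σ (α i) ≠ α i') ∧
    ∀ i χ, χ ≠ α i → χ ≠ σ (α i) → V i χ = 0 := by
  obtain ⟨α, h1, h2, h3, h4⟩ := C.exists_pairs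
  have hz : ∀ i j, Z i j (α i) = 1 ∨ Z i j (α i) = 0 := fun i j => by
    have := sq_pair_le (h2 i) (f := Z i j) (N := 3) (by rw [C.ZZ, if_pos rfl, if_pos rfl]; norm_num)
    rw [C.Z_σ, h1] at this
    have ha : -1 < Z i j (α i) := by nlinarith
    have hb : Z i j (α i) < 2 := by nlinarith
    omega
  refine ⟨fun i j => if Z i j (α i) = 1 then α i else σ (α i),
    fun i j => if Z i j (α i) = 1 then 1 else -1, α,
    fun i j => by dsimp only; split_ifs <;> simp,
    fun i j => by dsimp only; split_ifs <;> simp, fun i j => ?_, h2, fun i i' hii => ⟨?_, ?_⟩,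
    fun i χ ha hb => by_contra fun h => (h3 i χ h).elim ha hb⟩
  · dsimp only
    rcases hz i j with e | e
    · rw [if_pos e, if_pos e, C.Z_σ, e, h1]; norm_num
    · rw [if_neg (by omega), if_neg (by omega), C.invol, C.Z_σ, e, h1]; norm_num
  · intro e
    have := h4 i i' hii
    rw [e, h1] at this
    exact one_ne_zero this
  · intro e
    have := h4 i i' hii
    rw [← C.invol (α i), e, C.V_σ, h1] at this
    norm_num at this

set_option maxHeartbeats 1600000 in
/-- The block has `6 + 2l` members, six of height zero. -/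
theorem card_eq (hl : l + r = 6) (hr : r = 1 ∨ r = 2 ∨ r = 4) (j₀ : Fin r) :
    Fintype.card ι = 6 + 2 * l ∧ Nat.card {χ : ι // ¬ (3 : ℤ) ∣ D j₀ χ} = 6 := by
  obtain ⟨A', s', α, hs'1, hA', hZA', hfix, hdist, hVsupp⟩ := C.exists_A
  have hA'pair : ∀ i j, (A' i j = α i ∧ σ (A' i j) = σ (α i)) ∨
      (A' i j = σ (α i) ∧ σ (A' i j) = α i) := fun i j => by
    rcases hA' i j with ⟨-, e⟩ | ⟨-, e⟩ <;> rw [e]
    · exact Or.inl ⟨rfl, rfl⟩
    · exact Or.inr ⟨rfl, C.invol _⟩
  have hs'sq : ∀ i j, s' i j * s' i j = 1 := fun i j => by rcases hs'1 i j with e | e <;> simp [e]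
  obtain ⟨T, hT⟩ : ∃ T : Fin l → Fin r → ι → ℤ,
      ∀ i j χ, T i j χ = Z i j χ - if χ = A' i j then s' i j else 0 := ⟨_, fun _ _ _ => rfl⟩
  have hTα : ∀ i j, T i j (α i) = 0 ∧ T i j (σ (α i)) = 0 := by
    intro i j
    have hne : σ (A' i j) ≠ A' i j := by
      rcases hA'pair i j with ⟨e1, e2⟩ | ⟨e1, e2⟩ <;> rw [e1] <;>
        [exact hfix i; (rw [C.invol]; exact (hfix i).symm)]
    have h1 : T i j (A' i j) = 0 := by rw [hT, if_pos rfl, (hZA' i j).1, sub_self]
    have h2 : T i j (σ (A' i j)) = 0 := by rw [hT, if_neg hne, (hZA' i j).2, sub_zero]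
    rcases hA'pair i j with ⟨e1, e2⟩ | ⟨e1, e2⟩ <;> rw [e1] at h1 <;> rw [e2] at h2 <;>
      [exact ⟨h1, h2⟩; exact ⟨h2, h1⟩]
  have hTσ : ∀ i j χ, T i j (σ χ) = T i j χ := by
    intro i j χ
    by_cases h1 : χ = α i
    · rw [h1, (hTα i j).1, (hTα i j).2]
    by_cases h2 : χ = σ (α i)
    · rw [h2, C.invol, (hTα i j).1, (hTα i j).2]
    have hn : χ ≠ A' i j ∧ σ χ ≠ A' i j := by
      rcases hA'pair i j with ⟨e1, -⟩ | ⟨e1, -⟩ <;> rw [e1]
      · exact ⟨h1, fun e => h2 (by rw [← e, C.invol])⟩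
      · exact ⟨h2, fun e => h1 (by rw [← C.invol χ, e, C.invol])⟩
    rw [hT, hT, if_neg hn.1, if_neg hn.2, C.Z_σ, hVsupp i χ h1 h2]
    ring
  have hTnorm : ∀ i j, ∑ χ, T i j χ * T i j χ = 2 := fun i j => by
    rw [Finset.sum_congr rfl fun χ _ => by rw [hT], sum_sub_point_sq, C.ZZ, if_pos rfl, if_pos rfl,
      (hZA' i j).1]
    linear_combination -hs'sq i j
  have hdot : ∀ i j (g : ι → ℤ), ∑ χ, Z i j χ * g χ =
      s' i j * g (A' i j) + ∑ χ, T i j χ * g χ := fun i j g => by
    rw [← sum_point_mul (A' i j) (s' i j) g, ← Finset.sum_add_distrib]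
    exact Finset.sum_congr rfl fun χ _ => by rw [hT]; ring
  have hTA : ∀ i j j', T i j (A' i j') = 0 := fun i j j' => by
    rcases hA'pair i j' with ⟨e, -⟩ | ⟨e, -⟩ <;> rw [e]
    exacts [(hTα i j).1, (hTα i j).2]
  have hDA : ∀ m i j, D m (A' i j) = D m (α i) := fun m i j => by
    rcases hA'pair i j with ⟨e, -⟩ | ⟨e, -⟩ <;> rw [e]
    exact C.D_σ m _
  have hTZ : ∀ i j i' j', ∑ χ, T i j χ * Z i' j' χ =
      s' i' j' * T i j (A' i' j') + ∑ χ, T i' j' χ * T i j χ := fun i j i' j' => by
    rw [Finset.sum_congr rfl fun χ _ => mul_comm _ _, hdot]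
  -- the pair point does not depend on `j`
  have hagree : ∀ i j j', s' i j = s' i j' := by
    intro i j j'
    by_contra hne
    have hjj : j ≠ j' := fun e => hne (by rw [e])
    have hAne : A' i j ≠ A' i j' := fun e => by
      rcases hA' i j with ⟨a, b⟩ | ⟨a, b⟩ <;> rcases hA' i j' with ⟨a', b'⟩ | ⟨a', b'⟩
      · exact hne (a.trans a'.symm)
      · exact hfix i (by rw [← b', ← e, b])
      · exact hfix i (by rw [← b, e, b'])
      · exact hne (a.trans a'.symm)
    have hz0 : Z i j' (A' i j) = 0 := by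
      have := hTA i j' j
      rwa [hT, if_neg hAne, sub_zero] at this
    have hTT : ∑ χ, T i j χ * T i j' χ = 2 := by
      have h := C.ZZ i i j j'
      rw [hdot, hz0, mul_zero, zero_add, if_pos rfl, if_neg hjj, add_zero, hTZ, hTA, mul_zero,
        zero_add] at h
      rw [← h]
      exact Finset.sum_congr rfl fun χ _ => mul_comm _ _
    have heq : ∀ χ, T i j χ - T i j' χ = 0 := eq_zero_of_sum_sq (by
      rw [Finset.sum_congr rfl (g := fun χ => T i j χ * T i j χ + T i j' χ * T i j' χ -
        2 * (T i j χ * T i j' χ)) fun χ _ => by ring, Finset.sum_sub_distrib, Finset.sum_add_distrib,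
        ← Finset.mul_sum, hTnorm, hTnorm, hTT]
      norm_num)
    have h1 := C.ZD i j j
    have h2 := C.ZD i j' j
    rw [hdot, hDA, if_pos rfl] at h1
    rw [hdot, hDA, if_neg hjj.symm,
      Finset.sum_congr rfl fun χ _ => by rw [← sub_eq_zero.1 (heq χ)]] at h2
    rcases hs'1 i j with e | e <;> rcases hs'1 i j' with e' | e' <;> rw [e] at h1 hne <;>
      rw [e'] at h2 hne <;> omega
  set s : Fin l → ℤ := fun i => s' i j₀ with hs
  set A : Fin l → ι := fun i => A' i j₀ with hA
  have hs1 : ∀ i, s i = 1 ∨ s i = -1 := fun i => hs'1 i j₀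
  have hAeq : ∀ i j, A' i j = A i ∧ s' i j = s i := fun i j => by
    refine ⟨?_, hagree i j j₀⟩
    rcases hA' i j with ⟨a, b⟩ | ⟨a, b⟩ <;> rcases hA' i j₀ with ⟨a', b'⟩ | ⟨a', b'⟩ <;>
      have := hagree i j j₀
    · exact b.trans b'.symm
    · omega
    · omega
    · exact b.trans b'.symm
  have hAfix : ∀ i, σ (A i) ≠ A i := fun i => by
    rcases hA'pair i j₀ with ⟨e, -⟩ | ⟨e, -⟩ <;> simp only [hA, e]
    · exact hfix i
    · rw [C.invol]; exact (hfix i).symm
  have hAdist : ∀ i i', i ≠ i' → A i ≠ A i' ∧ σ (A i) ≠ A i' := by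
    intro i i' hii
    obtain ⟨h1, h2⟩ := hdist i i' hii
    obtain ⟨h1', h2'⟩ := hdist i' i hii.symm
    rcases hA'pair i j₀ with ⟨e, -⟩ | ⟨e, -⟩ <;> rcases hA'pair i' j₀ with ⟨e', -⟩ | ⟨e', -⟩ <;>
      simp only [hA, e, e', C.invol]
    · exact ⟨h1, h2⟩
    · exact ⟨fun h => h2' h.symm, fun h => h1 (by rw [← C.invol (α i), h, C.invol])⟩
    · exact ⟨h2, h1⟩
    · exact ⟨fun h => h1 (by rw [← C.invol (α i), h, C.invol]), fun h => h2' h.symm⟩
  have hTA₀ : ∀ i j, T i j (A i) = 0 := fun i j => hTA i j j₀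
  have hdot' : ∀ i j (g : ι → ℤ), ∑ χ, Z i j χ * g χ = s i * g (A i) + ∑ χ, T i j χ * g χ :=
    fun i j g => by rw [hdot, (hAeq i j).1, (hAeq i j).2]
  have hprod : ∀ i i' j j', ∑ χ, Z i j χ * Z i' j' χ =
      (if i = i' then 1 else 0) + s i * T i' j' (A i) + s i' * T i j (A i') +
        ∑ χ, T i j χ * T i' j' χ := by
    intro i i' j j'
    rw [hdot', hTZ, (hAeq i' j').1, (hAeq i' j').2]
    have hz : Z i' j' (A i) = T i' j' (A i) + if i = i' then s i else 0 := by
      rw [hT, (hAeq i' j').1, (hAeq i' j').2]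
      by_cases e : i = i'
      · subst e; simp
      · rw [if_neg (hAdist i i' e).1, if_neg e]; ring
    rw [hz, Finset.sum_congr rfl fun χ _ => mul_comm (T i' j' χ) (T i j χ)]
    split_ifs with e
    · subst e
      rcases hs1 i with h | h <;> simp [h, hTA₀] <;> ring
    · ring
  -- the row of the trivial character
  have hTo : ∀ i j, T i j o = if i = i₀ then -1 else 0 := fun i j => by
    rw [hT, C.Z_o, (hAeq i j).1, if_neg (fun e => hAfix i (by rw [← e, C.fix_o]) : ¬ o = A i)]
    ring
  have hWex : ∀ j, ∃ a w, w * w = 1 ∧ σ a = a ∧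
      ∀ χ, T i₀ j χ - (if χ = o then (-1 : ℤ) else 0) = if χ = a then w else 0 := fun j =>
    exists_point (fun χ => by
      rw [hTσ]
      congr 1
      exact if_congr ⟨fun e => by rw [← C.invol χ, e, C.fix_o], fun e => by rw [e, C.fix_o]⟩ rfl rfl)
      (by rw [sum_sub_point_sq, hTnorm, hTo, if_pos rfl]; norm_num)
  choose W w hw hWfix hWT using hWex
  have hWo : ∀ j, W j ≠ o := fun j e => by
    have h := hWT j o
    rw [hTo, if_pos rfl, if_pos rfl, if_pos e.symm, sub_self] at h
    have := hw j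
    rw [← h] at this
    norm_num at this
  have hT0 : ∀ j (g : ι → ℤ), ∑ χ, T i₀ j χ * g χ = -g o + w j * g (W j) := fun j g => by
    rw [← sum_point_mul (W j) (w j) g, show -g o = (-1) * g o by ring, ← sum_point_mul o (-1) g,
      ← Finset.sum_add_distrib]
    exact Finset.sum_congr rfl fun χ _ => by rw [← hWT j χ]; ring
  have hWA : ∀ j i, W j ≠ A i ∧ o ≠ A i := fun j i =>
    ⟨fun e => hAfix i (by rw [← e]; exact hWfix j), fun e => hAfix i (by rw [← e]; exact C.fix_o)⟩
  have hT0A : ∀ j i, T i₀ j (A i) = 0 := fun j i => by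
    have h := hWT j (A i)
    rw [if_neg (hWA j i).2.symm, if_neg (hWA j i).1.symm, sub_zero] at h
    exact h
  have hWinj : Function.Injective W := by
    intro j j' e
    by_contra hne
    have h := C.ZZ i₀ i₀ j j'
    rw [hprod, hT0, hT0A, hT0A, if_pos rfl, if_pos rfl, if_neg hne, hTo, if_pos rfl] at h
    have hwT : T i₀ j' (W j) = w j' := by
      have := hWT j' (W j)
      rw [if_neg (hWo j), if_pos e, sub_zero] at this
      exact this
    rw [hwT] at h
    rcases mul_self_eq_one_iff.1 (hw j) with a | a <;>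
      rcases mul_self_eq_one_iff.1 (hw j') with b | b <;> rw [a, b] at h <;> norm_num at h
  -- the other rows
  have hrow0 : ∀ i, i ≠ i₀ → ∀ j j',
      s i₀ * T i j (A i₀) + w j' * T i j (W j') = if j = j' then 1 else 0 := fun i hi j j' => by
    have h := C.ZZ i i₀ j j'
    rw [hprod, if_neg hi, if_neg hi, hT0A, Finset.sum_congr rfl fun χ _ => mul_comm (T i j χ) _,
      hT0, hTo, if_neg hi] at h
    linarith
  have hsupp : ∀ i j, T i j (A i₀) ≠ 0 →
      ∀ χ, χ ≠ A i₀ → χ ≠ σ (A i₀) → T i j χ = 0 := by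
    intro i j h0 χ h1 h2
    by_contra hne
    have := sq_triple_le h1 h2 (hAfix i₀).symm (hTnorm i j)
    rw [hTσ] at this
    linarith [one_le_sq h0, one_le_sq hne]
  have hTW : ∀ i j, T i j (A i₀) ≠ 0 → ∀ j', T i j (W j') = 0 := fun i j h0 j' =>
    hsupp i j h0 _ (hWA j' i₀).1 fun e => (hAfix i₀) (by
      have := hWfix j'
      rw [e, C.invol] at this
      exact this.symm)
  have hTA0 : ∀ i j, T i j (A i₀) = 0 := by
    intro i j
    by_cases hi : i = i₀
    · rw [hi]; exact hTA₀ i₀ j
    by_contra h0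
    have h1 := hrow0 i hi j
    have h2 : r = 1 := by
      by_contra hr1
      obtain ⟨j', hj'⟩ := Fintype.exists_ne_of_one_lt_card
        (by rw [Fintype.card_fin]; omega : 1 < Fintype.card (Fin r)) j
      have e1 := h1 j
      have e2 := h1 j'
      rw [hTW i j h0, mul_zero, add_zero, if_pos rfl] at e1
      rw [hTW i j h0, mul_zero, add_zero, if_neg hj'.symm] at e2
      omega
    obtain ⟨i', -, hi'⟩ := Finset.exists_mem_notMem_of_card_lt_card
      (s := ({i₀, i} : Finset (Fin l))) (t := Finset.univ) (by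
        rw [Finset.card_univ, Fintype.card_fin]
        exact Finset.card_le_two.trans_lt (by omega))
    simp only [Finset.mem_insert, Finset.mem_singleton, not_or] at hi'
    have e1 := h1 j
    rw [hTW i j h0, mul_zero, add_zero, if_pos rfl] at e1
    have hdA : T i j (A i') = 0 := hsupp i j h0 _ (hAdist i₀ i' (Ne.symm hi'.1)).1.symm
      (hAdist i₀ i' (Ne.symm hi'.1)).2.symm
    have hz : ∀ a : ℤ, (∀ χ, T i' j χ = 0 → T i j χ * T i' j χ = 0) →
        T i j (A i₀) * T i' j (A i₀) = a → ∑ χ, T i j χ * T i' j χ = 2 * a := fun a _ ha => by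
      rw [← Finset.sum_subset (Finset.subset_univ {A i₀, σ (A i₀)}) (fun χ _ hχ => by
        simp only [Finset.mem_insert, Finset.mem_singleton, not_or] at hχ
        rw [hsupp i j h0 χ hχ.1 hχ.2, zero_mul]), Finset.sum_pair (hAfix i₀).symm, hTσ, hTσ, ha]
      ring
    have h := C.ZZ i i' j j
    rw [hprod, hdA, mul_zero, if_neg (Ne.symm hi'.2), if_neg (Ne.symm hi'.2), if_pos rfl,
      hz _ (fun χ e => by rw [e, mul_zero]) rfl] at h
    have e' := hrow0 i' hi'.1 j j
    rw [if_pos rfl] at e'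
    have hA_i : T i' j (A i) = 0 := by
      by_cases h0' : T i' j (A i₀) = 0
      · by_contra hne
        rw [h0', mul_zero, zero_add] at e'
        have hWne : T i' j (W j) ≠ 0 := fun e => by rw [e, mul_zero] at e'; norm_num at e'
        have h3 := sq_triple_le (hWA j i).1 (fun e => hAfix i (by
          have := hWfix j
          rw [e, C.invol] at this
          exact this.symm)) (hAfix i).symm (hTnorm i' j)
        rw [hTσ] at h3
        linarith [one_le_sq hne, one_le_sq hWne]
      · exact hsupp i' j h0' _ (hAdist i₀ i (Ne.symm hi)).1.symm (hAdist i₀ i (Ne.symm hi)).2.symm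
    rw [hA_i] at h
    omega
  have hTWval : ∀ i, i ≠ i₀ → ∀ j j', T i j (W j') = if j = j' then w j' else 0 :=
    fun i hi j j' => by
      have h := hrow0 i hi j j'
      rw [hTA0, mul_zero, zero_add] at h
      split_ifs at h ⊢
      · linear_combination w j' * h - T i j (W j') * hw j'
      · linear_combination w j' * h - T i j (W j') * hw j'
  have hWinv : ∀ j χ, σ χ = W j ↔ χ = W j := fun j χ =>
    ⟨fun e => by rw [← C.invol χ, e, hWfix], fun e => by rw [e, hWfix]⟩
  have hUex : ∀ i j, i ≠ i₀ → ∃ a u, u * u = 1 ∧ σ a = a ∧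
      ∀ χ, T i j χ - (if χ = W j then w j else 0) = if χ = a then u else 0 := fun i j hi =>
    exists_point (fun χ => by rw [hTσ]; congr 1; exact if_congr (hWinv j χ) rfl rfl)
      (by rw [sum_sub_point_sq, hTnorm, hTWval i hi j j, if_pos rfl]; linear_combination -hw j)
  haveI : Nonempty ι := ⟨o⟩
  choose! U' u' hu' hU'fix hUT using hUex
  set U : Fin l → ι := fun i => if i = i₀ then o else U' i j₀ with hU
  set u : Fin l → ℤ := fun i => if i = i₀ then -1 else u' i j₀ with hu
  have hu2 : ∀ i, u i * u i = 1 := fun i => by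
    simp only [hu]; split_ifs with h
    · norm_num
    · exact hu' i j₀ h
  have hUfix : ∀ i, σ (U i) = U i := fun i => by
    simp only [hU]; split_ifs with h
    · exact C.fix_o
    · exact hU'fix i j₀ h
  have hUW : ∀ i j, U i ≠ W j := fun i j e => by
    by_cases hi : i = i₀
    · simp only [hU, if_pos hi] at e; exact hWo j e.symm
    · simp only [hU, if_neg hi] at e
      have h := hUT i j₀ hi (W j)
      rw [hTWval i hi, if_pos e.symm] at h
      have hu0 : u' i j₀ ≠ 0 := fun e0 => by
        have := hu' i j₀ hi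
        rw [e0] at this
        norm_num at this
      refine hu0 ?_
      rw [← h]
      by_cases hj : j₀ = j
      · subst hj; simp
      · rw [if_neg hj, if_neg fun e' => hj (hWinj e').symm]; ring
  have hform : ∀ i j χ, T i j χ = (if χ = W j then w j else 0) + if χ = U i then u i else 0 := by
    intro i j χ
    by_cases hi : i = i₀
    · subst hi
      simp only [hU, hu, if_pos rfl]
      have := hWT j χ
      linarith
    simp only [hU, hu, if_neg hi]
    suffices he : U' i j = U' i j₀ ∧ u' i j = u' i j₀ by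
      have := hUT i j hi χ
      rw [he.1, he.2] at this
      linarith
    by_cases hj : j = j₀
    · subst hj; exact ⟨rfl, rfl⟩
    have h := C.ZZ i i j j₀
    rw [hprod, hTA₀, hTA₀, if_pos rfl, if_pos rfl, if_neg hj] at h
    rw [Finset.sum_congr rfl (g := fun χ => (if χ = W j then w j else 0) * T i j₀ χ +
      (if χ = U' i j then u' i j else 0) * T i j₀ χ) (fun χ _ => by rw [← hUT i j hi χ]; ring),
      Finset.sum_add_distrib, sum_point_mul, sum_point_mul, hTWval i hi j₀ j,
      if_neg (Ne.symm hj)] at h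
    simp only [mul_zero, zero_add, add_zero] at h
    have h' := hUT i j₀ hi (U' i j)
    have hne : U' i j ≠ W j₀ := fun e => by
      have h2 := hUT i j hi (W j₀)
      rw [hTWval i hi, if_neg hj, if_pos e.symm, if_neg fun e' => hj (hWinj e').symm] at h2
      have := hu' i j hi
      rw [← h2] at this
      norm_num at this
    rw [if_neg hne, sub_zero] at h'
    rw [h'] at h
    by_cases e : U' i j = U' i j₀
    · refine ⟨e, ?_⟩
      rw [if_pos e] at h
      rcases mul_self_eq_one_iff.1 (hu' i j hi) with a | a <;>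
        rcases mul_self_eq_one_iff.1 (hu' i j₀ hi) with b | b <;> rw [a, b] at h ⊢ <;>
          norm_num at h
    · rw [if_neg e] at h; norm_num at h
  have hUA : ∀ i i', U i ≠ A i' ∧ U i ≠ σ (A i') := fun i i' =>
    ⟨fun e => hAfix i' (by rw [← e]; exact hUfix i), fun e => hAfix i' (by
      have := hUfix i; rw [e, C.invol] at this; exact this.symm)⟩
  have hWσA : ∀ j i, W j ≠ σ (A i) := fun j i e => hAfix i (by
    have := hWfix j; rw [e, C.invol] at this; exact this.symm)
  have hUinj : Function.Injective U := by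
    intro i i' e
    by_contra hne
    have h := C.ZZ i i' j₀ j₀
    have hTT : ∑ χ, T i j₀ χ * T i' j₀ χ =
        w j₀ * T i' j₀ (W j₀) + u i * T i' j₀ (U i) := by
      rw [← sum_point_mul (W j₀) (w j₀), ← sum_point_mul (U i) (u i), ← Finset.sum_add_distrib]
      exact Finset.sum_congr rfl fun χ _ => by rw [hform i j₀ χ]; ring
    have hA1 : ∀ a b, T a j₀ (A b) = 0 := fun a b => by
      rw [hform, if_neg (hWA j₀ b).1.symm, if_neg (hUA a b).1.symm, add_zero]
    rw [hprod, hA1, hA1, if_neg hne, if_neg hne, if_pos rfl, hTT, hform, hform, if_pos rfl,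
      if_neg (hUW i' j₀).symm, if_neg (hUW i j₀), if_pos e] at h
    rcases mul_self_eq_one_iff.1 (hu2 i) with a | a <;>
      rcases mul_self_eq_one_iff.1 (hu2 i') with b | b <;> rw [a, b] at h <;>
      rcases mul_self_eq_one_iff.1 (hw j₀) with c | c <;> rw [c] at h <;> norm_num at h
  -- the columns `D`
  have hrel : ∀ i j m, s i * D m (A i) + w j * D m (W j) + u i * D m (U i) =
      if j = m then -3 else 0 := fun i j m => by
    rw [← C.ZD i j m, hdot', add_assoc, ← sum_point_mul (W j) (w j), ← sum_point_mul (U i) (u i),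
      ← Finset.sum_add_distrib]
    congr 1
    exact Finset.sum_congr rfl fun χ _ => by rw [hform i j χ]; ring
  let f : (Fin r ⊕ Fin l) ⊕ (Fin l ⊕ Fin l) → ι :=
    Sum.elim (Sum.elim W U) (Sum.elim A fun i => σ (A i))
  have hσinj : Function.Injective σ := Function.LeftInverse.injective C.invol
  have hfinj : Function.Injective f := by
    rintro ((a | a) | (a | a)) ((b | b) | (b | b)) h <;> simp only [f, Sum.elim_inl, Sum.elim_inr] at h
    · exact congrArg (Sum.inl ∘ Sum.inl) (hWinj h)
    · exact absurd h.symm (hUW b a)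
    · exact absurd h (hWA a b).1
    · exact absurd h (hWσA a b)
    · exact absurd h (hUW a b)
    · exact congrArg (Sum.inl ∘ Sum.inr) (hUinj h)
    · exact absurd h (hUA a b).1
    · exact absurd h (hUA a b).2
    · exact absurd h.symm (hWA b a).1
    · exact absurd h.symm (hUA b a).1
    · exact congrArg (Sum.inr ∘ Sum.inl) (by_contra fun e => (hAdist a b e).1 h)
    · exfalso
      rcases eq_or_ne a b with e | e
      · subst e; exact hAfix a h.symm
      · exact (hAdist b a e.symm).2 h.symm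
    · exact absurd h.symm (hWσA b a)
    · exact absurd h.symm (hUA b a).2
    · exfalso
      rcases eq_or_ne a b with e | e
      · subst e; exact hAfix a h
      · exact (hAdist a b e).2 h
    · exact congrArg (Sum.inr ∘ Sum.inr) (by_contra fun e => (hAdist a b e).1 (hσinj h))
  -- all `D m (A i)` vanish, and the columns vanish off the family
  have hmain : ∀ m, (∀ i, D m (A i) = 0) ∧ ∀ χ, χ ∉ Finset.univ.image f → D m χ = 0 := by
    intro m
    set h : ℤ := 1 - s i₀ * D m (A i₀) with hh
    have hW : ∀ j, w j * D m (W j) = h - 3 * if j = m then 1 else 0 := fun j => by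
      have e := hrel i₀ j m
      simp only [hu, hU, if_pos, C.D_o] at e
      split_ifs at e ⊢ <;> linarith [hh]
    have hU' : ∀ i, u i * D m (U i) = -(h + s i * D m (A i)) := fun i => by
      have e := hrel i j₀ m
      rw [hW] at e
      split_ifs at e <;> linarith
    have hD := C.DD m
    rw [← Finset.sum_sdiff (Finset.subset_univ (Finset.univ.image f)),
      Finset.sum_image fun a _ b _ e => hfinj e] at hD
    simp only [Fintype.sum_sum_type, f, Sum.elim_inl, Sum.elim_inr, C.D_σ] at hD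
    have eW : ∀ j, D m (W j) * D m (W j) = h * h + (if j = m then 9 - 6 * h else 0) := fun j => by
      rw [show D m (W j) * D m (W j) = (w j * D m (W j)) * (w j * D m (W j)) by
        linear_combination -(D m (W j) * D m (W j)) * hw j, hW]
      split_ifs <;> ring
    have eU : ∀ i, D m (U i) * D m (U i) =
        (h + s i * D m (A i)) * (h + s i * D m (A i)) := fun i => by
      rw [show D m (U i) * D m (U i) = (u i * D m (U i)) * (u i * D m (U i)) by
        linear_combination -(D m (U i) * D m (U i)) * hu2 i, hU']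
      ring
    have eA : ∀ i, D m (A i) * D m (A i) = (s i * D m (A i)) * (s i * D m (A i)) := fun i => by
      rcases hs1 i with e | e <;> rw [e] <;> ring
    simp only [eW, eU, eA, Finset.sum_add_distrib, Finset.sum_ite_eq', Finset.mem_univ, if_true,
      Finset.sum_const, Finset.card_univ, Fintype.card_fin, nsmul_eq_mul] at hD
    have hrest : 0 ≤ ∑ χ ∈ Finset.univ \ Finset.univ.image f, D m χ * D m χ :=
      Finset.sum_nonneg fun _ _ => mul_self_nonneg _
    set g : Fin l → ℤ := fun i => s i * D m (A i) with hg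
    set q : Fin l → ℤ := fun i => (h + g i) * (h + g i) + 2 * (g i * g i) with hq
    have hsum : (r : ℤ) * (h * h) + 9 - 6 * h + ∑ i, q i ≤ 9 := by
      have hq' : ∑ i, q i =
          ∑ i, (h + g i) * (h + g i) + (∑ i, g i * g i + ∑ i, g i * g i) := by
        rw [← Finset.sum_add_distrib, ← Finset.sum_add_distrib]
        exact Finset.sum_congr rfl fun i _ => by simp only [hq]; ring
      rw [hq']
      simp only [hg]
      linarith
    have hl' : (l : ℤ) + r = 6 := by exact_mod_cast hl
    have hr' : (1 : ℤ) ≤ r ∧ (r : ℤ) ≤ 4 := by rcases hr with e | e | e <;> subst e <;> norm_num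
    have hg0 : g i₀ = 1 - h := by simp only [hg, hh]; ring
    have h1 : h = 1 := by
      have hlow : ∀ i ∈ Finset.univ.erase i₀, 2 * (h * h) ≤ 3 * q i := fun i _ => by
        simp only [hq]; nlinarith [sq_nonneg (h + 3 * g i)]
      have h3 := Finset.card_nsmul_le_sum _ (fun i => 3 * q i) _ hlow
      rw [Finset.card_erase_of_mem (Finset.mem_univ _), Finset.card_univ, Fintype.card_fin,
        ← Finset.mul_sum, nsmul_eq_mul, Nat.cast_sub (by omega : 1 ≤ l)] at h3
      rw [← Finset.add_sum_erase _ _ (Finset.mem_univ i₀)] at hsum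
      have hq0 : q i₀ = 1 + 2 * ((1 - h) * (1 - h)) := by simp only [hq, hg0]; ring
      push_cast at h3
      rw [hq0] at hsum
      have key : (16 + (r : ℤ)) * (h * h) - 30 * h + 9 ≤ 0 := by
        rw [show (l : ℤ) = 6 - r by linarith] at h3
        nlinarith [h3, hsum]
      have hh0 : 0 ≤ h * h := mul_self_nonneg h
      rcases le_or_gt h 0 with hc | hc
      · nlinarith
      · rcases lt_or_ge h 2 with hc' | hc'
        · omega
        · nlinarith
    have hqi : ∀ i, 1 ≤ q i ∧ (q i = 1 → g i = 0) := fun i => by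
      simp only [hq, h1]
      rcases lt_trichotomy (g i) 0 with e | e | e
      · constructor
        · nlinarith
        · intro; nlinarith
      · simp [e]
      · constructor
        · nlinarith
        · intro; nlinarith
    have hge := Finset.card_nsmul_le_sum Finset.univ q 1 fun i _ => (hqi i).1
    rw [Finset.card_univ, Fintype.card_fin, nsmul_eq_mul, mul_one] at hge
    rw [h1] at hsum
    have hqsum : ∑ i, q i = (l : ℤ) := le_antisymm (by nlinarith) hge
    have hall : ∀ i, q i = 1 := fun i => by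
      refine le_antisymm ?_ (hqi i).1
      rw [← Finset.add_sum_erase _ _ (Finset.mem_univ i)] at hqsum
      have h4 := Finset.card_nsmul_le_sum (Finset.univ.erase i) q 1 fun a _ => (hqi a).1
      rw [Finset.card_erase_of_mem (Finset.mem_univ i), Finset.card_univ, Fintype.card_fin,
        nsmul_eq_mul, mul_one, Nat.cast_sub (by omega : 1 ≤ l)] at h4
      push_cast at h4
      linarith
    refine ⟨fun i => ?_, fun χ hχ => ?_⟩
    · have := (hqi i).2 (hall i)
      simp only [hg] at this
      rcases hs1 i with e | e <;> rw [e] at this <;> linarith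
    · have hzero : ∑ χ ∈ Finset.univ \ Finset.univ.image f, D m χ * D m χ = 0 := by
        have hq' : ∑ i, q i =
            ∑ i, (h + g i) * (h + g i) + (∑ i, g i * g i + ∑ i, g i * g i) := by
          rw [← Finset.sum_add_distrib, ← Finset.sum_add_distrib]
          exact Finset.sum_congr rfl fun i _ => by simp only [hq]; ring
        rw [hqsum] at hq'
        simp only [hg, h1] at hq' hD
        linarith
      exact mul_self_eq_zero.1 ((Finset.sum_eq_zero_iff_of_nonneg fun _ _ => mul_self_nonneg _).1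
        hzero χ (Finset.mem_sdiff.2 ⟨Finset.mem_univ χ, hχ⟩))
  have hsurj : Function.Surjective f := by
    intro χ
    by_contra hne
    have hχ : χ ∉ Finset.univ.image f := fun hh => by
      obtain ⟨a, -, ha⟩ := Finset.mem_image.1 hh
      exact hne ⟨a, ha⟩
    have hne' : ∀ a, χ ≠ f a := fun a e => hne ⟨a, e.symm⟩
    refine C.nondeg χ (fun i => ?_) (fun i j => ?_) fun m => (hmain m).2 χ hχ
    · have h1 := hne' (Sum.inr (Sum.inl i))
      have h2 := hne' (Sum.inr (Sum.inr i))
      simp only [f, Sum.elim_inl, Sum.elim_inr, hA] at h1 h2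
      rcases hA'pair i j₀ with ⟨e1, e2⟩ | ⟨e1, e2⟩ <;> rw [e1] at h1 <;> rw [e2] at h2
      · exact hVsupp i χ h1 h2
      · exact hVsupp i χ h2 h1
    · have h1 : χ ≠ A i := hne' (Sum.inr (Sum.inl i))
      have h2 : χ ≠ U i := hne' (Sum.inl (Sum.inr i))
      have h3 : χ ≠ W j := hne' (Sum.inl (Sum.inl j))
      have := hT i j χ
      rw [(hAeq i j).1, if_neg h1, hform, if_neg h3, if_neg h2] at this
      linarith
  let F : (Fin r ⊕ Fin l) ⊕ (Fin l ⊕ Fin l) ≃ ι := Equiv.ofBijective f ⟨hfinj, hsurj⟩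
  refine ⟨?_, ?_⟩
  · rw [← Fintype.card_congr F]
    simp only [Fintype.card_sum, Fintype.card_fin]
    omega
  · let g : Fin r ⊕ Fin l → {χ : ι // ¬ (3 : ℤ) ∣ D j₀ χ} := fun a => ⟨f (Sum.inl a), by
      have hv := hmain j₀
      rcases a with j | i
      · show ¬ (3 : ℤ) ∣ D j₀ (W j)
        have e := hrel i₀ j j₀
        simp only [hu, hU, if_pos, C.D_o, (hmain j₀).1 i₀, mul_zero, zero_add] at e
        rcases mul_self_eq_one_iff.1 (hw j) with a | a <;> rw [a] at e <;>
          split_ifs at e <;> omega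
      · show ¬ (3 : ℤ) ∣ D j₀ (U i)
        have e := hrel i j₀ j₀
        have e0 := hrel i₀ j₀ j₀
        simp only [hu, hU, if_pos, C.D_o, (hmain j₀).1 i₀, mul_zero, zero_add] at e0
        rw [(hmain j₀).1 i, mul_zero, zero_add] at e
        rcases mul_self_eq_one_iff.1 (hu2 i) with a | a <;> rw [a] at e <;> omega⟩
    have hg : Function.Bijective g := by
      refine ⟨fun a b e => Sum.inl_injective (hfinj (congrArg Subtype.val e)), fun ⟨χ, hχ⟩ => ?_⟩
      obtain ⟨a, ha⟩ := hsurj χ
      rcases a with a | a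
      · exact ⟨a, Subtype.ext ha⟩
      · exfalso
        refine hχ ?_
        rw [← ha]
        rcases a with i | i <;> simp only [f, Sum.elim_inl, Sum.elim_inr, C.D_σ]
        all_goals rw [(hmain j₀).1 i]; exact dvd_zero _
    rw [← Nat.card_congr (Equiv.ofBijective g hg), Nat.card_eq_fintype_card, Fintype.card_sum,
      Fintype.card_fin, Fintype.card_fin]
    omega

end Columns

end Cfsg.Agent.ThreeExtra
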