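import Cfsg.Agent.Lib.ThreeExtra.Reps

/-!
# The sections of the nontrivial 3-elements
-/

set_option autoImplicit false
set_option linter.unusedSectionVars false
set_option linter.style.haveILetI false

namespace Cfsg.Agent.ThreeExtra

open Cfsg
open scoped Pointwise

/-- Representatives of the classes of nontrivial `3`-elements, with the properties used for the
principal block. -/
structure Data (G : Type*) [Group G] (z : G) {r : ℕ} (x : Fin r → G) : Prop where
  z_ord : orderOf z = 3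
  x_ord : ∀ j, orderOf (x j) = 3
  exp : ∀ u : G, (∃ k, orderOf u = 3 ^ k) → u ^ 3 = 1
  cover : ∀ u : G, (∃ k, orderOf u = 3 ^ k) → u ≠ 1 →
    IsConj z u ∨ IsConj z⁻¹ u ∨ ∃ j, IsConj (x j) u
  z_inv : ¬ IsConj z z⁻¹
  z_x : ∀ j, ¬ IsConj z (x j)
  zinv_x : ∀ j, ¬ IsConj z⁻¹ (x j)
  x_inj : ∀ i j, IsConj (x i) (x j) → i = j
  comm : ∀ j, Commute z (x j)
  x_inv : ∀ j, IsConj (x j) (x j)⁻¹
  x_mul : ∀ j, IsConj (x j) (x j * z)
  compl : ∀ j, HasNormalPComplement 3 (Subgroup.centralizer ({x j} : Set G))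
  fac : ∀ j, (Nat.card (Subgroup.centralizer ({x j} : Set G))).factorization 3 = 2

variable {G : Type*} [Group G] [Finite G] [Fact (Nat.Prime 3)] {P : Sylow 3 G} {z : G} {r : ℕ}
  {x : Fin r → G}

namespace Hyp

theorem toData (h : Hyp P z) (hr : Reps P z x) : Data G z x where
  z_ord := h.z_ord
  x_ord j := orderOf_eq_prime (h.exp _ (hr.mem j)) fun e => hr.notZ j (by rw [e]; exact one_mem _)
  exp u hu := by
    obtain ⟨k, hk⟩ := hu
    obtain ⟨R, hR⟩ := (IsPGroup.of_card (p := 3) (n := k) (G := Subgroup.zpowers u)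
      (by rw [Nat.card_zpowers, hk])).exists_le_sylow
    obtain ⟨c, hc⟩ := MulAction.exists_smul_eq G R P
    have hm : c * u * c⁻¹ ∈ (P : Subgroup G) := by
      rw [← hc, Sylow.coe_subgroup_smul]
      exact ⟨u, hR (Subgroup.mem_zpowers _), rfl⟩
    have := h.exp _ hm
    rw [conj_pow] at this
    exact conj_eq_one_iff.1 this
  cover u hu hu1 := by
    obtain ⟨k, hk⟩ := hu
    obtain ⟨R, hR⟩ := (IsPGroup.of_card (p := 3) (n := k) (G := Subgroup.zpowers u)
      (by rw [Nat.card_zpowers, hk])).exists_le_sylow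
    obtain ⟨c, hc⟩ := MulAction.exists_smul_eq G R P
    have hm : c * u * c⁻¹ ∈ (P : Subgroup G) := by
      rw [← hc, Sylow.coe_subgroup_smul]
      exact ⟨u, hR (Subgroup.mem_zpowers _), rfl⟩
    have hconj : IsConj (c * u * c⁻¹) u := (isConj_iff.2 ⟨c, rfl⟩ : IsConj u (c * u * c⁻¹)).symm
    by_cases hZ : c * u * c⁻¹ ∈ Subgroup.zpowers z
    · rcases h.mem_zpowers_z hZ with e | e | e
      · exact absurd (conj_eq_one_iff.1 e) hu1
      · exact Or.inl (e ▸ hconj)
      · exact Or.inr (Or.inl (e ▸ hconj))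
    · obtain ⟨j, n, hn, hd⟩ := hr.cover _ hm hZ
      obtain ⟨v, -, hv⟩ := h.exists_conj_mul (hr.mem j) (hr.notZ j) hd
      refine Or.inr (Or.inr ⟨j, ?_⟩)
      have h1 : IsConj (x j) (n * (c * u * c⁻¹) * n⁻¹) := isConj_iff.2 ⟨v, by
        rw [hv, ← (h.commute_Z hd (hr.mem j)).eq, inv_mul_cancel_right]⟩
      exact (h1.trans (isConj_iff.2 ⟨n, rfl⟩ :
        IsConj (c * u * c⁻¹) (n * (c * u * c⁻¹) * n⁻¹)).symm).trans hconj
  z_inv hh := by
    obtain ⟨g, hg⟩ := isConj_iff.1 hh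
    have h1 := h.eq_z_of_conj (g := g) (by rw [hg]; exact inv_mem h.zP)
    rw [hg] at h1
    exact h.z_inv_ne h1
  z_x j hh := by
    obtain ⟨g, hg⟩ := isConj_iff.1 hh
    have h1 := h.eq_z_of_conj (g := g) (by rw [hg]; exact hr.mem j)
    rw [hg] at h1
    exact hr.notZ j (by rw [h1]; exact Subgroup.mem_zpowers z)
  zinv_x j hh := by
    obtain ⟨g, hg⟩ := isConj_iff.1 hh
    have h1 := h.eq_of_conj_Z (inv_mem (Subgroup.mem_zpowers z)) (g := g)
      (by rw [hg]; exact hr.mem j)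
    rw [hg] at h1
    exact hr.notZ j (by rw [h1]; exact inv_mem (Subgroup.mem_zpowers z))
  x_inj i j hh := by
    obtain ⟨n, hn, e⟩ := h.exists_norm_conj (hr.mem i) (hr.notZ i) (hr.mem j) (hr.notZ j) hh
    exact hr.unique i j n hn (by rw [e, mul_inv_cancel]; exact one_mem _)
  comm j := h.zcomm _ (hr.mem j)
  x_inv j := by
    obtain ⟨n, hn, hd⟩ := hr.inv j
    have hxZ : (x j)⁻¹ ∉ Subgroup.zpowers z := fun hh => hr.notZ j (inv_mem_iff.1 hh)
    obtain ⟨v, hv, hvd⟩ := h.exists_conj_mul (inv_mem (hr.mem j)) hxZ hd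
    refine (isConj_iff.2 ⟨n, rfl⟩ : IsConj (x j) (n * x j * n⁻¹)).trans ?_
    refine (isConj_iff.2 ⟨v, ?_⟩ : IsConj (x j)⁻¹ (n * x j * n⁻¹)).symm
    rw [hvd, ← (h.commute_Z hd (inv_mem (hr.mem j))).eq, mul_inv_cancel_right]
  x_mul j := by
    obtain ⟨v, -, hv⟩ := h.exists_conj_mul (hr.mem j) (hr.notZ j) (Subgroup.mem_zpowers z)
    exact isConj_iff.2 ⟨v, hv⟩
  compl j := h.compl (hr.mem j) (hr.notZ j)
  fac j := h.centralizer_fac (hr.mem j) (hr.notZ j)

theorem le_centralizer_z (h : Hyp P z) :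
    (P : Subgroup G) ≤ Subgroup.centralizer ({z} : Set G) := fun u hu =>
  Subgroup.mem_centralizer_singleton_iff.2 (h.zcomm u hu).symm.eq

/-- `z` in its centralizer. -/
def zc (z : G) : Subgroup.centralizer ({z} : Set G) :=
  ⟨z, Subgroup.mem_centralizer_singleton_iff.2 rfl⟩

/-- The same data in the centralizer of `z`. -/
theorem toDataCentralizer (h : Hyp P z) (hr : Reps P z x) :
    Data (Subgroup.centralizer ({z} : Set G)) (zc z)
      (fun j => (⟨x j, h.le_centralizer_z (hr.mem j)⟩ : Subgroup.centralizer ({z} : Set G))) := by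
  set C := Subgroup.centralizer ({z} : Set G)
  set P' : Sylow 3 C := P.subtype h.le_centralizer_z
  have hmem : ∀ u : C, u ∈ (P' : Subgroup C) ↔ (u : G) ∈ (P : Subgroup G) := fun u => Iff.rfl
  have hZ : ∀ u : C, u ∈ Subgroup.zpowers (zc z) ↔ (u : G) ∈ Subgroup.zpowers z := fun u => by
    constructor
    · rintro ⟨i, rfl⟩; exact ⟨i, rfl⟩
    · rintro ⟨i, hi⟩; exact ⟨i, Subtype.ext hi⟩
  have hN : ∀ n : C, n ∈ Subgroup.normalizer ((P' : Subgroup C) : Set C) →
      (n : G) ∈ Subgroup.normalizer ((P : Subgroup G) : Set G) := by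
    intro n hn
    refine Subgroup.mem_normalizer_iff.2 fun u => ⟨fun hu => ?_, fun hu => ?_⟩
    · exact (Subgroup.mem_normalizer_iff.1 hn ⟨u, h.le_centralizer_z hu⟩).1 hu
    · have hmemC : u ∈ C := by
        have := C.mul_mem (C.mul_mem (C.inv_mem n.2) (h.le_centralizer_z hu)) n.2
        simpa [mul_assoc] using this
      exact (Subgroup.mem_normalizer_iff.1 hn ⟨u, hmemC⟩).2 hu
  have hNC : ∀ n ∈ Subgroup.normalizer ((P : Subgroup G) : Set G), n ∈ C := fun n hn =>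
    Subgroup.mem_centralizer_singleton_iff.2 (h.norm n hn).eq
  have hN' : ∀ n (hn : n ∈ Subgroup.normalizer ((P : Subgroup G) : Set G)),
      (⟨n, hNC n hn⟩ : C) ∈ Subgroup.normalizer ((P' : Subgroup C) : Set C) := fun n hn =>
    Subgroup.mem_normalizer_iff.2 fun u => Subgroup.mem_normalizer_iff.1 hn (u : G)
  have h' : Hyp P' (zc z) := by
    refine ⟨?_, h.zP, fun e => h.z1 (congrArg Subtype.val e), fun u hu => Subtype.ext (h.exp u hu),
      fun u hu => Subtype.ext (h.zcomm u hu).eq, fun u hu hy => (hZ u).2 (h.center u hu fun y hy' =>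
        congrArg Subtype.val (hy ⟨y, h.le_centralizer_z hy'⟩ hy').eq),
      fun a ha b hb => (hZ _).2 (h.comm a ha b hb),
      fun g _ => Subtype.ext (Subgroup.mem_centralizer_singleton_iff.1 g.2)⟩
    rw [← h.card]
    exact Nat.card_congr (Subgroup.subgroupOfEquivOfLe h.le_centralizer_z).toEquiv
  refine h'.toData (r := r) ⟨hr.mem, fun j hh => hr.notZ j ((hZ _).1 hh), fun u hu huZ => ?_,
    fun i j n hn hh => hr.unique i j n (hN n hn) ((hZ _).1 hh), fun j => ?_⟩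
  · obtain ⟨j, n, hn, hd⟩ := hr.cover u hu fun hh => huZ ((hZ u).2 hh)
    exact ⟨j, ⟨n, hNC n hn⟩, hN' n hn, (hZ _).2 hd⟩
  · obtain ⟨n, hn, hd⟩ := hr.inv j
    exact ⟨⟨n, hNC n hn⟩, hN' n hn, (hZ _).2 hd⟩

end Hyp

end Cfsg.Agent.ThreeExtra
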