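import Cfsg.Agent.Lib.ThreeExtra.Data
import Cfsg.Agent.Lib.Transfer.Fusion
import Cfsg.Agent.Lib.DefectOne.Principal
import Cfsg.Agent.Lib.Blocks.PPrimeNormal
import Cfsg.Agent.Lib.Char.Descend
import Cfsg.Agent.Lib.Char.Linear
import Cfsg.Agent.Lib.Char.KernelSum
import Cfsg.Agent.S4646
import Cfsg.Prelude.Def_BlockRank

/-!
# Trivial inertial quotient: the block of a group with a normal 3-complement
-/

set_option autoImplicit false
set_option linter.unusedSectionVars false
set_option linter.style.haveILetI false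

namespace Cfsg.Agent.ThreeExtra

open Cfsg Cfsg.Agent
open scoped Classical

universe u

variable {G : Type u} [Group G] [Fintype G] [Fact (Nat.Prime 3)] {P : Sylow 3 G} {z : G}

/-- With trivial inertial quotient `P` controls its own fusion. -/
theorem hasNormalPComplement_of_trivial (h : Hyp P z)
    (he : ((P : Subgroup G) ⊔ Subgroup.centralizer ((P : Subgroup G) : Set G)).relIndex
      (Subgroup.normalizer ((P : Subgroup G) : Set G)) = 1) :
    HasNormalPComplement 3 G := by
  refine Transfer.hasNormalPComplement_of_own_fusion P fun x hx g hg => ?_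
  by_cases hxZ : x ∈ Subgroup.zpowers z
  · exact ⟨1, one_mem _, by rw [h.eq_of_conj_Z hxZ hg]; group⟩
  by_cases hyZ : g * x * g⁻¹ ∈ Subgroup.zpowers z
  · exfalso
    have e := h.eq_of_conj_Z hyZ (g := g⁻¹) (by
      rw [show g⁻¹ * (g * x * g⁻¹) * g⁻¹⁻¹ = x by group]; exact hx)
    rw [show g⁻¹ * (g * x * g⁻¹) * g⁻¹⁻¹ = x by group] at e
    exact hxZ (e ▸ hyZ)
  obtain ⟨n, hn, e⟩ := h.exists_norm_conj hx hxZ hg hyZ (isConj_iff.2 ⟨g, rfl⟩)
  have hT := Subgroup.relIndex_eq_one.1 he hn
  have hcomm : ∀ u ∈ (P : Subgroup G) ⊔ Subgroup.centralizer ((P : Subgroup G) : Set G),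
      ∃ v ∈ (P : Subgroup G), ∃ c ∈ Subgroup.centralizer ((P : Subgroup G) : Set G), v * c = u := by
    intro u hu
    have hle : (P : Subgroup G) ≤
        Subgroup.normalizer (Subgroup.centralizer ((P : Subgroup G) : Set G) : Set G) := by
      intro a ha
      rw [Subgroup.mem_normalizer_iff]
      intro c
      simp only [SetLike.mem_coe, Subgroup.mem_centralizer_iff]
      constructor
      · intro hc y hy
        have := hc (a⁻¹ * y * a) (mul_mem (mul_mem (inv_mem ha) hy) ha)
        calc y * (a * c * a⁻¹) = a * ((a⁻¹ * y * a) * c) * a⁻¹ := by group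
          _ = a * c * a⁻¹ * y := by rw [this]; group
      · intro hc y hy
        have := hc (a * y * a⁻¹) (mul_mem (mul_mem ha hy) (inv_mem ha))
        calc y * c = a⁻¹ * ((a * y * a⁻¹) * (a * c * a⁻¹)) * a := by group
          _ = c * y := by rw [this]; group
    have hu' : u ∈ (((P : Subgroup G) ⊔ Subgroup.centralizer ((P : Subgroup G) : Set G) :
        Subgroup G) : Set G) := hu
    rw [Subgroup.coe_mul_of_left_le_normalizer_right _ _ hle] at hu'
    obtain ⟨v, hv, c, hc, rfl⟩ := Set.mem_mul.1 hu'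
    exact ⟨v, hv, c, hc, rfl⟩
  obtain ⟨v, hv, c, hc, rfl⟩ := hcomm n hT
  refine ⟨v, hv, e.symm ▸ ?_⟩
  rw [show v * c * x * (v * c)⁻¹ = v * (c * x * c⁻¹) * v⁻¹ by group,
    mul_inv_eq_of_eq_mul (Subgroup.mem_centralizer_iff.1 hc x hx).symm]

/-- The invariants with trivial inertial quotient. -/
theorem invariants_of_trivial {M : Ideal AlgInt} [M.IsMaximal] (h : Hyp P z)
    (hE : IsExtraspecial 3 ↥(P : Subgroup G))
    (he : ((P : Subgroup G) ⊔ Subgroup.centralizer ((P : Subgroup G) : Set G)).relIndex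
      (Subgroup.normalizer ((P : Subgroup G) : Set G)) = 1) (hM : IsPModular 3 M) :
    Nat.card (principalBlock M G) = 11 ∧ blockRank 3 (principalBlock M G) = 1 ∧
      Nat.card {χ : IrrCharacter G // χ ∈ principalBlock M G ∧
        ¬ (3 : ℤ) ∣ (Char.degree χ : ℤ)} = 9 := by
  have hpM := hM.2.2
  have hnc := hasNormalPComplement_of_trivial h he
  haveI : CharP (AlgInt ⧸ M) 3 := Blocks.charP_residue hpM
  have hrank : blockRank 3 (principalBlock M G) = 1 :=
    (S4646.result 3 M hM).1 (BrauerPairs.isNilpotentBlock_principal_iff.2 hnc)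
  obtain ⟨hidx, -⟩ := DefectOne.index_pPrimeCore_of_hasNormalPComplement hnc
  set K := pPrimeCore 3 G
  haveI : K.Normal := inferInstance
  have hB : principalBlock M G = {χ : IrrCharacter G | Char.TrivOn K χ.1} := by
    rw [Blocks.principalBlock_eq_of_index hpM ⟨_, hidx⟩]; rfl
  -- `P` maps isomorphically onto `G ⧸ K`
  let f : ↥(P : Subgroup G) →* G ⧸ K := (QuotientGroup.mk' K).comp (P : Subgroup G).subtype
  have hf : Function.Injective f := (injective_iff_map_eq_one f).2 fun a ha => by
    have hm : (a : G) ∈ K := (QuotientGroup.eq_one_iff _).1 ha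
    have hco : Nat.Coprime (Nat.card K) (Nat.card (P : Subgroup G)) := by
      rw [P.card_eq_multiplicity]
      exact Nat.Coprime.pow_right _ PCore.coprime_card_pPrimeCore
    have h2 := Nat.eq_one_of_dvd_coprimes hco (Subgroup.orderOf_dvd_natCard _ hm)
      (Subgroup.orderOf_coe a ▸ orderOf_dvd_natCard _)
    rw [Subgroup.orderOf_coe, orderOf_eq_one_iff] at h2
    exact h2
  haveI : Fintype (G ⧸ K) := Fintype.ofFinite _
  have hQ : Nat.card (G ⧸ K) = 27 := by
    rw [← Subgroup.index, hidx, ← P.card_eq_multiplicity, h.card]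
  have hfb : Function.Bijective f := (Nat.bijective_iff_injective_and_card f).2
    ⟨hf, by rw [hQ, h.card]⟩
  have hlin : Nat.card {χ : IrrCharacter (G ⧸ K) // χ.1 1 = 1} = 9 := by
    rw [Char.card_linear]
    have hmap : commutator (G ⧸ K) = (commutator ↥(P : Subgroup G)).map f := by
      rw [commutator_def, commutator_def, Subgroup.map_commutator,
        Subgroup.map_top_of_surjective f hfb.2]
    have hc : Nat.card (commutator (G ⧸ K)) = 3 := by
      rw [hmap, Subgroup.card_map_of_injective hf, hE.1.2.2, hE.2]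
    have h2 := (commutator (G ⧸ K)).card_mul_index
    rw [hQ, hc] at h2
    omega
  have hdeg : ∀ χ : IrrCharacter (G ⧸ K), Char.degree χ = 1 ∨ Char.degree χ = 3 := by
    intro χ
    have hd := Char.charDegree_dvd_card χ
    rw [Char.charDegree_eq_degree, hQ] at hd
    have hle := Finset.single_le_sum (f := fun ψ : IrrCharacter (G ⧸ K) => Char.degree ψ ^ 2)
      (fun _ _ => Nat.zero_le _) (Finset.mem_univ χ)
    rw [Char.sum_degree_sq, hQ] at hle
    obtain ⟨i, hi, hpw⟩ := (Nat.dvd_prime_pow Nat.prime_three).1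
      (show Char.degree χ ∣ 3 ^ 3 from hd)
    rw [hpw] at hle ⊢
    interval_cases i <;> simp_all
  have hone : ∀ χ : IrrCharacter (G ⧸ K), χ.1 1 = 1 ↔ Char.degree χ = 1 := fun χ => by
    rw [Char.apply_one_eq_degree]; exact Nat.cast_eq_one
  have h9 : (Finset.univ.filter fun χ : IrrCharacter (G ⧸ K) => Char.degree χ = 1).card = 9 := by
    rw [← hlin, Nat.card_eq_fintype_card, Fintype.card_subtype]
    congr 1
    exact Finset.filter_congr fun χ _ => (hone χ).symm
  have h11 : Fintype.card (IrrCharacter (G ⧸ K)) = 11 := by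
    have hs := Char.sum_degree_sq (G := G ⧸ K)
    rw [hQ, ← Finset.sum_filter_add_sum_filter_not Finset.univ
      (fun χ : IrrCharacter (G ⧸ K) => Char.degree χ = 1),
      Finset.sum_congr rfl (g := fun _ => 1) (fun χ hχ => by
        rw [(Finset.mem_filter.1 hχ).2, one_pow]),
      Finset.sum_congr rfl (g := fun _ => 9)
        (s₁ := Finset.univ.filter fun χ : IrrCharacter (G ⧸ K) => ¬ Char.degree χ = 1) (fun χ hχ => by
          rw [(hdeg χ).resolve_left (Finset.mem_filter.1 hχ).2]; rfl),
      Finset.sum_const, Finset.sum_const, h9] at hs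
    rw [← Finset.card_univ, ← Finset.card_filter_add_card_filter_not (p := fun
      χ : IrrCharacter (G ⧸ K) => Char.degree χ = 1), h9]
    simp only [smul_eq_mul] at hs
    omega
  let e : IrrCharacter (G ⧸ K) ≃ {χ : IrrCharacter G // χ ∈ principalBlock M G} :=
    Equiv.ofBijective (fun ψ => ⟨Char.inflate K ψ, hB.ge (Char.trivOn_inflate K ψ)⟩)
      ⟨fun a b hab => Char.inflate_injective K (congrArg Subtype.val hab), fun ⟨χ, hχ⟩ => by
        obtain ⟨ψ, hψ⟩ := Char.exists_descend K χ (hB.le hχ)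
        exact ⟨ψ, Subtype.ext (Subtype.ext (funext hψ))⟩⟩
  have hed : ∀ ψ, Char.degree (e ψ).1 = Char.degree ψ := fun ψ => Nat.cast_injective (R := ℂ) (by
    rw [← Char.apply_one_eq_degree, ← Char.apply_one_eq_degree]
    show ψ.1 ((1 : G) : G ⧸ K) = _
    rw [QuotientGroup.mk_one])
  refine ⟨?_, hrank, ?_⟩
  · rw [← h11, ← Nat.card_eq_fintype_card]
    exact (Nat.card_congr e).symm
  · rw [← h9]
    rw [← Fintype.card_subtype, ← Nat.card_eq_fintype_card]
    refine (Nat.card_congr ?_).symm
    refine ((e.subtypeEquiv (q := fun χ => ¬ (3 : ℤ) ∣ (Char.degree χ.1 : ℤ)) fun ψ => ?_).trans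
      (Equiv.subtypeSubtypeEquivSubtypeInter _ fun χ : IrrCharacter G =>
        ¬ (3 : ℤ) ∣ (Char.degree χ : ℤ)))
    rw [hed]
    rcases hdeg ψ with e | e <;> simp [e]

end Cfsg.Agent.ThreeExtra
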