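import Cfsg.Agent.Lib.Transfer.Burnside
import Mathlib.GroupTheory.PGroup

/-!
# Fusion in a group with an extraspecial Sylow 3-subgroup of order 27 whose center is centralized
by its normalizer

The center is weakly closed and fusion in `P` is controlled by `N(P)`.
-/

set_option autoImplicit false
set_option linter.unusedSectionVars false

namespace Cfsg.Agent.ThreeExtra

open Cfsg
open scoped Pointwise

variable {G : Type*} [Group G] [Finite G]

/-- The hypotheses on the Sylow subgroup `P` and a generator `z` of its center. -/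
structure Hyp (P : Sylow 3 G) (z : G) : Prop where
  card : Nat.card (P : Subgroup G) = 27
  zP : z ∈ (P : Subgroup G)
  z1 : z ≠ 1
  exp : ∀ u ∈ (P : Subgroup G), u ^ 3 = 1
  zcomm : ∀ u ∈ (P : Subgroup G), Commute z u
  center : ∀ u ∈ (P : Subgroup G), (∀ y ∈ (P : Subgroup G), Commute u y) → u ∈ Subgroup.zpowers z
  comm : ∀ a ∈ (P : Subgroup G), ∀ b ∈ (P : Subgroup G),
    a * b * a⁻¹ * b⁻¹ ∈ Subgroup.zpowers z
  norm : ∀ g ∈ Subgroup.normalizer ((P : Subgroup G) : Set G), Commute g z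

namespace Hyp

variable [Fact (Nat.Prime 3)] {P : Sylow 3 G} {z : G}

theorem z_ord (h : Hyp P z) : orderOf z = 3 := orderOf_eq_prime (h.exp z h.zP) h.z1

theorem z_inv_ne (h : Hyp P z) : z⁻¹ ≠ z := fun e => by
  have h2 : z ^ 2 = 1 := by rw [pow_two]; nth_rewrite 1 [← e]; exact inv_mul_cancel z
  have := orderOf_dvd_of_pow_eq_one h2
  rw [h.z_ord] at this
  norm_num at this

theorem mem_zpowers_z (h : Hyp P z) {c : G} (hc : c ∈ Subgroup.zpowers z) :
    c = 1 ∨ c = z ∨ c = z⁻¹ := by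
  obtain ⟨i, rfl⟩ := hc
  dsimp only
  rw [← zpow_mod_orderOf, h.z_ord]
  have h1 : 0 ≤ i % (3 : ℕ) := Int.emod_nonneg _ (by norm_num)
  have h2 : i % (3 : ℕ) < 3 := Int.emod_lt_of_pos _ (by norm_num)
  generalize i % (3 : ℕ) = m at h1 h2
  interval_cases m
  · exact Or.inl (zpow_zero z)
  · exact Or.inr (Or.inl (zpow_one z))
  · right; right
    rw [eq_inv_iff_mul_eq_one, ← h.exp z h.zP, show (2 : ℤ) = ((2 : ℕ) : ℤ) from rfl, zpow_natCast,
      ← pow_succ]

theorem zpowers_le (h : Hyp P z) : Subgroup.zpowers z ≤ (P : Subgroup G) :=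
  Subgroup.zpowers_le.2 h.zP

theorem card_Z (h : Hyp P z) : Nat.card (Subgroup.zpowers z) = 3 := by
  rw [Nat.card_zpowers, h.z_ord]

theorem commute_Z (h : Hyp P z) {c : G} (hc : c ∈ Subgroup.zpowers z) {u : G}
    (hu : u ∈ (P : Subgroup G)) : Commute c u := by
  obtain ⟨i, rfl⟩ := hc
  exact (h.zcomm u hu).zpow_left i

theorem conj_Z (h : Hyp P z) {g : G} (hg : Commute g z) {c : G} (hc : c ∈ Subgroup.zpowers z) :
    g * c * g⁻¹ = c := by
  obtain ⟨i, rfl⟩ := hc
  exact mul_inv_eq_of_eq_mul (hg.zpow_right i).eq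

theorem norm_conj (h : Hyp P z) {g : G} (hg : g ∈ Subgroup.normalizer ((P : Subgroup G) : Set G))
    {c : G} (hc : c ∈ Subgroup.zpowers z) : g * c * g⁻¹ = c :=
  h.conj_Z (h.norm g hg) hc

/-- The centralizer in `P` of `x`. -/
def cP (P : Sylow 3 G) (x : G) : Subgroup G :=
  (P : Subgroup G) ⊓ Subgroup.centralizer ({x} : Set G)

omit [Finite G] [Fact (Nat.Prime 3)] in
theorem mem_cP {x u : G} : u ∈ cP P x ↔ u ∈ (P : Subgroup G) ∧ Commute u x := by
  rw [cP, Subgroup.mem_inf, Subgroup.mem_centralizer_singleton_iff]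
  rfl

theorem self_mem_cP {x : G} (hx : x ∈ (P : Subgroup G)) : x ∈ cP P x :=
  mem_cP.2 ⟨hx, Commute.refl x⟩

theorem z_mem_cP (h : Hyp P z) {x : G} (hx : x ∈ (P : Subgroup G)) : z ∈ cP P x :=
  mem_cP.2 ⟨h.zP, h.zcomm x hx⟩

theorem card_le_P (h : Hyp P z) {K : Subgroup G} (hK : K ≤ (P : Subgroup G)) :
    Nat.card K ∈ ({1, 3, 9, 27} : Finset ℕ) := by
  have hd : Nat.card K ∣ 3 ^ 3 := by
    have := Subgroup.card_dvd_of_le hK
    rwa [h.card] at this
  obtain ⟨i, hi, e⟩ := (Nat.dvd_prime_pow Nat.prime_three).1 hd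
  rw [e]
  interval_cases i <;> simp

theorem card_gt_three (h : Hyp P z) {K : Subgroup G} (hz : z ∈ K) {x : G} (hx : x ∈ K)
    (hxZ : x ∉ Subgroup.zpowers z) : 3 < Nat.card K := by
  have hle : Subgroup.zpowers z ≤ K := Subgroup.zpowers_le.2 hz
  have h3 := Subgroup.card_le_of_le hle
  rw [h.card_Z] at h3
  refine lt_of_le_of_ne h3 fun e => hxZ ?_
  have := Subgroup.eq_of_le_of_card_ge hle (by rw [h.card_Z, ← e])
  rwa [this]

theorem card_cP (h : Hyp P z) {x : G} (hx : x ∈ (P : Subgroup G))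
    (hxZ : x ∉ Subgroup.zpowers z) : Nat.card (cP P x) = 9 := by
  have h1 := h.card_gt_three (h.z_mem_cP hx) (self_mem_cP hx) hxZ
  have h2 : Nat.card (cP P x) ≠ 27 := fun e => hxZ <| h.center x hx fun y hy => by
    have hEq : cP P x = (P : Subgroup G) :=
      Subgroup.eq_of_le_of_card_ge inf_le_left (by rw [h.card, e])
    exact ((mem_cP.1 (hEq.ge hy)).2).symm
  have h3 := h.card_le_P (K := cP P x) inf_le_left
  simp only [Finset.mem_insert, Finset.mem_singleton] at h3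
  omega

theorem cP_le_closure (h : Hyp P z) {x : G} (hx : x ∈ (P : Subgroup G))
    (hxZ : x ∉ Subgroup.zpowers z) : cP P x ≤ Subgroup.closure {x, z} := by
  set K := Subgroup.closure ({x, z} : Set G)
  have hle : K ≤ cP P x := (Subgroup.closure_le _).2 (by
    rintro u (rfl | rfl)
    · exact self_mem_cP hx
    · exact h.z_mem_cP hx)
  have hz : z ∈ K := Subgroup.subset_closure (Or.inr rfl)
  have hxK : x ∈ K := Subgroup.subset_closure (Or.inl rfl)
  have h1 := h.card_gt_three hz hxK hxZ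
  have h2 := Subgroup.card_le_of_le hle
  have h3 := h.card_le_P (hle.trans inf_le_left)
  rw [h.card_cP hx hxZ] at h2
  simp only [Finset.mem_insert, Finset.mem_singleton] at h3
  exact (Subgroup.eq_of_le_of_card_ge hle (by rw [h.card_cP hx hxZ]; omega)).ge

/-- What fixes `x` and `z` centralizes `C_P(x)`. -/
theorem commute_cP (h : Hyp P z) {x : G} (hx : x ∈ (P : Subgroup G))
    (hxZ : x ∉ Subgroup.zpowers z) {g : G} (hgx : Commute g x) (hgz : Commute g z) {e : G}
    (he : e ∈ cP P x) : Commute g e := by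
  have : Subgroup.closure ({x, z} : Set G) ≤ Subgroup.centralizer ({g} : Set G) := by
    rw [Subgroup.closure_le]
    rintro u (rfl | rfl) <;> rw [SetLike.mem_coe, Subgroup.mem_centralizer_singleton_iff]
    exacts [hgx.eq.symm, hgz.eq.symm]
  exact (Subgroup.mem_centralizer_singleton_iff.1 (this (h.cP_le_closure hx hxZ he))).symm

theorem cP_comm (h : Hyp P z) {x : G} (hx : x ∈ (P : Subgroup G))
    (hxZ : x ∉ Subgroup.zpowers z) {a b : G} (ha : a ∈ cP P x) (hb : b ∈ cP P x) : Commute a b :=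
  h.commute_cP hx hxZ (mem_cP.1 ha).2 (h.zcomm a (mem_cP.1 ha).1).symm hb

/-- Conjugation in `P` moves `x` through its whole coset of `Z`. -/
theorem exists_conj_mul (h : Hyp P z) {x : G} (hx : x ∈ (P : Subgroup G))
    (hxZ : x ∉ Subgroup.zpowers z) {c : G} (hc : c ∈ Subgroup.zpowers z) :
    ∃ u ∈ (P : Subgroup G), u * x * u⁻¹ = x * c := by
  obtain ⟨u, hu, hne⟩ : ∃ u ∈ (P : Subgroup G), u * x * u⁻¹ ≠ x := by
    by_contra hh
    push Not at hh
    exact hxZ (h.center x hx fun y hy => ((mul_inv_eq_iff_eq_mul.1 (hh y hy)).symm : x * y = y * x))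
  obtain ⟨d, hd⟩ : ∃ d, d = u * x * u⁻¹ * x⁻¹ := ⟨_, rfl⟩
  have hdZ : d ∈ Subgroup.zpowers z := hd ▸ h.comm u hu x hx
  have hd1 : d ≠ 1 := fun e => hne (mul_inv_eq_one.1 (hd ▸ e))
  have hux : u * x * u⁻¹ = x * d := by
    rw [← (h.commute_Z hdZ hx).eq, hd, inv_mul_cancel_right]
  have hud : u * d * u⁻¹ = d := h.conj_Z (h.zcomm u hu).symm hdZ
  have huu : (u * u) * x * (u * u)⁻¹ = x * (d * d) := by
    calc (u * u) * x * (u * u)⁻¹ = u * (u * x * u⁻¹) * u⁻¹ := by group
      _ = u * (x * d) * u⁻¹ := by rw [hux]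
      _ = (u * x * u⁻¹) * (u * d * u⁻¹) := by group
      _ = x * (d * d) := by rw [hux, hud, mul_assoc]
  rcases h.mem_zpowers_z hc with hc' | hc' | hc' <;> rw [hc']
  · exact ⟨1, one_mem _, by simp⟩
  all_goals
    rcases h.mem_zpowers_z hdZ with e | e | e
    · exact absurd e hd1
    all_goals first
      | exact ⟨u, hu, hux.trans (congrArg (x * ·) e)⟩
      | refine ⟨u * u, mul_mem hu hu, ?_⟩
        rw [huu, e]
        congr 1
        have h3 : z * z * z = 1 := by
          have := h.exp z h.zP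
          rwa [pow_succ, pow_two] at this
        first
          | exact eq_inv_of_mul_eq_one_left h3
          | rw [← mul_inv_rev]; exact inv_eq_of_mul_eq_one_right h3

/-- The center is weakly closed. -/
theorem eq_z_of_conj (h : Hyp P z) {g : G} (hg : g * z * g⁻¹ ∈ (P : Subgroup G)) :
    g * z * g⁻¹ = z := by
  by_cases hb : g * z * g⁻¹ ∈ Subgroup.zpowers z
  · have hc : ∀ c ∈ Subgroup.zpowers z, c ∈ Subgroup.centralizer ((P : Subgroup G) : Set G) :=
      fun c hc => Subgroup.mem_centralizer_iff.2 fun u hu => (h.commute_Z hc hu).symm.eq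
    obtain ⟨n, hn, e⟩ := Sylow.conj_eq_normalizer_conj_of_mem_centralizer P z g⁻¹
      (hc z (Subgroup.mem_zpowers z)) (by rw [inv_inv]; exact hc _ hb)
    rw [inv_inv] at e
    rw [e]
    have := h.norm_conj (inv_mem hn) (Subgroup.mem_zpowers z)
    rwa [inv_inv] at this
  exfalso
  set b := g * z * g⁻¹ with hbdef
  set Cb := Subgroup.centralizer ({b} : Set G)
  have hle : ((g • P : Sylow 3 G) : Subgroup G) ≤ Cb := by
    rw [Sylow.coe_subgroup_smul]
    rintro _ ⟨u, hu, rfl⟩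
    refine Subgroup.mem_centralizer_singleton_iff.2 ?_
    show g * u * g⁻¹ * b = b * (g * u * g⁻¹)
    rw [hbdef, show g * u * g⁻¹ * (g * z * g⁻¹) = g * (u * z) * g⁻¹ by group,
      ← (h.zcomm u hu).eq]
    group
  set E := cP P b
  have hEC : E ≤ Cb := inf_le_right
  have hEp : IsPGroup 3 E := P.2.to_le inf_le_left
  obtain ⟨R, hR⟩ := (hEp.comap_subtype (K := Cb)).exists_le_sylow
  obtain ⟨c, hc⟩ := MulAction.exists_smul_eq Cb ((g • P).subtype hle) R
  have hcb : Commute (c : G) b := Subgroup.mem_centralizer_singleton_iff.1 c.2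
  have hmem : ∀ e ∈ E, (c * g : G)⁻¹ * e * (c * g) ∈ (P : Subgroup G) := by
    intro e he
    have hr : (⟨e, hEC he⟩ : Cb) ∈ (R : Subgroup Cb) := hR he
    rw [← hc, Sylow.coe_subgroup_smul] at hr
    obtain ⟨q, hq, hqe⟩ := hr
    have hq' : (q : G) ∈ ((g • P : Sylow 3 G) : Subgroup G) := hq
    rw [Sylow.coe_subgroup_smul] at hq'
    obtain ⟨u, hu, hue⟩ := hq'
    have he' : e = (c : G) * (q : G) * (c : G)⁻¹ := (congrArg Subtype.val hqe).symm
    rw [← (show g * u * g⁻¹ = (q : G) from hue)] at he'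
    rw [he']
    rw [show ((c : G) * g)⁻¹ * ((c : G) * (g * u * g⁻¹) * (c : G)⁻¹) * ((c : G) * g) = u by group]
    exact hu
  set k : G := c * g with hk
  have hkz : k * z * k⁻¹ = b := by
    rw [hk, show (c : G) * g * z * ((c : G) * g)⁻¹ = (c : G) * (g * z * g⁻¹) * (c : G)⁻¹ by group,
      ← hbdef]
    exact mul_inv_eq_of_eq_mul hcb.eq
  set e := k⁻¹ * z * k with he
  have heP : e ∈ (P : Subgroup G) := hmem z (h.z_mem_cP hg)
  have heZ : e ∉ Subgroup.zpowers z := fun hh => by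
    have hz' : k * e * k⁻¹ = z := by rw [he]; group
    refine hb ?_
    rcases h.mem_zpowers_z hh with he' | he' | he' <;> rw [he'] at hz'
    · exact absurd (by simpa using hz'.symm) h.z1
    · rw [← hkz, hz']; exact Subgroup.mem_zpowers z
    · rw [← hkz, show k * z * k⁻¹ = (k * z⁻¹ * k⁻¹)⁻¹ by group, hz']
      exact inv_mem (Subgroup.mem_zpowers z)
  clear_value b e k
  obtain ⟨v', hv', hve⟩ := h.exists_conj_mul heP heZ (Subgroup.mem_zpowers z)
  obtain ⟨u, hu, hub⟩ := h.exists_conj_mul hg hb (Subgroup.mem_zpowers z)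
  set v := k * v' * k⁻¹ with hv
  have hvz : v * z * v⁻¹ = z * b := by
    rw [← hkz, hv, show k * v' * k⁻¹ * z * (k * v' * k⁻¹)⁻¹ = k * (v' * e * v'⁻¹) * k⁻¹ by
      rw [he]; group, hve, he]
    group
  have hvb : v * b * v⁻¹ = b := by
    rw [← hkz, hv, show k * v' * k⁻¹ * (k * z * k⁻¹) * (k * v' * k⁻¹)⁻¹ = k * (v' * z * v'⁻¹) * k⁻¹
      by group, mul_inv_eq_of_eq_mul (h.zcomm v' hv').symm.eq]
  have huz : u * z * u⁻¹ = z := mul_inv_eq_of_eq_mul (h.zcomm u hu).symm.eq
  have hzb : Commute z b := h.zcomm b hg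
  have cz : ∀ s a r : G, s * a * s⁻¹ = r → MulAut.conj s a = r := fun s a r e => e
  have hvz' : MulAut.conj v⁻¹ z = z * b⁻¹ := by
    rw [map_inv, MulAut.inv_apply, MulEquiv.symm_apply_eq, map_mul, map_inv, cz _ _ _ hvz,
      cz _ _ _ hvb, mul_inv_cancel_right]
  have hvb' : MulAut.conj v⁻¹ b = b := by
    rw [map_inv, MulAut.inv_apply, MulEquiv.symm_apply_eq, cz _ _ _ hvb]
  have s1 : MulAut.conj (u * v⁻¹ * u) z = b⁻¹ := by
    rw [map_mul, map_mul, MulAut.mul_apply, MulAut.mul_apply, cz _ _ _ huz, hvz', map_mul, map_inv,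
      cz _ _ _ huz, cz _ _ _ hub, mul_inv_rev, ← mul_assoc, mul_inv_cancel, one_mul]
  have s2 : MulAut.conj (u * v⁻¹ * u) b = z := by
    rw [map_mul, map_mul, MulAut.mul_apply, MulAut.mul_apply, cz _ _ _ hub, map_mul, map_mul,
      hvb', hvz', map_mul, map_inv, cz _ _ _ huz, cz _ _ _ hub, mul_inv_rev, ← mul_assoc z,
      mul_inv_cancel, one_mul, ← hzb.eq, mul_inv_cancel_right]
  set w := (u * v⁻¹ * u) * (u * v⁻¹ * u) with hw
  have wz : MulAut.conj w z = z⁻¹ := by rw [hw, map_mul, MulAut.mul_apply, s1, map_inv, s2]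
  have wb : MulAut.conj w b = b⁻¹ := by rw [hw, map_mul, MulAut.mul_apply, s2, s1]
  clear_value w v
  set K := (Subgroup.centralizer ({z} : Set G) ⊓ Cb) ⊔ Subgroup.zpowers u
  have hKz : K ≤ Subgroup.centralizer ({z} : Set G) := sup_le inf_le_left
    (Subgroup.zpowers_le.2 (Subgroup.mem_centralizer_singleton_iff.2 (h.zcomm u hu).symm.eq))
  have hEK : E ≤ K := fun a ha => Subgroup.mem_sup_left ⟨Subgroup.mem_centralizer_singleton_iff.2
    (h.zcomm a (mem_cP.1 ha).1).symm.eq, hEC ha⟩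
  have huK : u ∈ K := Subgroup.mem_sup_right (Subgroup.mem_zpowers u)
  have hPK : (P : Subgroup G) ≤ K := by
    set L := E ⊔ Subgroup.zpowers u
    have hL : L ≤ (P : Subgroup G) := sup_le inf_le_left (Subgroup.zpowers_le.2 hu)
    have hlt : Nat.card E < Nat.card L := by
      refine lt_of_le_of_ne (Subgroup.card_le_of_le le_sup_left) fun e => ?_
      have heq := Subgroup.eq_of_le_of_card_ge (le_sup_left : E ≤ L) e.ge
      have hue : u ∈ E := heq ▸ Subgroup.mem_sup_right (Subgroup.mem_zpowers u)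
      rw [mul_inv_eq_of_eq_mul (mem_cP.1 hue).2.eq] at hub
      exact h.z1 (left_eq_mul.1 hub)
    rw [h.card_cP hg hb] at hlt
    have := h.card_le_P hL
    simp only [Finset.mem_insert, Finset.mem_singleton] at this
    rw [← Subgroup.eq_of_le_of_card_ge hL (by rw [h.card]; omega)]
    exact sup_le hEK (Subgroup.zpowers_le.2 huK)
  have hwinv : ∀ a, MulAut.conj w z = a → MulAut.conj w⁻¹ a = z := fun a e => by
    rw [map_inv, MulAut.inv_apply, MulEquiv.symm_apply_eq, e]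
  have hwK : ∀ a ∈ K, w * a * w⁻¹ ∈ K := by
    intro a ha
    show MulAut.conj w a ∈ K
    refine (Subgroup.map_le_iff_le_comap.1 (?_ : K.map (MulAut.conj w).toMonoidHom ≤ K)) ha
    rw [Subgroup.map_sup, MonoidHom.map_zpowers, sup_le_iff, Subgroup.zpowers_le]
    have hpres : ∀ a, Commute a z → Commute a b →
        Commute (MulAut.conj w a) z ∧ Commute (MulAut.conj w a) b := fun a haz hab => by
      constructor
      · have := (haz.map (MulAut.conj w)).inv_right
        rwa [wz, inv_inv] at this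
      · have := (hab.map (MulAut.conj w)).inv_right
        rwa [wb, inv_inv] at this
    constructor
    · rintro _ ⟨a, ⟨ha1, ha2⟩, rfl⟩
      obtain ⟨h1, h2⟩ := hpres a (Subgroup.mem_centralizer_singleton_iff.1 ha1)
        (Subgroup.mem_centralizer_singleton_iff.1 ha2)
      exact Subgroup.mem_sup_left ⟨Subgroup.mem_centralizer_singleton_iff.2 h1.eq,
        Subgroup.mem_centralizer_singleton_iff.2 h2.eq⟩
    · show MulAut.conj w u ∈ K
      obtain ⟨t, ht⟩ : ∃ t, t = MulAut.conj w u := ⟨_, rfl⟩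
      rw [← ht]
      have htz : MulAut.conj t z = z := by
        have := congrArg (MulAut.conj w) (show u * z⁻¹ * u⁻¹ = z⁻¹ by
          rw [← conj_inv, huz])
        simp only [map_mul, map_inv, wz, inv_inv, ← ht] at this
        exact this
      have htb : MulAut.conj t b = b * z := by
        have := congrArg (MulAut.conj w) (show u * b⁻¹ * u⁻¹ = z⁻¹ * b⁻¹ by
          rw [← conj_inv, hub, mul_inv_rev])
        simp only [map_mul, map_inv, wz, wb, inv_inv, ← ht] at this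
        rw [← hzb.eq]
        exact this
      rw [show t = t * u⁻¹ * u from (inv_mul_cancel_right t u).symm]
      refine K.mul_mem (Subgroup.mem_sup_left ⟨?_, ?_⟩) huK <;>
        refine Subgroup.mem_centralizer_singleton_iff.2 (mul_inv_eq_iff_eq_mul.1 ?_)
      · show MulAut.conj (t * u⁻¹) z = z
        rw [map_mul, MulAut.mul_apply, map_inv, MulAut.inv_apply,
          (MulEquiv.symm_apply_eq _).2 (cz _ _ _ huz).symm, htz]
      · show MulAut.conj (t * u⁻¹) b = b
        rw [map_mul, MulAut.mul_apply, map_inv, MulAut.inv_apply,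
          (MulEquiv.symm_apply_eq (MulAut.conj u)).2 (show b = MulAut.conj u (b * z⁻¹) by
            rw [map_mul, map_inv, cz _ _ _ hub, cz _ _ _ huz, mul_inv_cancel_right]),
          map_mul, map_inv, htz, htb, mul_inv_cancel_right]
  have hwP : ((w • P : Sylow 3 G) : Subgroup G) ≤ K := by
    rw [Sylow.coe_subgroup_smul]
    rintro _ ⟨a, ha, rfl⟩
    exact hwK a (hPK ha)
  obtain ⟨m, hm⟩ := MulAction.exists_smul_eq K ((w • P).subtype hwP) (P.subtype hPK)
  rw [Sylow.smul_subtype] at hm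
  have hn : (m : G) * w ∈ Subgroup.normalizer ((P : Subgroup G) : Set G) := by
    refine Sylow.smul_eq_iff_mem_normalizer.1 ?_
    rw [mul_smul]
    exact Sylow.subtype_injective hm
  have h1 := h.norm_conj hn (Subgroup.mem_zpowers z)
  rw [show (m : G) * w * z * ((m : G) * w)⁻¹ = (m : G) * (MulAut.conj w z) * (m : G)⁻¹ by
    simp [MulAut.conj_apply, mul_assoc], wz,
    h.conj_Z (Subgroup.mem_centralizer_singleton_iff.1 (hKz m.2))
      (inv_mem (Subgroup.mem_zpowers z))] at h1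
  exact h.z_inv_ne h1

theorem eq_of_conj_Z (h : Hyp P z) {a : G} (ha : a ∈ Subgroup.zpowers z) {g : G}
    (hg : g * a * g⁻¹ ∈ (P : Subgroup G)) : g * a * g⁻¹ = a := by
  rcases h.mem_zpowers_z ha with rfl | rfl | rfl
  · group
  · exact h.eq_z_of_conj hg
  · have hg' : g * z * g⁻¹ ∈ (P : Subgroup G) := by
      simpa [mul_assoc] using inv_mem hg
    rw [← conj_inv, h.eq_z_of_conj hg']

theorem centralizer_fac (h : Hyp P z) {x : G} (hx : x ∈ (P : Subgroup G))
    (hxZ : x ∉ Subgroup.zpowers z) :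
    (Nat.card (Subgroup.centralizer ({x} : Set G))).factorization 3 = 2 := by
  set Cx := Subgroup.centralizer ({x} : Set G)
  have hp : Nat.Prime 3 := Nat.prime_three
  have h2 : 2 ≤ (Nat.card Cx).factorization 3 := by
    refine (hp.pow_dvd_iff_le_factorization Nat.card_pos.ne').1 ?_
    rw [show 3 ^ 2 = 9 from rfl, ← h.card_cP hx hxZ]
    exact Subgroup.card_dvd_of_le inf_le_right
  have h3 : (Nat.card Cx).factorization 3 ≤ 3 := by
    have hG := P.card_eq_multiplicity
    rw [h.card] at hG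
    rw [← Nat.pow_le_pow_iff_right (show 1 < 3 by norm_num)]
    calc 3 ^ (Nat.card Cx).factorization 3 ≤ 3 ^ (Nat.card G).factorization 3 :=
          Nat.pow_le_pow_right (by norm_num)
            ((Nat.factorization_le_iff_dvd Nat.card_pos.ne' Nat.card_pos.ne').2
              Cx.card_subgroup_dvd_card 3)
      _ = 3 ^ 3 := hG.symm
  refine le_antisymm ?_ h2
  by_contra hlt
  have h33 : (Nat.card Cx).factorization 3 = 3 := by omega
  let R : Sylow 3 Cx := default
  have hRc : Nat.card ((R : Subgroup Cx).map Cx.subtype) = 27 := by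
    rw [Subgroup.card_map_of_injective Subtype.val_injective, R.card_eq_multiplicity, h33]; rfl
  let Q : Sylow 3 G := Sylow.ofCard ((R : Subgroup Cx).map Cx.subtype) (by
    rw [hRc, ← P.card_eq_multiplicity, h.card])
  obtain ⟨g, hg⟩ := MulAction.exists_smul_eq G P Q
  have hQ : ∀ q ∈ (Q : Subgroup G), Commute q x := by
    rintro _ ⟨a, -, rfl⟩
    exact Subgroup.mem_centralizer_singleton_iff.1 a.2
  have hxR : (⟨x, Subgroup.mem_centralizer_singleton_iff.2 rfl⟩ : Cx) ∈ (R : Subgroup Cx) := by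
    set x' : Cx := ⟨x, Subgroup.mem_centralizer_singleton_iff.2 rfl⟩
    have hc : Subgroup.zpowers x' ≤ Subgroup.center Cx := Subgroup.zpowers_le.2
      (Subgroup.mem_center_iff.2 fun a => Subtype.ext (Subgroup.mem_centralizer_singleton_iff.1 a.2))
    haveI : (Subgroup.zpowers x').Normal := ⟨fun n hn a => by
      rw [Subgroup.mem_center_iff.1 (hc hn) a, mul_inv_cancel_right]; exact hn⟩
    refine (IsPGroup.le_sylow_of_normal ?_ R) (Subgroup.mem_zpowers x')
    refine IsPGroup.of_card (n := 1) ?_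
    rw [Nat.card_zpowers, pow_one, ← Subgroup.orderOf_coe]
    exact orderOf_eq_prime (h.exp x hx) fun e => hxZ (by rw [show x = 1 from e]; exact one_mem _)
  have hxQ : x ∈ (Q : Subgroup G) := ⟨_, hxR, rfl⟩
  rw [← hg, Sylow.coe_subgroup_smul] at hxQ hQ
  obtain ⟨a, ha, hax⟩ := hxQ
  have hax' : g * a * g⁻¹ = x := hax
  have haZ : a ∈ Subgroup.zpowers z := h.center a ha fun y hy => by
    have h5 : Commute (g * y * g⁻¹) (g * a * g⁻¹) := hax'.symm ▸ hQ _ ⟨y, hy, rfl⟩
    exact ((Commute.conj_iff g).1 h5).symm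
  have h6 := h.eq_of_conj_Z haZ (hax'.symm ▸ hx)
  rw [hax'] at h6
  exact hxZ (h6 ▸ haZ)

/-- `C_P(x)` as a Sylow subgroup of `C(x)`. -/
noncomputable def sylowCP (h : Hyp P z) {x : G} (hx : x ∈ (P : Subgroup G))
    (hxZ : x ∉ Subgroup.zpowers z) : Sylow 3 (Subgroup.centralizer ({x} : Set G)) :=
  Sylow.ofCard ((cP P x).subgroupOf (Subgroup.centralizer ({x} : Set G))) (by
    rw [h.centralizer_fac hx hxZ,
      Nat.card_congr (Subgroup.subgroupOfEquivOfLe (show cP P x ≤ Subgroup.centralizer ({x} : Set G)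
        from inf_le_right)).toEquiv, h.card_cP hx hxZ]
    rfl)

theorem mem_sylowCP (h : Hyp P z) {x : G} (hx : x ∈ (P : Subgroup G))
    (hxZ : x ∉ Subgroup.zpowers z) {a : Subgroup.centralizer ({x} : Set G)} :
    a ∈ (h.sylowCP hx hxZ : Subgroup (Subgroup.centralizer ({x} : Set G))) ↔ (a : G) ∈ cP P x :=
  Iff.rfl

theorem compl (h : Hyp P z) {x : G} (hx : x ∈ (P : Subgroup G))
    (hxZ : x ∉ Subgroup.zpowers z) :
    HasNormalPComplement 3 (Subgroup.centralizer ({x} : Set G)) := by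
  refine Transfer.hasNormalPComplement_of_normalizer_le_centralizer (h.sylowCP hx hxZ)
    fun g hg => Subgroup.mem_centralizer_iff.2 fun a ha => Subtype.ext ?_
  have hgz : (g : G) * z * (g : G)⁻¹ ∈ (P : Subgroup G) := by
    have := (Subgroup.mem_normalizer_iff.1 hg ⟨z, (h.z_mem_cP hx).2⟩).1
      ((h.mem_sylowCP hx hxZ).2 (h.z_mem_cP hx))
    exact (mem_cP.1 ((h.mem_sylowCP hx hxZ).1 this)).1
  exact (h.commute_cP hx hxZ (Subgroup.mem_centralizer_singleton_iff.1 g.2)
    (mul_inv_eq_iff_eq_mul.1 (h.eq_z_of_conj hgz)) ha).symm.eq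

/-- Fusion is controlled by the normalizer of `P`. -/
theorem exists_norm_conj (h : Hyp P z) {x y : G} (hx : x ∈ (P : Subgroup G))
    (hxZ : x ∉ Subgroup.zpowers z) (hy : y ∈ (P : Subgroup G))
    (hyZ : y ∉ Subgroup.zpowers z) (hc : IsConj x y) :
    ∃ n ∈ Subgroup.normalizer ((P : Subgroup G) : Set G), n * x * n⁻¹ = y := by
  obtain ⟨g, hg⟩ := isConj_iff.1 hc
  set Cy := Subgroup.centralizer ({y} : Set G)
  set F := (cP P x).map (MulAut.conj g).toMonoidHom
  have hF : IsPGroup 3 F := (P.2.to_le inf_le_left).map _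
  have hFC : F ≤ Cy := by
    rintro _ ⟨a, ha, rfl⟩
    refine Subgroup.mem_centralizer_singleton_iff.2 ?_
    show (g * a * g⁻¹) * y = y * (g * a * g⁻¹)
    rw [← hg]
    exact ((Commute.conj_iff g).2 (mem_cP.1 ha).2).eq
  obtain ⟨R, hR⟩ := (hF.comap_subtype (K := Cy)).exists_le_sylow
  obtain ⟨c, hc'⟩ := MulAction.exists_smul_eq Cy R (h.sylowCP hy hyZ)
  set k : G := (c : G) * g with hk
  have hkmem : ∀ a ∈ cP P x, k * a * k⁻¹ ∈ cP P y := by
    intro a ha
    have hr : (⟨g * a * g⁻¹, hFC ⟨a, ha, rfl⟩⟩ : Cy) ∈ (R : Subgroup Cy) := hR ⟨a, ha, rfl⟩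
    have : c * ⟨g * a * g⁻¹, hFC ⟨a, ha, rfl⟩⟩ * c⁻¹ ∈
        (h.sylowCP hy hyZ : Subgroup Cy) := by
      rw [← hc', Sylow.coe_subgroup_smul]
      exact ⟨_, hr, rfl⟩
    rw [h.mem_sylowCP] at this
    convert this using 1
    simp [hk, mul_assoc]
  have hkx : k * x * k⁻¹ = y := by
    rw [hk, show (c : G) * g * x * ((c : G) * g)⁻¹ = (c : G) * (g * x * g⁻¹) * (c : G)⁻¹ by group, hg]
    exact mul_inv_eq_of_eq_mul (Subgroup.mem_centralizer_singleton_iff.1 c.2)
  have hkz : k * z * k⁻¹ = z := h.eq_z_of_conj (mem_cP.1 (hkmem z (h.z_mem_cP hx))).1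
  let S : Subgroup G :=
    { carrier := {m | Commute m z ∧ m * y * m⁻¹ * y⁻¹ ∈ Subgroup.zpowers z}
      one_mem' := ⟨Commute.one_left z, by simp⟩
      mul_mem' := fun {a b} ha hb => ⟨ha.1.mul_left hb.1, by
        rw [show a * b * y * (a * b)⁻¹ * y⁻¹ =
          a * (b * y * b⁻¹ * y⁻¹) * a⁻¹ * (a * y * a⁻¹ * y⁻¹) by group, h.conj_Z ha.1 hb.2]
        exact mul_mem hb.2 ha.2⟩
      inv_mem' := fun {a} ha => ⟨ha.1.inv_left, by
        rw [show a⁻¹ * y * a⁻¹⁻¹ * y⁻¹ = a⁻¹ * (a * y * a⁻¹ * y⁻¹)⁻¹ * a⁻¹⁻¹ by group,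
          h.conj_Z ha.1.inv_left (inv_mem ha.2)]
        exact inv_mem ha.2⟩ }
  have hPS : (P : Subgroup G) ≤ S := fun u hu => ⟨(h.zcomm u hu).symm, h.comm u hu y hy⟩
  have hkS : ((k • P : Sylow 3 G) : Subgroup G) ≤ S := by
    rw [Sylow.coe_subgroup_smul]
    rintro _ ⟨u, hu, rfl⟩
    have hkc : Commute k z := mul_inv_eq_iff_eq_mul.1 hkz
    refine ⟨((hkc.mul_left (h.zcomm u hu).symm).mul_left hkc.inv_left), ?_⟩
    show k * u * k⁻¹ * y * (k * u * k⁻¹)⁻¹ * y⁻¹ ∈ _
    rw [← hkx, show k * u * k⁻¹ * (k * x * k⁻¹) * (k * u * k⁻¹)⁻¹ * (k * x * k⁻¹)⁻¹ =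
      k * (u * x * u⁻¹ * x⁻¹) * k⁻¹ by group, h.conj_Z hkc (h.comm u hu x hx)]
    exact h.comm u hu x hx
  obtain ⟨m, hm⟩ := MulAction.exists_smul_eq S ((k • P).subtype hkS) (P.subtype hPS)
  rw [Sylow.smul_subtype] at hm
  have hn : (m : G) * k ∈ Subgroup.normalizer ((P : Subgroup G) : Set G) := by
    refine Sylow.smul_eq_iff_mem_normalizer.1 ?_
    rw [mul_smul]
    exact Sylow.subtype_injective hm
  set d := (m : G) * y * (m : G)⁻¹ * y⁻¹ with hd
  have hdZ : d ∈ Subgroup.zpowers z := m.2.2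
  have hnx : (m : G) * k * x * ((m : G) * k)⁻¹ = y * d := by
    rw [(h.commute_Z hdZ hy).eq.symm, hd, inv_mul_cancel_right, ← hkx]
    group
  obtain ⟨u, hu, hux⟩ := h.exists_conj_mul hy hyZ (inv_mem hdZ)
  refine ⟨u * ((m : G) * k), mul_mem (Subgroup.le_normalizer hu) hn, ?_⟩
  calc u * ((m : G) * k) * x * (u * ((m : G) * k))⁻¹
      = u * ((m : G) * k * x * ((m : G) * k)⁻¹) * u⁻¹ := by group
    _ = u * (y * d) * u⁻¹ := by rw [hnx]
    _ = (u * y * u⁻¹) * (u * d * u⁻¹) := by group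
    _ = y := by
      rw [hux, h.conj_Z (h.zcomm u hu).symm hdZ, inv_mul_cancel_right]

end Hyp

end Cfsg.Agent.ThreeExtra
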