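import Cfsg.Agent.Lib.ThreeExtra.Relations
import Cfsg.Agent.Lib.ThreeExtra.Combi
import Cfsg.Agent.Lib.Char.Generalized
import Cfsg.Agent.Lib.Char.KernelSum

/-!
# From the centralizer of `z` to the group

On singular elements of `C = C(z)` the principal blocks of `G` and `C` have the same sums
`Σ χ(g) conj χ(h)`; so restriction is an isometry on functions vanishing on the regular elements.
-/

set_option autoImplicit false
set_option linter.unusedSectionVars false
set_option linter.style.haveILetI false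

namespace Cfsg.Agent.ThreeExtra

open Cfsg Cfsg.Agent
open scoped ComplexConjugate Classical

universe u

variable {G : Type u} [Group G] [Fintype G] [Fact (Nat.Prime 3)] {z : G} {r : ℕ} {x : Fin r → G}
  {M : Ideal AlgInt} [M.IsMaximal] {k : ℕ}

theorem Twist.restrict (T : Twist G k) (H : Subgroup G) : Twist H k where
  cop := T.cop.of_dvd_right H.card_subgroup_dvd_card
  reg s hs := Subtype.ext (by
    rw [SubgroupClass.coe_pow]
    exact T.reg s ((Blocks.isPRegular_coe_iff s).2 hs))
  sing u hu := Subtype.ext (by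
    obtain ⟨m, hm⟩ := hu
    rw [SubgroupClass.coe_pow, Subgroup.coe_inv]
    exact T.sing u ⟨m, by rw [Subgroup.orderOf_coe, hm]⟩)

theorem exists_twist (D : Data G z x) : ∃ k, Twist G k := by
  obtain ⟨m, hm⟩ : ∃ m, m = Nat.card G / 3 ^ (Nat.card G).factorization 3 := ⟨_, rfl⟩
  have hcop : Nat.Coprime 3 m := hm ▸ Nat.coprime_ordCompl Nat.prime_three Nat.card_pos.ne'
  obtain ⟨k, hk3, hkm⟩ := Nat.chineseRemainder hcop 2 1
  have hk3' : k % 3 = 2 := hk3
  have hc3 : k.Coprime 3 := (Nat.Prime.coprime_iff_not_dvd Nat.prime_three).2 (by omega) |>.symm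
  refine ⟨k, ?_, fun s hs => ?_, fun u hu => ?_⟩
  · rw [← Nat.ordProj_mul_ordCompl_eq_self (Nat.card G) 3, ← hm]
    exact Nat.Coprime.mul_right (hc3.pow_right _) (hkm.gcd_eq.trans (Nat.gcd_one_left m))
  · nth_rewrite 2 [← pow_one s]
    refine pow_eq_pow_iff_modEq.2 (Nat.ModEq.of_dvd ?_ hkm)
    have h := orderOf_dvd_natCard s
    rw [← Nat.ordProj_mul_ordCompl_eq_self (Nat.card G) 3, ← hm] at h
    exact (Nat.Coprime.pow_right _ ((Nat.prime_three.coprime_iff_not_dvd.2 hs).symm)).dvd_of_dvd_mul_left h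
  · rw [eq_inv_iff_mul_eq_one, ← pow_succ, show k + 1 = 3 * (k / 3 + 1) by omega, pow_mul,
      D.exp u hu, one_pow]

theorem isPPart_coe {H : Subgroup G} {g u : H} (h : IsPPart 3 g u) : IsPPart 3 (g : G) (u : G) := by
  obtain ⟨y, hy, hc, ⟨m, hm⟩, hyr⟩ := h
  exact ⟨(y : G), congrArg Subtype.val hy, hc.map H.subtype, ⟨m, by rw [Subgroup.orderOf_coe, hm]⟩,
    by rwa [Subgroup.orderOf_coe]⟩

/-- The block sum of the centralizer only depends on the subgroup. -/
theorem sum_centralizer_eq {H K : Subgroup G} (e : H = K) (a b : G) (ha : a ∈ H) (hb : b ∈ H) :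
    ∑ η ∈ Finset.univ.filter (· ∈ principalBlock M H), η.1 ⟨a, ha⟩ * conj (η.1 ⟨b, hb⟩) =
      ∑ η ∈ Finset.univ.filter (· ∈ principalBlock M K),
        η.1 ⟨a, e ▸ ha⟩ * conj (η.1 ⟨b, e ▸ hb⟩) := by
  subst e
  rfl

theorem eq_one_of_isConj_one {u : G} (h : IsConj u 1) : u = 1 := isConj_one_left.1 h

/-- On singular elements of `C(z)` the two principal blocks have the same column products. -/
theorem kernel_eq (D : Data G z x) (hx : ∀ j, x j ∈ Subgroup.centralizer ({z} : Set G))
    (D' : Data (Subgroup.centralizer ({z} : Set G)) (Hyp.zc z) fun j => ⟨x j, hx j⟩)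
    (hM : IsPModular 3 M) : ∀ {g h : Subgroup.centralizer ({z} : Set G)},
    ¬ IsPRegular 3 g → ¬ IsPRegular 3 h →
    ∑ χ ∈ Finset.univ.filter (· ∈ principalBlock M G), χ.1 (g : G) * conj (χ.1 (h : G)) =
      ∑ η ∈ Finset.univ.filter (· ∈ principalBlock M (Subgroup.centralizer ({z} : Set G))),
        η.1 g * conj (η.1 h) := by
  have hpM := hM.2.2
  have hBG := Blocks.isPBlock_principalBlock hpM (M := M) (G := G)
  set C := Subgroup.centralizer ({z} : Set G)
  have hBC := Blocks.isPBlock_principalBlock hpM (M := M) (G := C)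
  have hzc : Hyp.zc z ∈ Subgroup.center C := Subgroup.mem_center_iff.2 fun a =>
    Subtype.ext (Subgroup.mem_centralizer_singleton_iff.1 a.2)
  have hclass : ∀ g : C, ¬ IsPRegular 3 g → ∃ u, IsPPart 3 g u ∧
      ((u = Hyp.zc z ∨ u = (Hyp.zc z)⁻¹) ∨ ∃ j, IsConj (⟨x j, hx j⟩ : C) u) := by
    intro g hg
    obtain ⟨u, hu⟩ := Blocks.exists_isPPart (p := 3) g
    refine ⟨u, hu, ?_⟩
    have hu1 : u ≠ 1 := fun e => by
      obtain ⟨y, hy, -, -, hyr⟩ := hu
      rw [e, one_mul] at hy
      exact hg (hy ▸ hyr)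
    rcases D'.cover u (Blocks.IsPPart.isPElement hu) hu1 with e | e | e
    · obtain ⟨c, hc⟩ := isConj_iff.1 e
      rw [BlocksX.conj_mem_center hzc] at hc
      exact Or.inl (Or.inl hc.symm)
    · obtain ⟨c, hc⟩ := isConj_iff.1 e
      rw [BlocksX.conj_mem_center (inv_mem hzc)] at hc
      exact Or.inl (Or.inr hc.symm)
    · exact Or.inr e
  intro g h hg hh
  obtain ⟨u, hgu, hu⟩ := hclass g hg
  obtain ⟨v, hhv, hv⟩ := hclass h hh
  have hGu := isPPart_coe hgu
  have hGv := isPPart_coe hhv
  by_cases hconj : IsConj u v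
  · rcases hu with hu | ⟨j, hj⟩
    · have hcu : u ∈ Subgroup.center C := by
        rcases hu with e | e <;> rw [e]
        exacts [hzc, inv_mem hzc]
      obtain ⟨c, hc⟩ := isConj_iff.1 hconj
      rw [BlocksX.conj_mem_center hcu] at hc
      subst hc
      have hcent : Subgroup.centralizer ({(u : G)} : Set G) = C := by
        rcases hu with e | e <;> rw [e]
        · rfl
        · ext a
          simp only [C, Subgroup.mem_centralizer_singleton_iff]
          exact ⟨fun e => (Commute.inv_right_iff.1 (show Commute a z⁻¹ from e)).eq,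
            fun e => (show Commute a z from e).inv_right.eq⟩
      obtain ⟨s, hs, hsc, hup, hsr⟩ := hgu
      obtain ⟨t, ht, htc, -, htr⟩ := hhv
      have hmem : ∀ a : C, (a : G) ∈ Subgroup.centralizer ({(u : G)} : Set G) := fun a => by
        rw [hcent]; exact a.2
      have hpow : ∃ m, orderOf (u : G) = 3 ^ m := Blocks.IsPPart.isPElement hGu
      have h1 := Blocks.second_main_orth hpM hpow hBG (s := ⟨(s : G), hmem s⟩)
        (s' := ⟨(t : G), hmem t⟩) (by rw [IsPRegular, Subgroup.orderOf_mk, Subgroup.orderOf_coe]; exact hsr)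
        (by rw [IsPRegular, Subgroup.orderOf_mk, Subgroup.orderOf_coe]; exact htr)
      rw [Blocks.inducingSet_principalBlock hpM hpow, sum_centralizer_eq hcent] at h1
      rw [← hs, ← ht, Subgroup.coe_mul, Subgroup.coe_mul]
      refine h1.trans (Finset.sum_congr rfl fun η _ => ?_)
      rw [hsc.eq, htc.eq, BlocksX.apply_mul_central η hcu, BlocksX.apply_mul_central η hcu, map_mul,
        mul_mul_mul_comm, BlocksX.centScalar_mul_conj η hcu, one_mul]
    · have hj' := hj.trans hconj
      have hG : ∀ {a b : C}, IsConj a b → IsConj (a : G) (b : G) := fun h =>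
        C.subtype.map_isConj h
      rw [Finset.sum_congr rfl (g := fun χ => χ.1 (x j) * conj (χ.1 (x j))) fun χ hχ => by
          rw [D.apply_section_conj hM hGu (hG hj) (Finset.mem_filter.1 hχ).2,
            D.apply_section_conj hM hGv (hG hj') (Finset.mem_filter.1 hχ).2],
        Finset.sum_congr rfl (g := fun η : IrrCharacter C => η.1 ⟨x j, hx j⟩ * conj (η.1 ⟨x j, hx j⟩))
          (s₁ := Finset.univ.filter (· ∈ principalBlock M C)) fun η hη => by
          rw [D'.apply_section_conj hM hgu hj (Finset.mem_filter.1 hη).2,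
            D'.apply_section_conj hM hhv hj' (Finset.mem_filter.1 hη).2],
        D.gram hM j j, D'.gram hM j j]
  · rw [Blocks.block_orthogonality hpM hgu hhv hconj hBC]
    refine Blocks.block_orthogonality hpM hGu hGv (fun e => hconj ?_) hBG
    rcases hu with (hu | hu) | ⟨i, hi⟩ <;> rcases hv with (hv | hv) | ⟨j, hj⟩
    · rw [hu, hv]
    · rw [hu, hv] at e; exact absurd e D.z_inv
    · exact absurd (e.trans (C.subtype.map_isConj hj).symm) (by rw [hu]; exact D.z_x j)
    · rw [hu, hv] at e; exact absurd e.symm D.z_inv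
    · rw [hu, hv]
    · exact absurd (e.trans (C.subtype.map_isConj hj).symm) (by rw [hu]; exact D.zinv_x j)
    · exact absurd ((C.subtype.map_isConj hi).trans e).symm (by rw [hv]; exact D.z_x i)
    · exact absurd ((C.subtype.map_isConj hi).trans e).symm (by rw [hv]; exact D.zinv_x i)
    · obtain rfl := D.x_inj i j (((C.subtype.map_isConj hi).trans e).trans
        (C.subtype.map_isConj hj).symm)
      exact hi.symm.trans hj

/-- A double sum as a sum of products of inner products. -/
theorem sum_classInner_mul {H : Type u} [Group H] [Fintype H] {α : Type*} (S : Finset α)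
    (φ : α → H → ℂ) (f f' : H → ℂ) :
    ∑ a ∈ S, classInner f (φ a) * conj (classInner f' (φ a)) =
      (Nat.card H : ℂ)⁻¹ * (Nat.card H : ℂ)⁻¹ *
        ∑ g, ∑ h, f g * conj (f' h) * ∑ a ∈ S, φ a h * conj (φ a g) := by
  simp only [classInner, map_mul, map_inv₀, map_natCast, map_sum, Complex.conj_conj,
    Finset.mul_sum, Finset.sum_mul]
  rw [Finset.sum_comm]
  conv_rhs => rw [Finset.sum_comm]
  refine Finset.sum_congr rfl fun h _ => ?_
  rw [Finset.sum_comm]
  exact Finset.sum_congr rfl fun g _ => Finset.sum_congr rfl fun a _ => by ring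

section Main

variable (hx : ∀ j, x j ∈ Subgroup.centralizer ({z} : Set G))

/-- Restriction to `C(z)` is an isometry on functions vanishing on the regular elements. -/
theorem isometry (D : Data G z x)
    (D' : Data (Subgroup.centralizer ({z} : Set G)) (Hyp.zc z) fun j => ⟨x j, hx j⟩)
    (hM : IsPModular 3 M) {f f' : Subgroup.centralizer ({z} : Set G) → ℂ}
    (hf : ∀ g, IsPRegular 3 g → f g = 0) (hf' : ∀ g, IsPRegular 3 g → f' g = 0) :
    ∑ χ ∈ Finset.univ.filter (· ∈ principalBlock M G),
        classInner f (fun g => χ.1 g) * conj (classInner f' fun g => χ.1 g) =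
      ∑ η ∈ Finset.univ.filter (· ∈ principalBlock M (Subgroup.centralizer ({z} : Set G))),
        classInner f η.1 * conj (classInner f' η.1) := by
  rw [sum_classInner_mul (φ := fun (χ : IrrCharacter G)
      (g : Subgroup.centralizer ({z} : Set G)) => χ.1 (g : G)),
    sum_classInner_mul (φ := fun η : IrrCharacter (Subgroup.centralizer ({z} : Set G)) => η.1)]
  refine congrArg _ (Finset.sum_congr rfl fun g _ => Finset.sum_congr rfl fun h _ => ?_)
  by_cases hg : IsPRegular 3 g
  · simp [hf g hg]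
  by_cases hh : IsPRegular 3 h
  · simp [hf' h hh]
  rw [kernel_eq D hx D' hM hh hg]

variable {TC : Twist (Subgroup.centralizer ({z} : Set G)) k} {l : ℕ}
  (L : Local M TC (Hyp.zc z) (fun j => (⟨x j, hx j⟩ : Subgroup.centralizer ({z} : Set G))) l)

/-- The coefficient of a combination at a member of the block of `G`. -/
noncomputable def zv (c : Idx l r → ℤ) (χ : IrrCharacter G) : ℤ :=
  ⌊(classInner (L.lin c) fun g => χ.1 (g : G)).re⌋

theorem zv_spec (c : Idx l r → ℤ) (χ : IrrCharacter G) :
    classInner (L.lin c) (fun g => χ.1 (g : G)) = (zv hx L c χ : ℂ) := by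
  choose n hn using fun a : Idx l r => Char.IsCharacter.exists_nat_classInner
    (Char.irr_isCharacter (L.fam a))
    (Char.IsCharacter.restrict (Char.irr_isCharacter χ) (Subgroup.centralizer ({z} : Set G)))
  have h : classInner (L.lin c) (fun g => χ.1 (g : G)) = ((∑ a, c a * n a : ℤ) : ℂ) := by
    simp only [Local.lin, Char.classInner_sum_left, Char.classInner_smul_left]
    push_cast
    exact Finset.sum_congr rfl fun a _ => by rw [← hn a]
  rw [zv, h, Complex.intCast_re, Int.floor_intCast]

theorem zv_sub (c c' : Idx l r → ℤ) (χ : IrrCharacter G) :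
    zv hx L (c - c') χ = zv hx L c χ - zv hx L c' χ := by
  refine Int.cast_injective (α := ℂ) ?_
  rw [Int.cast_sub, ← zv_spec, ← zv_spec, ← zv_spec, ← Char.classInner_sub_left]
  congr 1
  simp only [Local.lin, Pi.sub_apply, Int.cast_sub, sub_smul, Finset.sum_sub_distrib]

theorem zv_neg (c : Idx l r → ℤ) (χ : IrrCharacter G) : zv hx L (-c) χ = -zv hx L c χ := by
  have h0 := zv_sub hx L c c χ
  rw [sub_self, sub_self] at h0
  have h := zv_sub hx L 0 c χ
  rwa [zero_sub, h0, zero_sub] at h

theorem zv_trivial (c : Idx l r → ℤ) :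
    zv hx L c (Char.trivialChar G) = c (Sum.inl (Sum.inl L.i₀)) := by
  refine Int.cast_injective (α := ℂ) ?_
  rw [← zv_spec, ← L.classInner_lin c (Sum.inl (Sum.inl L.i₀))]
  congr 1
  show _ = (L.th L.i₀).1
  rw [L.th_triv]
  funext g
  simp

section WithData

variable (D : Data G z x)
  (D' : Data (Subgroup.centralizer ({z} : Set G)) (Hyp.zc z) fun j => ⟨x j, hx j⟩)
include D D'

theorem gram_zv (hM : IsPModular 3 M) {c c' : Idx l r → ℤ}
    (hc : ∀ g, IsPRegular 3 g → L.lin c g = 0) (hc' : ∀ g, IsPRegular 3 g → L.lin c' g = 0) :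
    ∑ χ : {χ : IrrCharacter G // χ ∈ principalBlock M G}, zv hx L c χ.1 * zv hx L c' χ.1 =
      ∑ a, c a * c' a := by
  have h := isometry hx D D' hM hc hc'
  rw [L.sum_block, Finset.sum_congr rfl
    (g := fun χ : IrrCharacter G => ((zv hx L c χ * zv hx L c' χ : ℤ) : ℂ))
    (s₁ := Finset.univ.filter (· ∈ principalBlock M G)) fun χ _ => by
      rw [zv_spec, zv_spec, map_intCast, Int.cast_mul],
    Finset.sum_congr rfl (g := fun a => ((c a * c' a : ℤ) : ℂ))
      (s₁ := (Finset.univ : Finset (Idx l r))) fun a _ => by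
      rw [L.classInner_lin, L.classInner_lin, map_intCast, Int.cast_mul],
    ← Int.cast_sum, ← Int.cast_sum] at h
  rw [← Finset.sum_subtype (Finset.univ.filter (· ∈ principalBlock M G)) (fun χ => by simp)
    (fun χ => zv hx L c χ * zv hx L c' χ)]
  exact Int.cast_injective h

theorem zv_cD (hM : IsPModular 3 M) (m : Fin r) {χ : IrrCharacter G}
    (hχ : χ ∈ principalBlock M G) : zv hx L (L.cD m) χ = ival χ (x m) := by
  refine Int.cast_injective (α := ℂ) ?_
  rw [← zv_spec, ← D.apply_eq_ival χ m, classInner]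
  set C := Subgroup.centralizer ({z} : Set G)
  choose pp hpp using fun g : C => Blocks.exists_isPPart (p := 3) g
  rw [Finset.sum_congr rfl (g := fun g => if IsConj (⟨x m, hx m⟩ : C) (pp g) then 9 * χ.1 (x m) else 0)
    fun g _ => by
      rw [L.lin_cD_section D' hM m (hpp g)]
      split_ifs with hc
      · rw [D.apply_section_conj hM (isPPart_coe (hpp g)) (C.subtype.map_isConj hc) hχ,
          D.conj_apply χ m]
      · rw [zero_mul],
    ← Finset.sum_filter, Finset.sum_const, nsmul_eq_mul, ← D'.nine_mul_card hM pp hpp m]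
  have hne : ((Finset.univ.filter fun g => IsConj (⟨x m, hx m⟩ : C) (pp g)).card : ℂ) ≠ 0 :=
    Nat.cast_ne_zero.2 (Finset.card_pos.2 ⟨⟨x m, hx m⟩, Finset.mem_filter.2 ⟨Finset.mem_univ _, by
      rw [Blocks.IsPPart.unique (hpp (⟨x m, hx m⟩ : C)) (D'.isPPart_self m)]⟩⟩).ne'
  field_simp
  convert mul_div_cancel_left₀ (χ.1 (x m)) hne using 2
  congr!

theorem zv_twist (hM : IsPModular 3 M) (T : Twist G k) (c : Idx l r → ℤ) (χ : IrrCharacter G) :
    zv hx L c (tw T χ) = zv hx L (c ∘ Local.sw) χ := by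
  set C := Subgroup.centralizer ({z} : Set G)
  have hzc : Hyp.zc z ∈ Subgroup.center C := Subgroup.mem_center_iff.2 fun a =>
    Subtype.ext (Subgroup.mem_centralizer_singleton_iff.1 a.2)
  have hpow : ∀ g : C, (g ^ k) ^ k = g := by
    intro g
    obtain ⟨u, hu⟩ := Blocks.exists_isPPart (p := 3) g
    obtain ⟨s, hus, hc, hk, hs⟩ := hu
    rw [show g ^ k = u⁻¹ * s by rw [← hus, hc.mul_pow, TC.reg s hs, TC.sing u hk],
      hc.inv_left.mul_pow, TC.reg s hs, inv_pow, TC.sing u hk, inv_inv, hus]
  refine Int.cast_injective (α := ℂ) ?_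
  rw [← zv_spec, ← zv_spec, classInner, classInner]
  congr 1
  let pw : C ≃ C := ⟨fun g => g ^ k, fun g => g ^ k, hpow, hpow⟩
  rw [← pw.sum_comp fun g => L.lin c g * conj ((tw T χ).1 (g : G))]
  refine Finset.sum_congr rfl fun g _ => ?_
  congr 1
  · show L.lin c (g ^ k) = L.lin (c ∘ Local.sw) g
    rw [L.lin_apply, L.lin_apply, ← Equiv.sum_comp
      (⟨Local.sw, Local.sw, Local.sw_sw, Local.sw_sw⟩ : Idx l r ≃ Idx l r)]
    exact Finset.sum_congr rfl fun a _ => by
      show (c (Local.sw a) : ℂ) * (L.fam (Local.sw a)).1 (g ^ k) = _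
      rw [L.fam_pow D' hzc hM, Local.sw_sw]; rfl
  · show conj (χ.1 (((g ^ k : C) : G) ^ k)) = conj (χ.1 (g : G))
    rw [← SubgroupClass.coe_pow, hpow]

/-- A member orthogonal to all the columns would vanish at every singular element. -/
theorem nondegenerate (hM : IsPModular 3 M) (hr0 : 0 < r) {χ : IrrCharacter G}
    (hχ : χ ∈ principalBlock M G) (hv : ∀ i, zv hx L (L.cV i) χ = 0)
    (hzz : ∀ i j, zv hx L (L.cZ i j) χ = 0) (hd : ∀ m, ival χ (x m) = 0) : False := by
  have hpM := hM.2.2
  have hdx : ∀ m, χ.1 (x m) = 0 := fun m => by rw [D.apply_eq_ival, hd m, Int.cast_zero]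
  set C := Subgroup.centralizer ({z} : Set G) with hC
  have hzc : Hyp.zc z ∈ Subgroup.center C := Subgroup.mem_center_iff.2 fun a =>
    Subtype.ext (Subgroup.mem_centralizer_singleton_iff.1 a.2)
  set f0 : C → ℂ := fun g => if IsPRegular 3 g then 0 else χ.1 (g : G) with hf0
  have hf00 : ∀ g, IsPRegular 3 g → f0 g = 0 := fun g hg => by simp [hf0, hg]
  have horth : ∀ c, (∀ g, IsPRegular 3 g → L.lin c g = 0) → zv hx L c χ = 0 →
      ∑ a, (c a : ℂ) * classInner f0 (L.fam a).1 = 0 := by
    intro c hc h0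
    have h1 : classInner f0 (L.lin c) = 0 := by
      rw [show classInner f0 (L.lin c) = classInner (fun g : C => χ.1 (g : G)) (L.lin c) from ?_,
        ← Char.conj_classInner, zv_spec, h0, Int.cast_zero, map_zero]
      simp only [classInner]
      refine congrArg _ (Finset.sum_congr rfl fun g _ => ?_)
      by_cases hg : IsPRegular 3 g
      · simp [hc g hg]
      · simp [hf0, hg]
    rw [← h1]
    simp only [Local.lin, Char.classInner_sum_right, Char.classInner_smul_right, map_intCast]
  have hreg : ∀ g : C, IsPRegular 3 g →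
      ∑ a, classInner f0 (L.fam a).1 * (L.fam a).1 g = 0 := by
    intro g hg
    rw [← L.sum_block fun η => classInner f0 η.1 * η.1 g]
    simp only [classInner, Finset.sum_mul, Finset.mul_sum]
    rw [Finset.sum_comm]
    refine Finset.sum_eq_zero fun h _ => ?_
    by_cases hh : IsPRegular 3 h
    · simp [hf0, hh]
    rw [Finset.sum_congr rfl (g := fun η : IrrCharacter C =>
        (Nat.card C : ℂ)⁻¹ * f0 h * (η.1 g * conj (η.1 h))) fun η _ => by ring,
      ← Finset.mul_sum,
      Blocks.weak_orthogonality hpM (Blocks.isPBlock_principalBlock hpM (G := C)) hg hh,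
      mul_zero]
  have hav0 := L.coeff_eq_zero D' hzc hM hr0 (fun a => classInner f0 (L.fam a).1)
    (fun i => horth _ (L.cV_reg i) (hv i)) (fun i j => horth _ (L.cZ_reg i j) (hzz i j))
    (fun m => horth _ (L.cD_reg D' hM m) (by rw [zv_cD hx L D D' hM m hχ, hd m])) hreg
  have h := isometry hx D D' hM hf00 hf00
  rw [L.sum_block, Finset.sum_eq_zero (s := (Finset.univ : Finset (Idx l r)))
    (fun a _ => by rw [hav0 a, zero_mul])] at h
  have h0 : classInner f0 (fun g : C => χ.1 (g : G)) = 0 := by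
    have hnn : ∀ w : IrrCharacter G,
        classInner f0 (fun g : C => w.1 g) * conj (classInner f0 fun g : C => w.1 g) =
          ((Complex.normSq (classInner f0 fun g : C => w.1 g) : ℝ) : ℂ) := fun w => Complex.mul_conj _
    rw [Finset.sum_congr rfl fun w _ => hnn w, ← Complex.ofReal_sum, Complex.ofReal_eq_zero] at h
    exact Complex.normSq_eq_zero.1 ((Finset.sum_eq_zero_iff_of_nonneg
      fun w _ => Complex.normSq_nonneg _).1 h χ
      (Finset.mem_filter.2 ⟨Finset.mem_univ _, hχ⟩))
  have hsing : ∀ g : C, ¬ IsPRegular 3 g → χ.1 (g : G) = 0 := by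
    have hf : f0 = 0 := Char.classInner_self_eq_zero (by
      rw [← h0, classInner, classInner]
      refine congrArg _ (Finset.sum_congr rfl fun g _ => ?_)
      by_cases hg : IsPRegular 3 g
      · simp [hf0, hg]
      · simp [hf0, hg])
    intro g hg
    have := congrFun hf g
    simpa [hf0, hg] using this
  have hG : ∀ g : G, ¬ IsPRegular 3 g → χ.1 g = 0 := by
    intro g hg
    obtain ⟨u, hu⟩ := Blocks.exists_isPPart (p := 3) g
    have hu1 : u ≠ 1 := fun e => by
      obtain ⟨y, hy, -, -, hyr⟩ := hu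
      rw [e, one_mul] at hy
      exact hg (hy ▸ hyr)
    have hz' : ∀ w, (w = z ∨ w = z⁻¹) → IsConj w u → χ.1 g = 0 := by
      intro w hw hc
      obtain ⟨c, hc'⟩ := isConj_iff.1 hc
      have hu' := Blocks.IsPPart.conj hu c⁻¹
      rw [← hc', show c⁻¹ * (c * w * c⁻¹) * c⁻¹⁻¹ = w by group] at hu'
      obtain ⟨y, hy, hcom, -, -⟩ := hu'
      have hmem : c⁻¹ * g * c⁻¹⁻¹ ∈ C := by
        rw [← hy]
        refine Subgroup.mem_centralizer_singleton_iff.2 ?_
        rcases hw with e | e <;> rw [e] at hcom ⊢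
        · exact ((Commute.refl z).mul_left hcom.symm).eq
        · exact ((Commute.refl z).inv_left.mul_left
            (Commute.inv_left_iff.1 hcom).symm).eq
      rw [← Blocks.irr_classFun χ g c⁻¹]
      refine hsing ⟨_, hmem⟩ fun hreg => hg ?_
      have h1 : IsPRegular 3 (c⁻¹ * g * c⁻¹⁻¹) := (Blocks.isPRegular_coe_iff ⟨_, hmem⟩).2 hreg
      exact (Blocks.isPRegular_conj c⁻¹).1 h1
    rcases D.cover u (Blocks.IsPPart.isPElement hu) hu1 with h | h | ⟨j, h⟩
    · exact hz' z (Or.inl rfl) h
    · exact hz' z⁻¹ (Or.inr rfl) h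
    · rw [D.apply_section_conj hM hu h hχ, hdx j]
  have hne : χ ≠ Char.trivialChar G := fun e => by
    have := hdx ⟨0, hr0⟩
    rw [e, Char.trivialChar_apply] at this
    exact one_ne_zero this
  refine BlockCount.pregSum_ne_zero hM hχ ?_
  have hs := BlockCount.sum_univ_irr χ
  rw [if_neg hne, ← Finset.sum_filter_add_sum_filter_not Finset.univ
    (fun g : G => IsPRegular 3 g), Finset.sum_eq_zero (s := Finset.univ.filter
      fun g : G => ¬ IsPRegular 3 g) (fun g hg => hG g (Finset.mem_filter.1 hg).2),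
    add_zero] at hs
  refine Eq.trans ?_ hs
  exact Finset.sum_congr (Finset.filter_congr fun g _ => Iff.rfl) fun _ _ => rfl

end WithData

/-- The invariants of the principal block. -/
theorem principal_invariants (D : Data G z x)
    (D' : Data (Subgroup.centralizer ({z} : Set G)) (Hyp.zc z) fun j => ⟨x j, hx j⟩)
    (hM : IsPModular 3 M) (hr : r = 1 ∨ r = 2 ∨ r = 4) :
    ∃ l, l + r = 6 ∧ Nat.card (principalBlock M G) = 6 + 2 * l ∧
      blockRank 3 (principalBlock M G) = l ∧
      Nat.card {χ : IrrCharacter G // χ ∈ principalBlock M G ∧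
        ¬ (3 : ℤ) ∣ (Char.degree χ : ℤ)} = 6 := by
  have hr0 : 0 < r := by omega
  obtain ⟨k, T⟩ := exists_twist D
  set C := Subgroup.centralizer ({z} : Set G) with hC
  have hzc : Hyp.zc z ∈ Subgroup.center C := Subgroup.mem_center_iff.2 fun a =>
    Subtype.ext (Subgroup.mem_centralizer_singleton_iff.1 a.2)
  have TC := T.restrict C
  obtain ⟨l, ⟨L⟩⟩ := D'.exists_local hzc hM TC hr
  let τ : {χ : IrrCharacter G // χ ∈ principalBlock M G} →
      {χ : IrrCharacter G // χ ∈ principalBlock M G} := fun χ => ⟨tw T χ.1, tw_mem T hM χ.2⟩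
  have hcols : Columns τ ⟨Char.trivialChar G, Blocks.trivial_mem_principalBlock⟩ L.i₀
      (fun i χ => zv hx L (L.cV i) χ.1) (fun i j χ => zv hx L (L.cZ i j) χ.1)
      (fun m χ => ival χ.1 (x m)) :=
    { invol := fun χ => Subtype.ext (tw_tw T χ.1)
      fix_o := Subtype.ext (Subtype.ext (funext fun g => rfl))
      V_σ := fun i χ => by
        rw [zv_twist hx L D D' hM T, ← zv_neg]
        congr 1
        funext a
        rcases a with a | (a | a) <;> simp [Local.cV, Local.sw] <;> by_cases h : a = i <;> simp [h]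
      Z_σ := fun i j χ => by
        rw [zv_twist hx L D D' hM T, ← zv_sub]
        congr 1
        funext a
        rcases a with (a | a) | (a | a) <;> simp [Local.cV, Local.cZ, Local.sw] <;>
          split_ifs <;> simp
      D_σ := fun m χ => by
        refine Int.cast_injective (α := ℂ) ?_
        rw [← D.apply_eq_ival, ← D.apply_eq_ival]
        show χ.1.1 (x m ^ k) = χ.1.1 (x m)
        rw [T.sing _ (D.x_pow m), D.apply_inv]
      VV := fun i i' => (gram_zv hx L D D' hM (L.cV_reg i) (L.cV_reg i')).trans (L.cV_cV i i')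
      ZZ := fun i i' j j' =>
        (gram_zv hx L D D' hM (L.cZ_reg i j) (L.cZ_reg i' j')).trans (L.cZ_cZ i i' j j')
      ZD := fun i j m => by
        rw [← L.cZ_cD D' i j m, ← gram_zv hx L D D' hM (L.cZ_reg i j) (L.cD_reg D' hM m)]
        exact Finset.sum_congr rfl fun χ _ => by rw [zv_cD hx L D D' hM m χ.2]
      DD := fun m => by
        have h := D.gram_int hM m m
        rw [if_pos rfl, Finset.sum_subtype _ (p := fun χ => χ ∈ principalBlock M G) (fun χ => by simp)] at h
        exact h
      V_o := fun i => by rw [zv_trivial]; rfl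
      Z_o := fun i j => by
        rw [zv_trivial]
        simp only [Local.cZ, Sum.elim_inl]
        by_cases h : i = L.i₀
        · subst h; rw [if_pos rfl, if_pos rfl, L.s_triv]
        · rw [if_neg h, if_neg (Ne.symm h)]
      D_o := fun m => Int.cast_injective (α := ℂ) (by rw [← D.apply_eq_ival]; simp)
      nondeg := fun χ hv hzz hd => nondegenerate hx L D D' hM hr0 χ.2 hv hzz hd }
  obtain ⟨hcard, h0⟩ := hcols.card_eq L.hl hr ⟨0, hr0⟩
  have hk : Nat.card (principalBlock M G) = 6 + 2 * l := by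
    rw [← hcard, Nat.card_eq_fintype_card]
  refine ⟨l, L.hl, hk, ?_, ?_⟩
  · have h := D.card_eq hM
    rw [hk, lrank_inv, show lrank M z = l from L.rank] at h
    have := L.hl
    omega
  · rw [← h0]
    refine Nat.card_congr ((Equiv.subtypeEquivRight fun χ => ?_).trans
      (Equiv.subtypeSubtypeEquivSubtypeInter (fun χ : IrrCharacter G => χ ∈ principalBlock M G)
        (fun χ => ¬ (3 : ℤ) ∣ ival χ (x ⟨0, hr0⟩))).symm)
    refine and_congr_right fun _ => not_congr ?_
    exact dvd_iff_dvd_of_dvd_sub (D.dvd_degree_sub χ ⟨0, hr0⟩)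

end Main

end Cfsg.Agent.ThreeExtra
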