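import Cfsg.Agent.Lib.ThreeExtra.Central

/-!
# The relations of the principal block of the centralizer on the regular elements
-/

set_option autoImplicit false
set_option linter.unusedSectionVars false
set_option linter.style.haveILetI false

namespace Cfsg.Agent.ThreeExtra

open Cfsg Cfsg.Agent
open scoped ComplexConjugate Classical

universe u

variable {G : Type u} [Group G] [Fintype G] [Fact (Nat.Prime 3)] {z : G} {r : ℕ} {x : Fin r → G}
  {M : Ideal AlgInt} [M.IsMaximal] {k : ℕ} {T : Twist G k} {l : ℕ}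

/-- Labels of the members of the block. -/
abbrev Idx (l r : ℕ) := (Fin l ⊕ Fin r) ⊕ (Fin l ⊕ Fin l)

namespace Local

variable (L : Local M T z x l)

/-- The members of the block. -/
noncomputable def fam : Idx l r → IrrCharacter G :=
  Sum.elim (Sum.elim L.th L.th') (Sum.elim L.ps fun i => tw T (L.ps i))

theorem fam_inj : Function.Injective L.fam := L.inj

theorem fam_mem (a : Idx l r) : L.fam a ∈ principalBlock M G := L.mem a

/-- An integral combination of the members. -/
noncomputable def lin (c : Idx l r → ℤ) : G → ℂ := ∑ a, (c a : ℂ) • (L.fam a).1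

theorem lin_apply (c : Idx l r → ℤ) (g : G) : L.lin c g = ∑ a, (c a : ℂ) * (L.fam a).1 g := by
  simp [lin, Finset.sum_apply]

theorem classInner_lin (c : Idx l r → ℤ) (a : Idx l r) :
    classInner (L.lin c) (L.fam a).1 = (c a : ℂ) := by
  simp only [lin, Char.classInner_sum_left, Char.classInner_smul_left, Char.classInner_irr]
  rw [Finset.sum_eq_single a (fun b _ hb => by rw [if_neg fun e => hb (L.fam_inj e), mul_zero])
    (fun h => absurd (Finset.mem_univ a) h), if_pos rfl, mul_one]

theorem sum_block (F : IrrCharacter G → ℂ) :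
    ∑ η ∈ Finset.univ.filter (· ∈ principalBlock M G), F η = ∑ a, F (L.fam a) := by
  rw [← Finset.sum_image (s := Finset.univ) (g := L.fam) fun a _ b _ e => L.fam_inj e]
  refine Finset.sum_congr (Finset.ext fun η => ?_) fun _ _ => rfl
  simp only [Finset.mem_filter, Finset.mem_univ, true_and, Finset.mem_image]
  exact ⟨fun h => L.surj η h, fun ⟨a, ha⟩ => ha ▸ L.fam_mem a⟩

/-- Coefficients of `ψ - ψ^τ`. -/
def cV (i : Fin l) : Idx l r → ℤ :=
  Sum.elim 0 (Sum.elim (fun a => if a = i then L.e i else 0) fun a => if a = i then -L.e i else 0)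

/-- Coefficients of `ζ i j`. -/
def cZ (i : Fin l) (j : Fin r) : Idx l r → ℤ :=
  Sum.elim (Sum.elim (fun a => if a = i then -L.s i else 0) fun b => if b = j then L.s' j else 0)
    (Sum.elim (fun a => if a = i then L.e i else 0) 0)

/-- Coefficients of the column at `x m`. -/
noncomputable def cD (m : Fin r) : Idx l r → ℤ := fun a => ival (L.fam a) (x m)

/-- The permutation of the labels induced by the twist. -/
def sw (a : Idx l r) : Idx l r := Sum.map id Sum.swap a

theorem sw_sw (a : Idx l r) : sw (sw a) = a := by rcases a with a | (a | a) <;> rfl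

theorem lin_cV (i : Fin l) (g : G) :
    L.lin (L.cV i) g = (L.e i : ℂ) * (L.ps i).1 g - (L.e i : ℂ) * (L.ps i).1 (g ^ k) := by
  rw [lin_apply, Fintype.sum_sum_type, Fintype.sum_sum_type, Fintype.sum_sum_type]
  simp [cV, fam, tw_apply, ite_mul, Finset.sum_ite_eq', sub_eq_add_neg]

theorem lin_cZ (i : Fin l) (j : Fin r) (g : G) :
    L.lin (L.cZ i j) g = (L.e i : ℂ) * (L.ps i).1 g - (L.s i : ℂ) * (L.th i).1 g +
      (L.s' j : ℂ) * (L.th' j).1 g := by
  rw [lin_apply, Fintype.sum_sum_type, Fintype.sum_sum_type, Fintype.sum_sum_type]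
  simp [cZ, fam, ite_mul, Finset.sum_ite_eq']
  ring

theorem cV_reg (i : Fin l) (g : G) (hg : IsPRegular 3 g) : L.lin (L.cV i) g = 0 := by
  rw [L.lin_cV, T.reg g hg, sub_self]

theorem cZ_reg (i : Fin l) (j : Fin r) (g : G) (hg : IsPRegular 3 g) : L.lin (L.cZ i j) g = 0 := by
  rw [L.lin_cZ, L.reg g hg i j]; ring

variable (D : Data G z x) (hz : z ∈ Subgroup.center G)

include D in
theorem fam_x (m : Fin r) (a : Idx l r) : (L.fam a).1 (x m) = (L.cD m a : ℂ) :=
  D.apply_eq_ival (L.fam a) m

include D in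
theorem lin_cD (m : Fin r) (g : G) :
    L.lin (L.cD m) g = ∑ η ∈ Finset.univ.filter (· ∈ principalBlock M G), η.1 g * η.1 (x m) := by
  rw [L.sum_block, lin_apply]
  exact Finset.sum_congr rfl fun a _ => by rw [L.fam_x D, mul_comm]

include D in
theorem cD_reg (hM : IsPModular 3 M) (m : Fin r) (g : G) (hg : IsPRegular 3 g) :
    L.lin (L.cD m) g = 0 := by
  rw [L.lin_cD D]; exact D.orth_regular hM hg m

include D in
theorem lin_cD_section (hM : IsPModular 3 M) (m : Fin r) {g u : G} (hu : IsPPart 3 g u) :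
    L.lin (L.cD m) g = if IsConj (x m) u then 9 else 0 := by
  rw [L.lin_cD D]
  split_ifs with hc
  · rw [Finset.sum_congr rfl (g := fun η : IrrCharacter G => η.1 (x m) * conj (η.1 (x m)))
      fun η hη => by
        rw [D.apply_section_conj hM hu hc (Finset.mem_filter.1 hη).2, D.conj_apply η m],
      D.gram hM m m, if_pos rfl]
  · rw [← Blocks.block_orthogonality hM.2.2 hu (D.isPPart_self m) (fun e => hc e.symm)
      (Blocks.isPBlock_principalBlock hM.2.2 (G := G))]
    exact Finset.sum_congr rfl fun η _ => by rw [D.conj_apply η m]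

include D in
theorem cD_th (m : Fin r) (i : Fin l) : L.cD m (Sum.inl (Sum.inl i)) = L.s i :=
  Int.cast_injective (α := ℂ) (by
    rw [← L.fam_x D]
    show (L.th i).1 (x m) = _
    have hs : (L.s i : ℂ) * L.s i = 1 := by exact_mod_cast L.s_sq i
    linear_combination (L.s i : ℂ) * L.th_x i m - (L.th i).1 (x m) * hs)

include D in
theorem cD_th' (m j : Fin r) :
    L.cD m (Sum.inl (Sum.inr j)) = L.s' j * if m = j then -2 else 1 :=
  Int.cast_injective (α := ℂ) (by
    rw [← L.fam_x D]
    show (L.th' j).1 (x m) = _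
    have hs : (L.s' j : ℂ) * L.s' j = 1 := by exact_mod_cast L.s'_sq j
    have h := L.th'_x j m
    split_ifs at h ⊢ <;> push_cast <;>
      linear_combination (L.s' j : ℂ) * h - (L.th' j).1 (x m) * hs)

include D in
theorem cD_ps (m : Fin r) (a : Fin l ⊕ Fin l) : L.cD m (Sum.inr a) = 0 :=
  Int.cast_injective (α := ℂ) (by
    rw [← L.fam_x D, Int.cast_zero]
    rcases a with a | a
    · exact L.ps_x a m
    · show (L.ps a).1 (x m ^ k) = 0
      rw [T.sing _ (D.x_pow m), D.apply_inv (L.ps a) m]
      exact L.ps_x a m)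

theorem cV_cV (i i' : Fin l) : ∑ a, L.cV i a * L.cV i' a = if i = i' then 2 else 0 := by
  rw [Fintype.sum_sum_type, Fintype.sum_sum_type, Fintype.sum_sum_type]
  simp only [cV, Sum.elim_inl, Sum.elim_inr, Pi.zero_apply, mul_zero, Finset.sum_const_zero,
    ite_mul, zero_mul, Finset.sum_ite_eq', Finset.mem_univ, if_true, zero_add]
  by_cases h : i = i'
  · subst h; simp only [if_true]; linear_combination 2 * L.e_sq i
  · simp [h]

theorem cZ_cZ (i i' : Fin l) (j j' : Fin r) : ∑ a, L.cZ i j a * L.cZ i' j' a =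
    (if i = i' then 2 else 0) + if j = j' then 1 else 0 := by
  rw [Fintype.sum_sum_type, Fintype.sum_sum_type, Fintype.sum_sum_type]
  simp only [cZ, Sum.elim_inl, Sum.elim_inr, Pi.zero_apply, mul_zero, Finset.sum_const_zero,
    ite_mul, zero_mul, Finset.sum_ite_eq', Finset.mem_univ, if_true, add_zero]
  by_cases h : i = i' <;> by_cases h' : j = j'
  · subst h; subst h'
    simp only [if_true]; linear_combination L.s_sq i + L.e_sq i + L.s'_sq j
  · subst h
    simp only [if_true, h', if_false, mul_zero]; linear_combination L.s_sq i + L.e_sq i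
  · subst h'
    simp only [if_true, h, if_false, mul_zero]; linear_combination L.s'_sq j
  · simp [h, h']

include D in
theorem cZ_cD (i : Fin l) (j m : Fin r) :
    ∑ a, L.cZ i j a * L.cD m a = if j = m then -3 else 0 := by
  rw [Fintype.sum_sum_type, Fintype.sum_sum_type, Fintype.sum_sum_type]
  simp only [cZ, Sum.elim_inl, Sum.elim_inr, L.cD_th D, L.cD_th' D, L.cD_ps D, mul_zero,
    Finset.sum_const_zero, add_zero, ite_mul, zero_mul, Finset.sum_ite_eq', Finset.mem_univ,
    if_true]
  by_cases h : m = j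
  · subst h; simp only [if_true]; linear_combination -L.s_sq i - 2 * L.s'_sq m
  · rw [if_neg h, if_neg (Ne.symm h)]; linear_combination -L.s_sq i + L.s'_sq j

include D hz in
theorem fam_pow (hM : IsPModular 3 M) (a : Idx l r) (g : G) :
    (L.fam a).1 (g ^ k) = (L.fam (sw a)).1 g := by
  rcases a with a | (a | a)
  · show (L.fam (Sum.inl a)).1 (g ^ k) = (L.fam (Sum.inl a)).1 g
    rw [← tw_apply T, D.tw_of_trivial hz hM T (L.fam_mem (Sum.inl a)) (L.th_z a :)]
  · rfl
  · show (tw T (tw T (L.ps a))).1 g = (L.ps a).1 g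
    rw [tw_tw]

/-- The signed values of the members trivial on `z` at the `x m`. -/
def nval (m : Fin r) : Fin l ⊕ Fin r → ℂ :=
  Sum.elim (fun _ => 1) fun j => if m = j then -2 else 1

/-- The signed members trivial on `z`. -/
noncomputable def sth (a : Fin l ⊕ Fin r) : G → ℂ :=
  ((Sum.elim L.s L.s' a : ℤ) : ℂ) • (Sum.elim L.th L.th' a).1

include D hz in
theorem regDot_sth (hM : IsPModular 3 M) (a c : Fin l ⊕ Fin r) :
    3 * BrauerPairs.regDot 3 (L.sth a) (L.sth c) =
      (if a = c then 1 else 0) - 9⁻¹ * ∑ m, nval m a * nval m c := by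
  have h := D.classInner_split hz hM (L.fam_mem (Sum.inl a)) (L.fam_mem (Sum.inl c))
  simp only [fam, Sum.elim_inl, L.th_z, map_one, mul_one] at h
  set σa : ℂ := ((Sum.elim L.s L.s' a : ℤ) : ℂ) with hσa
  set σc : ℂ := ((Sum.elim L.s L.s' c : ℤ) : ℂ) with hσc
  have hsc : σa * σc * (if a = c then 1 else 0) = if a = c then 1 else 0 := by
    by_cases e : a = c
    · subst e
      simp only [if_true, mul_one, hσa, hσc]
      rcases a with a | a
      · exact_mod_cast L.s_sq a
      · exact_mod_cast L.s'_sq a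
    · simp [e]
  have hinj : ∀ b b' : Fin l ⊕ Fin r, Sum.elim L.th L.th' b = Sum.elim L.th L.th' b' ↔ b = b' :=
    fun b b' => ⟨fun h' => Sum.inl_injective (L.fam_inj (a₁ := Sum.inl b) (a₂ := Sum.inl b') h'),
      fun h' => by rw [h']⟩
  simp only [hinj] at h
  have hxv : ∀ (b : Fin l ⊕ Fin r) m, ((Sum.elim L.s L.s' b : ℤ) : ℂ) *
      (Sum.elim L.th L.th' b).1 (x m) = nval m b := by
    rintro (b | b) m
    · exact L.th_x b m
    · exact L.th'_x b m
  have e1 : Char.regFun 3 (L.sth a) = σa • Char.regFun 3 (Sum.elim L.th L.th' a).1 := by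
    funext g; simp [sth, Char.regFun, hσa]
  have hsum : ∑ m, nval m a * nval m c = σa * σc *
      ∑ m, (Sum.elim L.th L.th' a).1 (x m) * conj ((Sum.elim L.th L.th' c).1 (x m)) := by
    rw [Finset.mul_sum]
    refine Finset.sum_congr rfl fun m _ => ?_
    rw [← hxv a m, ← hxv c m, D.conj_apply, hσa, hσc]
    ring
  rw [BrauerPairs.regDot, e1, Char.classInner_smul_left, sth, Char.classInner_smul_right,
    map_intCast, ← BrauerPairs.regDot, ← hσc, hsum, ← hsc]
  linear_combination -(σa * σc) * h

theorem sum_nval (m : Fin r) (B : Fin l → ℂ) (B' : Fin r → ℂ) :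
    ∑ i, B i + ∑ j, B' j - 3 * B' m = ∑ a, Sum.elim B B' a * nval m a := by
  rw [Fintype.sum_sum_type]
  simp only [nval, Sum.elim_inl, Sum.elim_inr, mul_one]
  rw [Finset.sum_congr rfl (s₁ := (Finset.univ : Finset (Fin r)))
    (f := fun j => B' j * if m = j then (-2 : ℂ) else 1)
    (g := fun j => B' j - 3 * if m = j then B' j else 0) (fun j _ => by split_ifs <;> ring),
    Finset.sum_sub_distrib, ← Finset.mul_sum, Finset.sum_ite_eq, if_pos (Finset.mem_univ _)]
  ring

include D hz in
/-- Only zero is orthogonal to the columns and vanishes on the regular elements. -/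
theorem coeff_eq_zero (hM : IsPModular 3 M) (hr0 : 0 < r) (av : Idx l r → ℂ)
    (hV : ∀ i, ∑ a, (L.cV i a : ℂ) * av a = 0) (hZ : ∀ i j, ∑ a, (L.cZ i j a : ℂ) * av a = 0)
    (hD : ∀ m, ∑ a, (L.cD m a : ℂ) * av a = 0)
    (hreg : ∀ g, IsPRegular 3 g → ∑ a, av a * (L.fam a).1 g = 0) : ∀ a, av a = 0 := by
  have hnz : ∀ {a : ℤ}, a * a = 1 → (a : ℂ) ≠ 0 := fun h => Int.cast_ne_zero.2 fun e => by
    rw [e] at h; norm_num at h
  have eV : ∀ i, av (Sum.inr (Sum.inl i)) = av (Sum.inr (Sum.inr i)) := fun i => by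
    have h := hV i
    rw [Fintype.sum_sum_type, Fintype.sum_sum_type, Fintype.sum_sum_type] at h
    simp only [cV, Sum.elim_inl, Sum.elim_inr, Pi.zero_apply, Int.cast_zero, zero_mul,
      Finset.sum_const_zero, zero_add, Int.cast_ite, Int.cast_neg, ite_mul, Finset.sum_ite_eq',
      Finset.mem_univ, if_true, neg_mul, ← sub_eq_add_neg, ← mul_sub] at h
    exact sub_eq_zero.1 ((mul_eq_zero.1 h).resolve_left (hnz (L.e_sq i)))
  set b : Fin l → ℂ := fun i => (L.s i : ℂ) * av (Sum.inl (Sum.inl i)) with hb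
  set b' : Fin r → ℂ := fun j => (L.s' j : ℂ) * av (Sum.inl (Sum.inr j)) with hb'
  have eZ : ∀ i j, (L.e i : ℂ) * av (Sum.inr (Sum.inl i)) = b i - b' j := fun i j => by
    have h := hZ i j
    rw [Fintype.sum_sum_type, Fintype.sum_sum_type, Fintype.sum_sum_type] at h
    simp only [cZ, Sum.elim_inl, Sum.elim_inr, Pi.zero_apply, Int.cast_zero, zero_mul,
      Finset.sum_const_zero, add_zero, Int.cast_ite, Int.cast_neg, ite_mul, Finset.sum_ite_eq',
      Finset.mem_univ, if_true] at h
    simp only [hb, hb']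
    linear_combination h
  let j₀ : Fin r := ⟨0, hr0⟩
  obtain ⟨A, hA⟩ : ∃ A, A = b' j₀ := ⟨_, rfl⟩
  have eA : ∀ j, b' j = A := fun j => by linear_combination eZ L.i₀ j - eZ L.i₀ j₀ - hA
  have hlr : (l : ℂ) + r = 6 := by exact_mod_cast L.hl
  have eD : ∑ i, b i = (3 - (r : ℂ)) * A := by
    have h := hD j₀
    rw [Fintype.sum_sum_type, Fintype.sum_sum_type] at h
    simp only [L.cD_th D, L.cD_th' D, L.cD_ps D, Int.cast_zero, zero_mul, Finset.sum_const_zero,
      add_zero, Int.cast_mul, Int.cast_ite, Int.cast_neg, Int.cast_ofNat, Int.cast_one] at h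
    have h2 := sum_nval j₀ b b'
    rw [Fintype.sum_sum_type] at h2
    simp only [nval, Sum.elim_inl, Sum.elim_inr, mul_one] at h2
    rw [Finset.sum_congr rfl (g := fun i => b i) (fun i _ => rfl),
      Finset.sum_congr rfl (s₁ := (Finset.univ : Finset (Fin r)))
        (g := fun j => b' j * if j₀ = j then (-2 : ℂ) else 1) (fun j _ => by
          simp only [hb']; ring), ← h2, eA j₀, Finset.sum_congr rfl fun j _ => eA j,
      Finset.sum_const, Finset.card_univ, Fintype.card_fin, nsmul_eq_mul] at h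
    linear_combination h
  set P : Fin l → ℂ := fun i => b i - A with hP
  set cf : Fin l ⊕ Fin r → ℂ := Sum.elim (fun i => b i + 2 * P i)
    (fun j => A - if j = j₀ then 2 * ∑ i, P i else 0) with hcf
  have hF : ∀ g, Char.regFun 3 (∑ a, cf a • L.sth a) g = 0 := by
    intro g
    simp only [Char.regFun]
    split_ifs with hg
    · rfl
    rw [← hreg g hg, Fintype.sum_sum_type, Fintype.sum_sum_type]
    simp only [Finset.sum_apply, Pi.add_apply, Pi.smul_apply, smul_eq_mul, sth, hcf, Sum.elim_inl,
      Sum.elim_inr, fam, tw_apply]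
    rw [Fintype.sum_sum_type (f := fun a => av (Sum.inl a) * _),
      Fintype.sum_sum_type (f := fun a => av (Sum.inr a) * _)]
    simp only [Sum.elim_inl, Sum.elim_inr, tw_apply, T.reg g hg, sub_mul, Finset.sum_sub_distrib, ite_mul,
      zero_mul, Finset.sum_ite_eq', Finset.mem_univ, if_true]
    have hps : ∀ i, av (Sum.inr (Sum.inl i)) * (L.ps i).1 g +
        av (Sum.inr (Sum.inr i)) * (L.ps i).1 g =
          2 * P i * ((L.s i : ℂ) * (L.th i).1 g) -
            2 * P i * ((L.s' j₀ : ℂ) * (L.th' j₀).1 g) := fun i => by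
      have he : (L.e i : ℂ) * L.e i = 1 := by exact_mod_cast L.e_sq i
      rw [← eV i, show P i = (L.e i : ℂ) * av (Sum.inr (Sum.inl i)) by
        rw [eZ i j₀, ← hA]]
      linear_combination (-2 * av (Sum.inr (Sum.inl i)) * (L.ps i).1 g) * he +
        (2 * (L.e i : ℂ) * av (Sum.inr (Sum.inl i))) * L.reg g hg i j₀
    rw [← Finset.sum_add_distrib (f := fun i => av (Sum.inr (Sum.inl i)) * _),
      Finset.sum_congr rfl fun i _ => hps i,
      Finset.sum_congr rfl (g := fun i => b i * ((L.s i : ℂ) * (L.th i).1 g))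
        (f := fun i => av (Sum.inl (Sum.inl i)) * _) (fun i _ => by
          have hs : (L.s i : ℂ) * L.s i = 1 := by exact_mod_cast L.s_sq i
          simp only [hb]
          linear_combination -(av (Sum.inl (Sum.inl i)) * (L.th i).1 g) * hs),
      Finset.sum_congr rfl (g := fun j => A * ((L.s' j : ℂ) * (L.th' j).1 g))
        (f := fun j => av (Sum.inl (Sum.inr j)) * _) (fun j _ => by
          have hs : (L.s' j : ℂ) * L.s' j = 1 := by exact_mod_cast L.s'_sq j
          rw [← eA j]
          simp only [hb']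
          linear_combination -(av (Sum.inl (Sum.inr j)) * (L.th' j).1 g) * hs),
      Finset.sum_sub_distrib]
    simp only [hP, add_mul, Finset.sum_add_distrib, ← Finset.sum_mul, ← Finset.mul_sum,
      Finset.sum_sub_distrib]
    ring
  have hdiff : ∀ q a, 3 * BrauerPairs.regDot 3 (L.sth a)
      (L.sth (Sum.inl q) - L.sth (Sum.inr j₀)) = (if a = Sum.inl q then 1 else 0) - 3⁻¹ := by
    intro q a
    rw [BrauerPairs.regDot, Char.classInner_sub_right, mul_sub, ← BrauerPairs.regDot,
      ← BrauerPairs.regDot, L.regDot_sth D hz hM, L.regDot_sth D hz hM]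
    have hs : ∑ m, nval m a * nval m (Sum.inl q : Fin l ⊕ Fin r) -
        ∑ m, nval m a * nval m (Sum.inr j₀ : Fin l ⊕ Fin r) = 3 * nval j₀ a := by
      rw [← Finset.sum_sub_distrib, Finset.sum_eq_single j₀ (fun m _ hm => by simp [nval, hm])
        (fun h => absurd (Finset.mem_univ j₀) h)]
      simp [nval]; ring
    rcases a with i | j
    · rw [show nval j₀ (Sum.inl i : Fin l ⊕ Fin r) = 1 from rfl] at hs
      simp only [reduceCtorEq, if_false]
      linear_combination -(9⁻¹ : ℂ) * hs
    · rw [show nval j₀ (Sum.inr j : Fin l ⊕ Fin r) = if j₀ = j then -2 else 1 from rfl] at hs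
      simp only [reduceCtorEq, if_false, Sum.inr.injEq]
      by_cases e : j = j₀
      · rw [if_pos e]; rw [if_pos e.symm] at hs; linear_combination -(9⁻¹ : ℂ) * hs
      · rw [if_neg e]; rw [if_neg (Ne.symm e)] at hs; linear_combination -(9⁻¹ : ℂ) * hs
  have hq : ∀ q, b q = A := by
    intro q
    have h0 : 3 * classInner (Char.regFun 3 (∑ a, cf a • L.sth a))
        (L.sth (Sum.inl q) - L.sth (Sum.inr j₀)) = 0 := by
      rw [show Char.regFun 3 (∑ a, cf a • L.sth a) = 0 from funext hF]
      simp [classInner]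
    rw [BrauerPairs.regFun_sum, Char.classInner_sum_left, Finset.mul_sum,
      Finset.sum_congr rfl (g := fun a => cf a * ((if a = Sum.inl q then 1 else 0) - 3⁻¹))
        fun a _ => by
          rw [Char.classInner_smul_left, ← BrauerPairs.regDot, ← hdiff q a]; ring] at h0
    simp only [mul_sub, Finset.sum_sub_distrib, mul_ite, mul_one, mul_zero, Finset.sum_ite_eq',
      Finset.mem_univ, if_true, ← Finset.sum_mul, Fintype.sum_sum_type] at h0
    simp only [hcf, Sum.elim_inl, Sum.elim_inr, Finset.sum_sub_distrib, Finset.sum_ite_eq',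
      Finset.mem_univ, if_true, Finset.sum_add_distrib, Finset.sum_const, Finset.card_univ,
      Fintype.card_fin, nsmul_eq_mul, ← Finset.mul_sum] at h0
    simp only [hP] at h0
    simp only [Finset.sum_sub_distrib, Finset.sum_const, Finset.card_univ, Fintype.card_fin,
      nsmul_eq_mul] at h0
    rw [eD] at h0
    linear_combination (3⁻¹ : ℂ) * h0
  have hA0 : A = 0 := by
    have h := eD
    simp only [hq, Finset.sum_const, Finset.card_univ, Fintype.card_fin, nsmul_eq_mul] at h
    linear_combination (3⁻¹ : ℂ) * h - (3⁻¹ : ℂ) * A * hlr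
  have hps : ∀ i, av (Sum.inr (Sum.inl i)) = 0 := fun i => by
    have h := eZ i j₀
    rw [hq i, ← hA, sub_self] at h
    exact (mul_eq_zero.1 h).resolve_left (hnz (L.e_sq i))
  rintro ((i | j) | (i | i))
  · have h := hq i
    rw [hA0] at h
    exact (mul_eq_zero.1 h).resolve_left (hnz (L.s_sq i))
  · have h := eA j
    rw [hA0] at h
    exact (mul_eq_zero.1 h).resolve_left (hnz (L.s'_sq j))
  · exact hps i
  · rw [← eV]; exact hps i

end Local

end Cfsg.Agent.ThreeExtra
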