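import Cfsg.Agent.Lib.ThreeExtra.Fusion
import Cfsg.Prelude.Def_Transfer
import Mathlib.RingTheory.Coprime.Lemmas
import Mathlib.RingTheory.Int.Basic

/-!
# Representatives of the classes of noncentral elements of the Sylow subgroup

`N(P)/P C(P)` of order `e` acts freely on the nontrivial elements of `P/Z`, with `8/e` orbits.
-/

set_option autoImplicit false
set_option linter.unusedSectionVars false
set_option linter.style.haveILetI false

namespace Cfsg.Agent.ThreeExtra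

open Cfsg
open scoped Pointwise Classical

variable {G : Type*} [Group G] [Finite G] [Fact (Nat.Prime 3)] {P : Sylow 3 G} {z : G}

theorem exists_hyp (P : Sylow 3 G) (hE : IsExtraspecial 3 ↥(P : Subgroup G))
    (h27 : Nat.card ↥(P : Subgroup G) = 27) (hexp : ∀ x ∈ (P : Subgroup G), x ^ 3 = 1)
    (hNC : ∀ g ∈ Subgroup.normalizer ((P : Subgroup G) : Set G), ∀ z ∈ (P : Subgroup G),
      (∀ y ∈ (P : Subgroup G), z * y = y * z) → g * z = z * g) :
    ∃ z, Hyp P z := by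
  have hc := hE.2
  set Zc := Subgroup.center ↥(P : Subgroup G)
  haveI : Nontrivial Zc := Finite.one_lt_card_iff_nontrivial.1 (by rw [hc]; norm_num)
  obtain ⟨c, hc1⟩ := exists_ne (1 : Zc)
  have hc1' : ((c : (P : Subgroup G)) : G) ≠ 1 := fun e => hc1 (Subtype.ext (Subtype.ext e))
  have hgen : Subgroup.zpowers (c : (P : Subgroup G)) = Zc := by
    refine Subgroup.eq_of_le_of_card_ge (Subgroup.zpowers_le.2 c.2) ?_
    rw [hc, Nat.card_zpowers, orderOf_eq_prime (p := 3)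
      (Subtype.ext (hexp _ c.1.2)) (fun e => hc1' (congrArg Subtype.val e))]
  have hcc : ∀ y ∈ (P : Subgroup G),
      Commute ((c : (P : Subgroup G)) : G) y := fun y hy =>
    (congrArg Subtype.val (Subgroup.mem_center_iff.1 c.2 ⟨y, hy⟩)).symm
  have hmem : ∀ u : (P : Subgroup G), u ∈ Zc →
      (u : G) ∈ Subgroup.zpowers ((c : (P : Subgroup G)) : G) := by
    intro u hu
    rw [← hgen] at hu
    obtain ⟨i, rfl⟩ := hu
    exact ⟨i, rfl⟩
  refine ⟨(c : (P : Subgroup G)), h27, c.1.2, hc1', hexp, hcc, fun u hu hy => ?_,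
    fun a ha b hb => ?_, fun g hg => hNC g hg _ c.1.2 fun y hy => (hcc y hy).eq⟩
  · exact hmem ⟨u, hu⟩ (Subgroup.mem_center_iff.2 fun y => Subtype.ext (hy y y.2).eq.symm)
  · refine hmem (⟨a, ha⟩ * ⟨b, hb⟩ * ⟨a, ha⟩⁻¹ * ⟨b, hb⟩⁻¹) ?_
    have := Subgroup.commutator_mem_commutator (Subgroup.mem_top (⟨a, ha⟩ : (P : Subgroup G)))
      (Subgroup.mem_top (⟨b, hb⟩ : (P : Subgroup G)))
    rw [commutatorElement_def] at this
    rw [show Zc = commutator ↥(P : Subgroup G) from hE.1.2.2.symm, commutator_def]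
    exact this

/-- Representatives of the fusion classes of noncentral elements of `P`. -/
structure Reps (P : Sylow 3 G) (z : G) {r : ℕ} (x : Fin r → G) : Prop where
  mem : ∀ j, x j ∈ (P : Subgroup G)
  notZ : ∀ j, x j ∉ Subgroup.zpowers z
  cover : ∀ u ∈ (P : Subgroup G), u ∉ Subgroup.zpowers z →
    ∃ j, ∃ n ∈ Subgroup.normalizer ((P : Subgroup G) : Set G),
      n * u * n⁻¹ * (x j)⁻¹ ∈ Subgroup.zpowers z
  unique : ∀ i j, ∀ n ∈ Subgroup.normalizer ((P : Subgroup G) : Set G),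
    n * x i * n⁻¹ * (x j)⁻¹ ∈ Subgroup.zpowers z → i = j
  inv : ∀ j, ∃ n ∈ Subgroup.normalizer ((P : Subgroup G) : Set G),
    n * x j * n⁻¹ * x j ∈ Subgroup.zpowers z

namespace Hyp

theorem exists_notZ (h : Hyp P z) : ∃ x ∈ (P : Subgroup G), x ∉ Subgroup.zpowers z := by
  by_contra hh
  push Not at hh
  have := Subgroup.card_le_of_le (show (P : Subgroup G) ≤ Subgroup.zpowers z from hh)
  rw [h.card, h.card_Z] at this
  omega

theorem notZ_conj (h : Hyp P z) {u : G} (hu : u ∉ Subgroup.zpowers z) {n : G}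
    (hn : n ∈ Subgroup.normalizer ((P : Subgroup G) : Set G)) :
    n * u * n⁻¹ ∉ Subgroup.zpowers z := fun hh => hu <| by
  have h1 := h.norm_conj (inv_mem hn) hh
  rw [show n⁻¹ * (n * u * n⁻¹) * n⁻¹⁻¹ = u by group] at h1
  exact h1 ▸ hh

theorem mul_mem_mod (h : Hyp P z) {u v : G} (hu : u ∈ (P : Subgroup G)) {c : G}
    (hc : c ∈ Subgroup.zpowers z) (hv : v = c * u) : v * u⁻¹ ∈ Subgroup.zpowers z := by
  rw [hv, mul_inv_cancel_right]; exact hc

theorem rel_trans (h : Hyp P z) {n m a b c : G}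
    (hm : m ∈ Subgroup.normalizer ((P : Subgroup G) : Set G))
    (h1 : n * a * n⁻¹ * b⁻¹ ∈ Subgroup.zpowers z) (h2 : m * b * m⁻¹ * c⁻¹ ∈ Subgroup.zpowers z) :
    m * n * a * (m * n)⁻¹ * c⁻¹ ∈ Subgroup.zpowers z := by
  rw [show m * n * a * (m * n)⁻¹ * c⁻¹ =
    (m * (n * a * n⁻¹ * b⁻¹) * m⁻¹) * (m * b * m⁻¹ * c⁻¹) by group, h.norm_conj hm h1]
  exact mul_mem h1 h2

theorem rel_symm (h : Hyp P z) {n a b : G}
    (hn : n ∈ Subgroup.normalizer ((P : Subgroup G) : Set G))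
    (h1 : n * a * n⁻¹ * b⁻¹ ∈ Subgroup.zpowers z) :
    n⁻¹ * b * n⁻¹⁻¹ * a⁻¹ ∈ Subgroup.zpowers z := by
  rw [show n⁻¹ * b * n⁻¹⁻¹ * a⁻¹ = n⁻¹ * (n * a * n⁻¹ * b⁻¹)⁻¹ * n⁻¹⁻¹ by group,
    h.norm_conj (inv_mem hn) (inv_mem h1)]
  exact inv_mem h1

/-- The elements of the normalizer acting trivially on `P/Z`. -/
def triv (h : Hyp P z) : Subgroup G where
  carrier := {g | g ∈ Subgroup.normalizer ((P : Subgroup G) : Set G) ∧
    ∀ u ∈ (P : Subgroup G), g * u * g⁻¹ * u⁻¹ ∈ Subgroup.zpowers z}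
  one_mem' := ⟨one_mem _, fun u _ => by simp⟩
  mul_mem' := fun {a b} ha hb => ⟨mul_mem ha.1 hb.1, fun u hu =>
    h.rel_trans ha.1 (hb.2 u hu) (ha.2 u hu)⟩
  inv_mem' := fun {a} ha => ⟨inv_mem ha.1, fun u hu => h.rel_symm ha.1 (ha.2 u hu)⟩

theorem pc_le_triv (h : Hyp P z) :
    (P : Subgroup G) ⊔ Subgroup.centralizer ((P : Subgroup G) : Set G) ≤ h.triv := by
  refine sup_le (fun g hg => ⟨Subgroup.le_normalizer hg, fun u hu => h.comm g hg u hu⟩)
    fun g hg => ⟨Subgroup.centralizer_le_normalizer _ hg, fun u hu => ?_⟩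
  rw [mul_inv_eq_of_eq_mul (Subgroup.mem_centralizer_iff.1 hg u hu).symm, mul_inv_cancel]
  exact one_mem _

theorem pow_three_eq {a m : G} {n : G} (h3 : m ^ 3 = 1) (hm : n * m * n⁻¹ = m)
    (ha : n * a * n⁻¹ = m * a) : n ^ 3 * a * (n ^ 3)⁻¹ = a := by
  calc n ^ 3 * a * (n ^ 3)⁻¹ = n * (n * (n * a * n⁻¹) * n⁻¹) * n⁻¹ := by
        simp only [pow_succ, pow_zero, one_mul, mul_inv_rev, mul_assoc]
    _ = n * (n * (m * a) * n⁻¹) * n⁻¹ := by rw [ha]
    _ = n * ((n * m * n⁻¹) * (n * a * n⁻¹)) * n⁻¹ := by group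
    _ = n * (m * (m * a)) * n⁻¹ := by rw [hm, ha]
    _ = (n * m * n⁻¹) * (n * m * n⁻¹) * (n * a * n⁻¹) := by group
    _ = m ^ 3 * a := by rw [hm, ha, pow_succ, pow_two]; group
    _ = a := by rw [h3, one_mul]

/-- Only `P C(P)` fixes a nontrivial element of `P/Z`. -/
theorem stab (h : Hyp P z) {n x : G} (hn : n ∈ Subgroup.normalizer ((P : Subgroup G) : Set G))
    (hx : x ∈ (P : Subgroup G)) (hxZ : x ∉ Subgroup.zpowers z)
    (hfix : n * x * n⁻¹ * x⁻¹ ∈ Subgroup.zpowers z) :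
    n ∈ (P : Subgroup G) ⊔ Subgroup.centralizer ((P : Subgroup G) : Set G) := by
  set N := Subgroup.normalizer ((P : Subgroup G) : Set G)
  have hPn : ∀ g ∈ N, ∀ u ∈ (P : Subgroup G), g * u * g⁻¹ ∈ (P : Subgroup G) :=
    fun g hg u hu => (Subgroup.mem_normalizer_iff.1 hg u).1 hu
  obtain ⟨y, hy, hyx⟩ := h.exists_conj_mul hx hxZ (Subgroup.mem_zpowers z)
  obtain ⟨d, hd⟩ : ∃ d, d = n * x * n⁻¹ * x⁻¹ := ⟨_, rfl⟩
  rw [← hd] at hfix
  have hnx : n * x * n⁻¹ = d * x := by rw [hd, inv_mul_cancel_right]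
  obtain ⟨m, hm⟩ : ∃ m, m = n * y * n⁻¹ * y⁻¹ := ⟨_, rfl⟩
  have hny : n * y * n⁻¹ = m * y := by rw [hm, inv_mul_cancel_right]
  have hnz : Commute n z := h.norm n hn
  have hnd : n * d * n⁻¹ = d := h.norm_conj hn hfix
  have hmP : m ∈ (P : Subgroup G) := hm ▸ mul_mem (hPn n hn y hy) (inv_mem hy)
  have hmE : m ∈ cP P x := by
    refine mem_cP.2 ⟨hmP, ?_⟩
    have h1 : (n * y * n⁻¹) * (n * x * n⁻¹) * (n * y * n⁻¹)⁻¹ =
        (n * x * n⁻¹) * (n * z * n⁻¹) := by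
      rw [show (n * y * n⁻¹) * (n * x * n⁻¹) * (n * y * n⁻¹)⁻¹ = n * (y * x * y⁻¹) * n⁻¹ by group,
        hyx]
      group
    rw [hnx, hny, mul_inv_eq_of_eq_mul hnz.eq] at h1
    have h2 : m * y * (d * x) * (m * y)⁻¹ = d * (m * x * m⁻¹) * z := by
      calc m * y * (d * x) * (m * y)⁻¹ = m * ((y * d * y⁻¹) * (y * x * y⁻¹)) * m⁻¹ := by group
        _ = m * (d * (x * z)) * m⁻¹ := by rw [h.conj_Z (h.zcomm y hy).symm hfix, hyx]
        _ = (m * d * m⁻¹) * (m * x * m⁻¹) * (m * z * m⁻¹) := by group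
        _ = d * (m * x * m⁻¹) * z := by
          rw [h.conj_Z (h.zcomm m hmP).symm hfix,
            h.conj_Z (h.zcomm m hmP).symm (Subgroup.mem_zpowers z)]
    rw [h2] at h1
    exact mul_inv_eq_iff_eq_mul.1 (mul_left_cancel (mul_right_cancel h1))
  have h9x : n ^ 3 * x * (n ^ 3)⁻¹ = x := pow_three_eq (h.exp d (h.zpowers_le hfix)) hnd hnx
  have h9z : Commute (n ^ 3) z := hnz.pow_left 3
  have hnE : ∀ e ∈ cP P x, n ^ 3 * e * (n ^ 3)⁻¹ = e := fun e he =>
    mul_inv_eq_of_eq_mul (h.commute_cP hx hxZ (mul_inv_eq_iff_eq_mul.1 h9x) h9z he).eq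
  obtain ⟨m', hm'⟩ : ∃ m', m' = n ^ 3 * y * (n ^ 3)⁻¹ * y⁻¹ := ⟨_, rfl⟩
  have hm'E : m' ∈ cP P x := by
    have hnm : n * m * n⁻¹ ∈ cP P x := by
      refine mem_cP.2 ⟨hPn n hn m hmP, ?_⟩
      have h1 : Commute (n * m * n⁻¹) (d * x) := hnx ▸ (Commute.conj_iff n).2 (mem_cP.1 hmE).2
      have h2 : Commute (n * m * n⁻¹) d := (h.commute_Z hfix (hPn n hn m hmP)).symm
      simpa using h2.inv_right.mul_right h1
    have hnnm : n * (n * m * n⁻¹) * n⁻¹ ∈ cP P x := by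
      refine mem_cP.2 ⟨hPn n hn _ (mem_cP.1 hnm).1, ?_⟩
      have h1 : Commute (n * (n * m * n⁻¹) * n⁻¹) (d * x) :=
        hnx ▸ (Commute.conj_iff n).2 (mem_cP.1 hnm).2
      have h2 : Commute (n * (n * m * n⁻¹) * n⁻¹) d :=
        (h.commute_Z hfix (hPn n hn _ (mem_cP.1 hnm).1)).symm
      simpa using h2.inv_right.mul_right h1
    rw [hm', show n ^ 3 * y * (n ^ 3)⁻¹ * y⁻¹ =
      (n * (n * (n * y * n⁻¹ * y⁻¹) * n⁻¹) * n⁻¹) * (n * (n * y * n⁻¹ * y⁻¹) * n⁻¹) *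
        (n * y * n⁻¹ * y⁻¹) by rw [pow_succ, pow_two]; group, ← hm]
    exact mul_mem (mul_mem hnnm hnm) hmE
  have h9y : n ^ 3 * y * (n ^ 3)⁻¹ = m' * y := by rw [hm', inv_mul_cancel_right]
  have h27y : (n ^ 3) ^ 3 * y * ((n ^ 3) ^ 3)⁻¹ = y :=
    pow_three_eq (h.exp m' (mem_cP.1 hm'E).1) (hnE m' hm'E) h9y
  have hcent : n ^ 9 ∈ Subgroup.centralizer ((P : Subgroup G) : Set G) := by
    rw [show n ^ 9 = (n ^ 3) ^ 3 by rw [← pow_mul]]
    set L := (P : Subgroup G) ⊓ Subgroup.centralizer ({(n ^ 3) ^ 3} : Set G)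
    have hEL : cP P x ≤ L := fun e he => ⟨(mem_cP.1 he).1,
      Subgroup.mem_centralizer_singleton_iff.2
        ((show Commute (n ^ 3) e from mul_inv_eq_iff_eq_mul.1 (hnE e he)).pow_left 3).symm.eq⟩
    have hyL : y ∈ L := ⟨hy, Subgroup.mem_centralizer_singleton_iff.2
      (mul_inv_eq_iff_eq_mul.1 h27y).symm⟩
    have hyE : y ∉ cP P x := fun hh => h.z1 (left_eq_mul.1
      ((mul_inv_eq_of_eq_mul (mem_cP.1 hh).2.eq).symm.trans hyx))
    have hlt : Nat.card (cP P x) < Nat.card L := lt_of_le_of_ne (Subgroup.card_le_of_le hEL)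
      fun e => hyE ((Subgroup.eq_of_le_of_card_ge hEL e.ge).ge hyL)
    rw [h.card_cP hx hxZ] at hlt
    have h3 := h.card_le_P (K := L) inf_le_left
    simp only [Finset.mem_insert, Finset.mem_singleton] at h3
    have hLP : L = (P : Subgroup G) :=
      Subgroup.eq_of_le_of_card_ge inf_le_left (by rw [h.card]; omega)
    exact Subgroup.mem_centralizer_iff.2 fun u hu =>
      Subgroup.mem_centralizer_singleton_iff.1 (hLP.ge hu).2
  set o := (orderOf n) / 3 ^ (orderOf n).factorization 3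
  have ho : n ^ o ∈ (P : Subgroup G) := by
    have hord : orderOf (n ^ o) = 3 ^ (orderOf n).factorization 3 :=
      orderOf_pow_orderOf_div (orderOf_pos n).ne' (Nat.ordProj_dvd _ _)
    have hp : IsPGroup 3 (Subgroup.zpowers (n ^ o)) :=
      IsPGroup.of_card (n := (orderOf n).factorization 3) (by rw [Nat.card_zpowers, hord])
    have hs := hp.to_sup_of_normal_right' P.2
      (Subgroup.zpowers_le.2 (pow_mem hn o) : Subgroup.zpowers (n ^ o) ≤ N)
    rw [← P.3 hs le_sup_right]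
    exact Subgroup.mem_sup_left (Subgroup.mem_zpowers _)
  have hcop : IsCoprime (9 : ℤ) (o : ℤ) := by
    rw [show (9 : ℤ) = ((3 ^ 2 : ℕ) : ℤ) by norm_num, Int.isCoprime_iff_nat_coprime]
    simpa using Nat.Coprime.pow_left 2 (Nat.coprime_ordCompl Nat.prime_three (orderOf_pos n).ne')
  obtain ⟨a, b, hab⟩ := hcop
  rw [← zpow_one n, ← hab, zpow_add, mul_comm a, mul_comm b, zpow_mul, zpow_mul,
    show n ^ (9 : ℤ) = n ^ 9 from zpow_natCast n 9, zpow_natCast]
  exact mul_mem (zpow_mem (Subgroup.mem_sup_right hcent) a) (zpow_mem (Subgroup.mem_sup_left ho) b)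

theorem triv_eq (h : Hyp P z) :
    h.triv = (P : Subgroup G) ⊔ Subgroup.centralizer ((P : Subgroup G) : Set G) := by
  refine le_antisymm (fun g hg => ?_) h.pc_le_triv
  obtain ⟨x, hx, hxZ⟩ := h.exists_notZ
  exact h.stab hg.1 hx hxZ (hg.2 x hx)

theorem triv_normal (h : Hyp P z) :
    (h.triv.subgroupOf (Subgroup.normalizer ((P : Subgroup G) : Set G))).Normal := by
  refine ⟨fun a ha n => ?_⟩
  rw [Subgroup.mem_subgroupOf] at ha ⊢
  refine ⟨(n * a * n⁻¹).2, fun u hu => ?_⟩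
  have hu' : (n : G)⁻¹ * u * (n : G) ∈ (P : Subgroup G) := by
    simpa using (Subgroup.mem_normalizer_iff.1 (inv_mem n.2) u).1 hu
  have h1 := ha.2 _ hu'
  have h2 := h.norm_conj n.2 h1
  rw [← h2] at h1
  convert h1 using 1
  simp only [Subgroup.coe_mul, Subgroup.coe_inv]
  group

/-- The orbit representatives. -/
theorem exists_reps (h : Hyp P z) {e : ℕ}
    (he : ((P : Subgroup G) ⊔ Subgroup.centralizer ((P : Subgroup G) : Set G)).relIndex
      (Subgroup.normalizer ((P : Subgroup G) : Set G)) = e) (heven : 2 ∣ e) :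
    ∃ (r : ℕ) (x : Fin r → G), r * e = 8 ∧ Reps P z x := by
  rw [← h.triv_eq] at he
  set N := Subgroup.normalizer ((P : Subgroup G) : Set G)
  let T := h.triv.subgroupOf N
  haveI : T.Normal := h.triv_normal
  have hTi : T.index = e := he
  haveI : Fact (Nat.Prime 2) := ⟨Nat.prime_two⟩
  -- an element inverting `P/Z`
  obtain ⟨q, hq⟩ := exists_prime_orderOf_dvd_card' (G := ↥N ⧸ T) 2 (by
    change 2 ∣ T.index
    rwa [hTi])
  obtain ⟨n₀, rfl⟩ := QuotientGroup.mk_surjective q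
  have hn₀ : (n₀ : G) ∉ h.triv := fun hh => by
    rw [(QuotientGroup.eq_one_iff n₀).2 (show n₀ ∈ T from hh), orderOf_one] at hq
    norm_num at hq
  have hn₀2 : ((n₀ * n₀ : N) : G) ∈ h.triv := by
    refine (QuotientGroup.eq_one_iff (N := T) (n₀ * n₀)).1 ?_
    rw [QuotientGroup.mk_mul, ← pow_two, ← hq, pow_orderOf_eq_one]
  have hinv : ∀ x ∈ (P : Subgroup G), x ∉ Subgroup.zpowers z →
      (n₀ : G) * x * (n₀ : G)⁻¹ * x ∈ Subgroup.zpowers z := by
    intro x hx hxZ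
    set n : G := (n₀ : G)
    by_contra hne
    have ha : n * x * n⁻¹ ∈ (P : Subgroup G) := (Subgroup.mem_normalizer_iff.1 n₀.2 x).1 hx
    refine hn₀ (h.pc_le_triv (h.stab n₀.2 (mul_mem ha hx) hne ?_))
    rw [show n * (n * x * n⁻¹ * x) * n⁻¹ * (n * x * n⁻¹ * x)⁻¹ =
      ((n * n) * x * (n * n)⁻¹ * x⁻¹) *
        (x * (n * x * n⁻¹) * x⁻¹ * (n * x * n⁻¹)⁻¹) by group]
    exact mul_mem (hn₀2.2 x hx) (h.comm x hx _ ha)
  let S := {u : G // u ∈ (P : Subgroup G) ∧ u ∉ Subgroup.zpowers z}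
  haveI : Fintype S := Fintype.ofFinite S
  let st : Setoid S :=
    { r := fun u v => ∃ n ∈ N, n * u.1 * n⁻¹ * v.1⁻¹ ∈ Subgroup.zpowers z
      iseqv := ⟨fun u => ⟨1, one_mem _, by simp⟩,
        fun ⟨n, hn, hh⟩ => ⟨n⁻¹, inv_mem hn, h.rel_symm hn hh⟩,
        fun ⟨n, hn, hh⟩ ⟨m, hm, hh'⟩ => ⟨m * n, mul_mem hm hn, h.rel_trans hm hh hh'⟩⟩ }
  have hS : Nat.card S = 24 := by
    have h1 : Nat.card {u : G // u ∈ (P : Subgroup G)} = 27 := h.card
    haveI := Fintype.ofFinite G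
    rw [Nat.card_eq_fintype_card, Fintype.card_subtype] at h1 ⊢
    have h3 := h.card_Z
    rw [Nat.card_eq_fintype_card, Fintype.card_subtype] at h3
    have hsub : (Finset.univ.filter fun u : G => u ∈ Subgroup.zpowers z) ⊆
        Finset.univ.filter fun u : G => u ∈ (P : Subgroup G) := fun u hu => by
      simp only [Finset.mem_filter, Finset.mem_univ, true_and] at hu ⊢
      exact h.zpowers_le hu
    have := Finset.card_sdiff_of_subset hsub
    rw [show (Finset.univ.filter fun u : G => u ∈ (P : Subgroup G) ∧ u ∉ Subgroup.zpowers z) =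
      (Finset.univ.filter fun u : G => u ∈ (P : Subgroup G)) \
        Finset.univ.filter (fun u : G => u ∈ Subgroup.zpowers z) by ext; simp, this]
    omega
  have hclass : ∀ q : Quotient st, Nat.card {v : S // Quotient.mk st v = q} = 3 * e := by
    intro q
    obtain ⟨x, rfl⟩ := Quotient.exists_rep q
    have hrel : ∀ v : {v : S // Quotient.mk st v = Quotient.mk st x},
        ∃ n ∈ N, n * x.1 * n⁻¹ * v.1.1⁻¹ ∈ Subgroup.zpowers z := fun v =>
      Quotient.exact v.2.symm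
    choose n hn hnv using hrel
    let f : {v : S // Quotient.mk st v = Quotient.mk st x} × T → N × Subgroup.zpowers z :=
      fun p => (⟨n p.1, hn p.1⟩ * (p.2 : N),
        ⟨(n p.1 * p.2.1.1) * x.1 * (n p.1 * p.2.1.1)⁻¹ * p.1.1.1⁻¹, by
          exact h.rel_trans (hn p.1) (p.2.2.2 x.1 x.2.1) (hnv p.1)⟩)
    have hf : Function.Bijective f := by
      constructor
      · rintro ⟨v, m⟩ ⟨v', m'⟩ hh
        simp only [f, Prod.mk.injEq] at hh
        obtain ⟨h1, h2⟩ := hh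
        have h1' : n v * m.1.1 = n v' * m'.1.1 := congrArg Subtype.val h1
        have h2' := congrArg Subtype.val h2
        dsimp only at h2'
        rw [h1'] at h2'
        have hv : v = v' := Subtype.ext (Subtype.ext (inv_injective (mul_left_cancel h2')))
        subst hv
        exact Prod.ext rfl (Subtype.ext (Subtype.ext (mul_left_cancel h1')))
      · rintro ⟨k, c⟩
        have hk : (k : G) * x.1 * (k : G)⁻¹ ∈ (P : Subgroup G) :=
          (Subgroup.mem_normalizer_iff.1 k.2 x.1).1 x.2.1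
        have hvS : (c : G)⁻¹ * ((k : G) * x.1 * (k : G)⁻¹) ∈ (P : Subgroup G) ∧
            (c : G)⁻¹ * ((k : G) * x.1 * (k : G)⁻¹) ∉ Subgroup.zpowers z :=
          ⟨mul_mem (inv_mem (h.zpowers_le c.2)) hk, fun hh => h.notZ_conj x.2.2 k.2 (by
            simpa using mul_mem c.2 hh)⟩
        have hck : (k : G) * x.1 * (k : G)⁻¹ * ((c : G)⁻¹ * ((k : G) * x.1 * (k : G)⁻¹))⁻¹ =
            c := by group
        let v : {v : S // Quotient.mk st v = Quotient.mk st x} :=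
          ⟨⟨_, hvS⟩, (Quotient.sound (show st.r x ⟨_, hvS⟩ from
            ⟨k, k.2, by rw [hck]; exact c.2⟩)).symm⟩
        have hm : ((⟨n v, hn v⟩ : N)⁻¹ * k) ∈ T := by
          show (n v)⁻¹ * (k : G) ∈ h.triv
          refine h.pc_le_triv (h.stab (mul_mem (inv_mem (hn v)) k.2) x.2.1 x.2.2 ?_)
          refine h.rel_trans (inv_mem (hn v)) ?_ (h.rel_symm (hn v) (hnv v))
          rw [show v.1.1 = (c : G)⁻¹ * ((k : G) * x.1 * (k : G)⁻¹) from rfl, hck]
          exact c.2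
        refine ⟨(v, ⟨_, hm⟩), Prod.ext (mul_inv_cancel_left _ _) (Subtype.ext ?_)⟩
        show (n v * ((n v)⁻¹ * (k : G))) * x.1 * (n v * ((n v)⁻¹ * (k : G)))⁻¹ *
          ((c : G)⁻¹ * ((k : G) * x.1 * (k : G)⁻¹))⁻¹ = c
        rw [mul_inv_cancel_left, hck]
    have hc := Nat.card_congr (Equiv.ofBijective f hf)
    rw [Nat.card_prod, Nat.card_prod, h.card_Z, ← Subgroup.card_mul_index T, hTi] at hc
    have hT0 : 0 < Nat.card T := Nat.card_pos
    nlinarith
  haveI := Fintype.ofFinite (Quotient st)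
  have hsum : Nat.card S = Fintype.card (Quotient st) * (3 * e) := by
    rw [← Nat.card_congr (Equiv.sigmaFiberEquiv (Quotient.mk st)), Nat.card_sigma,
      Finset.sum_congr rfl fun q _ => hclass q, Finset.sum_const, Finset.card_univ, smul_eq_mul]
  refine ⟨Fintype.card (Quotient st),
    fun j => ((Fintype.equivFin (Quotient st)).symm j).out.1, by rw [hS] at hsum; nlinarith,
    fun j => ((Fintype.equivFin (Quotient st)).symm j).out.2.1,
    fun j => ((Fintype.equivFin (Quotient st)).symm j).out.2.2, fun u hu huZ => ?_,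
    fun i j m hm hh => ?_, fun j => ⟨n₀, n₀.2, ?_⟩⟩
  · refine ⟨Fintype.equivFin _ (Quotient.mk st ⟨u, hu, huZ⟩), ?_⟩
    have h1 : st.r (⟨u, hu, huZ⟩ : S) (Quotient.mk st (⟨u, hu, huZ⟩ : S)).out :=
      Quotient.exact (Quotient.out_eq _).symm
    rw [Equiv.symm_apply_apply]
    exact h1
  · have h1 : Quotient.mk st ((Fintype.equivFin (Quotient st)).symm i).out =
        Quotient.mk st ((Fintype.equivFin (Quotient st)).symm j).out :=
      Quotient.sound ⟨m, hm, hh⟩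
    rw [Quotient.out_eq, Quotient.out_eq] at h1
    exact (Fintype.equivFin (Quotient st)).symm.injective h1
  · exact hinv _ ((Fintype.equivFin (Quotient st)).symm j).out.2.1
      ((Fintype.equivFin (Quotient st)).symm j).out.2.2

end Hyp

end Cfsg.Agent.ThreeExtra
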