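import Cfsg.Agent.Lib.ThreeExtra.Data
import Cfsg.Agent.Lib.Blocks.SecondMain
import Cfsg.Agent.Lib.Blocks.ThirdMain
import Cfsg.Agent.Lib.BlockCount.SingularSum
import Cfsg.Agent.S4606
import Cfsg.Agent.S4646

/-!
# The principal block on the sections of the noncentral elements
-/

set_option autoImplicit false
set_option linter.unusedSectionVars false
set_option linter.style.haveILetI false

namespace Cfsg.Agent.ThreeExtra

open Cfsg Cfsg.Agent
open scoped ComplexConjugate Classical

universe u

variable {G : Type u} [Group G] [Fintype G] [Fact (Nat.Prime 3)] {z : G} {r : ℕ} {x : Fin r → G}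
  {M : Ideal AlgInt} [M.IsMaximal]

/-- The rank of the principal block of the centralizer of `a`. -/
noncomputable def lrank (M : Ideal AlgInt) (a : G) : ℕ :=
  blockRank 3 (principalBlock M (Subgroup.centralizer ({a} : Set G)))

/-- The integer value of a character at `x`. -/
noncomputable def ival (χ : IrrCharacter G) (a : G) : ℤ := ⌊(χ.1 a).re⌋

namespace Data

variable (D : Data G z x)
include D

theorem x_pow (j : Fin r) : ∃ k, orderOf (x j) = 3 ^ k := ⟨1, by rw [D.x_ord j, pow_one]⟩

theorem z_pow : ∃ k, orderOf z = 3 ^ k := ⟨1, by rw [D.z_ord, pow_one]⟩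

theorem zinv_pow : ∃ k, orderOf z⁻¹ = 3 ^ k := ⟨1, by rw [orderOf_inv, D.z_ord, pow_one]⟩

theorem x_ne_one (j : Fin r) : x j ≠ 1 := fun e => by
  have := D.x_ord j
  rw [e, orderOf_one] at this
  omega

theorem z_ne_one : z ≠ 1 := fun e => by
  have := D.z_ord
  rw [e, orderOf_one] at this
  omega

theorem x_zpowers (j : Fin r) {a : G} (ha : a ∈ Subgroup.zpowers (x j)) :
    a = 1 ∨ a = x j ∨ a = (x j)⁻¹ := by
  obtain ⟨i, rfl⟩ := ha
  dsimp only
  rw [← zpow_mod_orderOf, D.x_ord j]
  have h1 : 0 ≤ i % (3 : ℕ) := Int.emod_nonneg _ (by norm_num)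
  have h2 : i % (3 : ℕ) < 3 := Int.emod_lt_of_pos _ (by norm_num)
  generalize i % (3 : ℕ) = m at h1 h2
  interval_cases m
  · exact Or.inl (zpow_zero _)
  · exact Or.inr (Or.inl (zpow_one _))
  · right; right
    have h3 : (x j) ^ 3 = 1 := by rw [← D.x_ord j]; exact pow_orderOf_eq_one _
    rw [eq_inv_iff_mul_eq_one, ← h3, show (2 : ℤ) = ((2 : ℕ) : ℤ) from rfl, zpow_natCast, ← pow_succ]

theorem apply_inv (χ : IrrCharacter G) (j : Fin r) : χ.1 (x j)⁻¹ = χ.1 (x j) := by
  obtain ⟨c, hc⟩ := isConj_iff.1 (D.x_inv j)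
  rw [← hc, Blocks.irr_classFun χ]

theorem exists_int_cong (χ : IrrCharacter G) (j : Fin r) :
    ∃ a k : ℤ, χ.1 (x j) = a ∧ (Char.degree χ : ℤ) - a = 3 * k := by
  have h3 : Nat.card (Subgroup.zpowers (x j)) = 3 := by rw [Nat.card_zpowers, D.x_ord j]
  obtain ⟨a, k, ha, hk⟩ := BlockCount.exists_int_value (Subgroup.zpowers (x j)) χ (x := x j)
    (by rw [h3]; norm_num) fun a ha ha1 => by
      rcases D.x_zpowers j ha with e | e | e
      · exact absurd e ha1
      · rw [e]
      · rw [e, D.apply_inv χ j]
  exact ⟨a, k, ha, by rw [hk, h3]; rfl⟩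

theorem apply_eq_ival (χ : IrrCharacter G) (j : Fin r) : χ.1 (x j) = (ival χ (x j) : ℂ) := by
  obtain ⟨a, k, ha, -⟩ := D.exists_int_cong χ j
  simp [ival, ha, Complex.intCast_re, Int.floor_intCast]

theorem conj_apply (χ : IrrCharacter G) (j : Fin r) : conj (χ.1 (x j)) = χ.1 (x j) := by
  rw [D.apply_eq_ival χ j, map_intCast]

theorem dvd_degree_sub (χ : IrrCharacter G) (j : Fin r) :
    (3 : ℤ) ∣ (Char.degree χ : ℤ) - ival χ (x j) := by
  obtain ⟨a, k, ha, hk⟩ := D.exists_int_cong χ j
  have : ival χ (x j) = a := Int.cast_injective ((D.apply_eq_ival χ j).symm.trans ha)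
  exact ⟨k, by rw [this]; exact hk⟩

/-- The principal block is constant on the section of `x j`. -/
theorem apply_section (hM : IsPModular 3 M) {j : Fin r} {g : G} (hg : IsPPart 3 g (x j))
    {χ : IrrCharacter G} (hχ : χ ∈ principalBlock M G) : χ.1 g = χ.1 (x j) := by
  obtain ⟨s, hsg, hs⟩ := Blocks.exists_regular_factor hg
  rw [← hsg]
  exact Blocks.principal_apply_mul_core hM.2.2 (D.x_pow j) (Subgroup.mem_map_of_mem _
    ((DefectOne.index_pPrimeCore_of_hasNormalPComplement (D.compl j)).2 s hs)) hχ

theorem apply_section_conj (hM : IsPModular 3 M) {j : Fin r} {g u : G} (hg : IsPPart 3 g u)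
    (hu : IsConj (x j) u) {χ : IrrCharacter G} (hχ : χ ∈ principalBlock M G) :
    χ.1 g = χ.1 (x j) := by
  obtain ⟨c, hc⟩ := isConj_iff.1 hu.symm
  have h := Blocks.IsPPart.conj hg c
  rw [hc] at h
  rw [← D.apply_section hM h hχ, Blocks.irr_classFun χ]

theorem isPPart_self (j : Fin r) : IsPPart 3 (x j) (x j) :=
  ⟨1, mul_one _, Commute.one_right _, D.x_pow j, by simp⟩

/-- The columns at the `x j` are orthogonal with norm 9. -/
theorem gram (hM : IsPModular 3 M) (i j : Fin r) :
    ∑ χ ∈ Finset.univ.filter (· ∈ principalBlock M G), χ.1 (x i) * conj (χ.1 (x j)) =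
      if i = j then 9 else 0 := by
  have hpM := hM.2.2
  have hB := Blocks.isPBlock_principalBlock hpM (M := M) (G := G)
  split_ifs with h
  · subst h
    haveI := Fintype.ofFinite (Subgroup.centralizer ({x i} : Set G))
    have h1 : IsPRegular 3 (1 : Subgroup.centralizer ({x i} : Set G)) := by simp [IsPRegular]
    have := Blocks.second_main_orth hpM (D.x_pow i) hB h1 h1
    simp only [OneMemClass.coe_one, mul_one] at this
    rw [this, Blocks.inducingSet_principalBlock hpM (D.x_pow i)]
    obtain ⟨hidx, -⟩ := DefectOne.index_pPrimeCore_of_hasNormalPComplement (D.compl i)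
    rw [Finset.sum_congr (s₂ := Finset.univ.filter
        fun η : IrrCharacter (Subgroup.centralizer ({x i} : Set G)) =>
          Char.TrivOn (pPrimeCore 3 (Subgroup.centralizer ({x i} : Set G))) η.1)
        (Finset.filter_congr fun η _ => by
        rw [Blocks.principalBlock_eq_of_index hpM ⟨_, hidx⟩]; rfl) fun η _ =>
        show η.1 1 * conj (η.1 1) = ((charDegree η.1 ^ 2 : ℕ) : ℂ) by
          rw [← Char.charDegree_cast, map_natCast]; push_cast; ring,
      ← Nat.cast_sum, Char.sum_trivOn_degree_sq, hidx, D.fac i]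
    norm_num
  · exact Blocks.block_orthogonality hpM (D.isPPart_self i) (D.isPPart_self j)
      (fun e => h (D.x_inj i j e)) hB

theorem gram_int (hM : IsPModular 3 M) (i j : Fin r) :
    ∑ χ ∈ Finset.univ.filter (· ∈ principalBlock M G), ival χ (x i) * ival χ (x j) =
      if i = j then 9 else 0 := by
  have h := D.gram hM i j
  rw [Finset.sum_congr rfl (g := fun χ => ((ival χ (x i) * ival χ (x j) : ℤ) : ℂ)) fun χ _ => by
    rw [D.conj_apply χ j, D.apply_eq_ival χ i, D.apply_eq_ival χ j]; push_cast; rfl,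
    ← Int.cast_sum] at h
  split_ifs with hij
  · rw [if_pos hij] at h; exact_mod_cast h
  · rw [if_neg hij] at h; exact_mod_cast h

/-- The columns at the `x j` are orthogonal to the regular columns. -/
theorem orth_regular (hM : IsPModular 3 M) {g : G} (hg : IsPRegular 3 g) (j : Fin r) :
    ∑ χ ∈ Finset.univ.filter (· ∈ principalBlock M G), χ.1 g * χ.1 (x j) = 0 := by
  have hpM := hM.2.2
  have h := Blocks.block_orthogonality hpM (g := g) (h := x j) (x := 1)
    ⟨g, one_mul _, Commute.one_left _, ⟨0, by simp⟩, hg⟩ (D.isPPart_self j)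
    (fun e => D.x_ne_one j (isConj_one_right.1 e))
    (Blocks.isPBlock_principalBlock hpM (G := G))
  rw [← h]
  exact Finset.sum_congr rfl fun χ _ => by rw [D.conj_apply χ j]

/-- The singular elements are the disjoint union of the sections. -/
theorem sum_singular {E : Type*} [AddCommMonoid E] (pp : G → G) (hpp : ∀ g, IsPPart 3 g (pp g))
    (F : G → E) :
    ∑ g ∈ Finset.univ.filter (fun g : G => ¬ IsPRegular 3 g), F g =
      ∑ g ∈ Finset.univ.filter (fun g => IsConj z (pp g)), F g +
        ∑ g ∈ Finset.univ.filter (fun g => IsConj z⁻¹ (pp g)), F g +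
        ∑ j, ∑ g ∈ Finset.univ.filter (fun g => IsConj (x j) (pp g)), F g := by
  have hsing : ∀ g, ¬ IsPRegular 3 g ↔ pp g ≠ 1 := fun g => by
    obtain ⟨y, hy, hc, hk, hyr⟩ := hpp g
    constructor
    · intro hg e
      rw [e, one_mul] at hy
      exact hg (hy ▸ hyr)
    · intro hne hg
      have h1 : IsPPart 3 g 1 := ⟨g, one_mul _, Commute.one_left _, ⟨0, by simp⟩, hg⟩
      exact hne (Blocks.IsPPart.unique (hpp g) h1)
  rw [← Finset.sum_biUnion (s := (Finset.univ : Finset (Fin r)))
      (t := fun j => Finset.univ.filter fun g => IsConj (x j) (pp g))]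
  swap
  · intro i _ j _ hij
    exact Finset.disjoint_filter.2 fun g _ hi hj => hij (D.x_inj i j (hi.trans hj.symm))
  rw [← Finset.sum_union, ← Finset.sum_union]
  · refine Finset.sum_congr ?_ fun _ _ => rfl
    ext g
    simp only [Finset.mem_filter, Finset.mem_univ, true_and, Finset.mem_union, Finset.mem_biUnion,
      or_assoc]
    rw [hsing]
    refine ⟨fun h => D.cover _ (Blocks.IsPPart.isPElement (hpp g)) h, fun h e => ?_⟩
    rw [e] at h
    rcases h with h | h | ⟨j, h⟩
    · exact D.z_ne_one (isConj_one_left.1 h)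
    · exact D.z_ne_one (inv_eq_one.1 (isConj_one_left.1 h))
    · exact D.x_ne_one j (isConj_one_left.1 h)
  · refine Finset.disjoint_left.2 fun g h1 h2 => ?_
    simp only [Finset.mem_union, Finset.mem_biUnion, Finset.mem_filter, Finset.mem_univ,
      true_and] at h1 h2
    obtain ⟨j, h2⟩ := h2
    rcases h1 with h1 | h1
    · exact D.z_x j (h1.trans h2.symm)
    · exact D.zinv_x j (h1.trans h2.symm)
  · exact Finset.disjoint_filter.2 fun g _ h1 h2 => D.z_inv (h1.trans h2.symm)

/-- Each section of an `x j` contributes `|G|`. -/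
theorem sum_normAt_x (hM : IsPModular 3 M) (pp : G → G) (hpp : ∀ g, IsPPart 3 g (pp g))
    (j : Fin r) :
    ∑ g ∈ Finset.univ.filter (fun g => IsConj (x j) (pp g)),
      S4606.normAt (principalBlock M G) g = (Nat.card G : ℝ) := by
  haveI : CharP (AlgInt ⧸ M) 3 := Blocks.charP_residue hM.2.2
  rw [sum_class_principal hM pp hpp (D.x_pow j), lrank,
    (S4646.result 3 M hM).1 (BrauerPairs.isNilpotentBlock_principal_iff.2 (D.compl j)),
    Nat.cast_one, mul_one]
where
  sum_class_principal {G : Type u} [Group G] [Fintype G] [Fact (Nat.Prime 3)] {M : Ideal AlgInt}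
      [M.IsMaximal] (hM : IsPModular 3 M) (pp : G → G) (hpp : ∀ g, IsPPart 3 g (pp g)) {a : G}
      (ha : ∃ k, orderOf a = 3 ^ k) :
      ∑ g ∈ Finset.univ.filter (fun g => IsConj a (pp g)),
        S4606.normAt (principalBlock M G) g = (Nat.card G : ℝ) * (lrank M a : ℝ) := by
    have hpM := hM.2.2
    rw [S4606.sum_class_section hpM (Blocks.isPBlock_principalBlock hpM (G := G)) pp hpp ha]
    set C := Subgroup.centralizer ({a} : Set G)
    have hind := Blocks.inducingSet_principalBlock (M := M) hpM ha
    have hb : IsInducedBlock M C (principalBlock M C) (principalBlock M G) := by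
      have h : Char.trivialChar C ∈ Blocks.inducingSet M C (principalBlock M G) := by
        rw [hind]; exact Blocks.trivial_mem_principalBlock
      exact h
    have hset : {b : Set (IrrCharacter C) | IsInducedBlock M C b (principalBlock M G)} =
        {principalBlock M C} := Set.eq_singleton_iff_unique_mem.2 ⟨hb, fun b hb' => by
      obtain ⟨η, hη⟩ := Blocks.block_nonempty hb'.1
      have h : η ∈ Blocks.inducingSet M C (principalBlock M G) := by
        show IsInducedBlock M C (blockOf M η.1) (principalBlock M G)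
        rw [← Blocks.block_eq hb'.1 hη]; exact hb'
      rw [hind] at h
      rw [Blocks.block_eq hb'.1 hη, ← Blocks.block_eq (Blocks.isPBlock_principalBlock hpM) h]⟩
    rw [hset, finsum_mem_singleton]
    rfl

/-- Nine times the number of elements in the section of `x j` is the group order. -/
theorem nine_mul_card (hM : IsPModular 3 M) (pp : G → G) (hpp : ∀ g, IsPPart 3 g (pp g))
    (j : Fin r) :
    9 * ((Finset.univ.filter fun g => IsConj (x j) (pp g)).card : ℂ) = (Nat.card G : ℂ) := by
  have h := congrArg (fun t : ℝ => (t : ℂ)) (D.sum_normAt_x hM pp hpp j)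
  simp only [Complex.ofReal_sum, Complex.ofReal_natCast, S4606.normAt_coe] at h
  rw [← h, Finset.sum_congr rfl (g := fun _ => (9 : ℂ)) fun g hg => ?_, Finset.sum_const,
    nsmul_eq_mul, mul_comm]
  rw [Finset.sum_congr rfl (g := fun χ => χ.1 (x j) * conj (χ.1 (x j))) fun χ hχ => by
    rw [D.apply_section_conj hM (hpp g) (Finset.mem_filter.1 hg).2 (Finset.mem_filter.1 hχ).2],
    D.gram hM j j, if_pos rfl]

/-- `k - l` of the principal block. -/
theorem card_eq (hM : IsPModular 3 M) :
    Nat.card (principalBlock M G) =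
      blockRank 3 (principalBlock M G) + lrank M z + lrank M z⁻¹ + r := by
  have hpM := hM.2.2
  have hB := Blocks.isPBlock_principalBlock hpM (M := M) (G := G)
  choose pp hpp using fun g : G => Blocks.exists_isPPart (p := 3) g
  have h := BrauerPairs.card_sub_blockRank_union hpM (U := principalBlock M G)
    (fun η hη ψ hψ => by rw [Blocks.block_eq hB hη]; exact hψ)
  rw [Finset.sum_congr rfl fun g _ => (S4606.normAt_coe (principalBlock M G) g).symm] at h
  have hR : (Nat.card G : ℝ) * ((Nat.card (principalBlock M G) : ℝ) -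
      blockRank 3 (principalBlock M G)) =
      ∑ g ∈ Finset.univ.filter (fun g : G => ¬ IsPRegular 3 g),
        S4606.normAt (principalBlock M G) g := by
    refine Complex.ofReal_injective ?_
    simp only [Complex.ofReal_sum, ← h]
    push_cast
    rfl
  rw [D.sum_singular pp hpp, sum_normAt_x.sum_class_principal hM pp hpp D.z_pow,
    sum_normAt_x.sum_class_principal hM pp hpp D.zinv_pow,
    Finset.sum_congr rfl fun j _ => D.sum_normAt_x hM pp hpp j, Finset.sum_const, Finset.card_univ,
    Fintype.card_fin, nsmul_eq_mul] at hR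
  have h7 : (Nat.card (principalBlock M G) : ℝ) =
      ((blockRank 3 (principalBlock M G) + lrank M z + lrank M z⁻¹ + r : ℕ) : ℝ) := by
    have hG : (Nat.card G : ℝ) ≠ 0 := Nat.cast_ne_zero.2 Nat.card_pos.ne'
    apply mul_left_cancel₀ hG
    push_cast at hR ⊢
    linear_combination hR
  exact_mod_cast h7

end Data

theorem lrank_inv (z : G) : lrank M z⁻¹ = lrank M z := by
  have h : Subgroup.centralizer ({z⁻¹} : Set G) = Subgroup.centralizer ({z} : Set G) := by
    ext g
    simp only [Subgroup.mem_centralizer_singleton_iff]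
    exact ⟨fun e => (Commute.inv_right_iff.1 (show Commute g z⁻¹ from e)).eq,
      fun e => (show Commute g z from e).inv_right.eq⟩
  exact congrArg (fun H : Subgroup G => blockRank 3 (principalBlock M H)) h

end Cfsg.Agent.ThreeExtra
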